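import Cfsg.Agent.H398.RC.FieldSU
import Cfsg.Agent.ClassicalGeometry.HermOrtho
import Mathlib
import Cfsg.Agent.H916.RG.Pair_m3
import Cfsg.Agent.H189.SN.Fam
import Cfsg.Agent.H810.RC.Core_mg_m3
import Cfsg.Agent.LieClassical.SLGen
import Cfsg.Agent.H520.RC.MHom
import Cfsg.Agent.H202.RC.Point_mg_m3
import Cfsg.Agent.S0249
import Cfsg.Agent.TwoFusion.SLTwoFacts
import Cfsg.Agent.H749.BlockOrth_m3
import Cfsg.Agent.H510.CS.Irr_m3
import Cfsg.Agent.H578.RC.One_m3
import Cfsg.Agent.H93.RC.BoxB3_m3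
import Cfsg.Agent.H198.Classes
import Cfsg.Agent.S0243
import Cfsg.Agent.S0245
import Cfsg.Agent.S0246
import Cfsg.Agent.S0256
import Cfsg.Agent.S0270
import Cfsg.Agent.S0280
import Cfsg.Agent.S0283
import Cfsg.Agent.S2550
import Cfsg.Agent.FastGrp
import Cfsg.Agent.Prune
set_option linter.all false

section
prune_inst 0x7f00000000000000000000000000000000000000000000000000000000000000000000000000000000000000000000000000000000000000000000000000000000000000000000000000000000000000003fffffffffffffffffffffffffffaeffbdffffffff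

section
prune_inst 0xffedf8bbbe29dedfff7e7fa6d8cdfc3b911fffa4dff94b3fe02bdf0bdf038009c52b8d09e020fe0ed7421410a87843f97eeeffe26bd87ffffd1ff41ffbee4ff5f6b508519488340fbc0ff603f0778e7f000000000000000000000000000000000200000000

-- part: H380/RC/Point
section
prune_inst 0x12074040d6212000018009273201c42a2000422004b0c008402050204818c4028030e61b9200512029808450031006811000090424000000e0004000119008010801006a048010002009e000000000000000000000000000000000000010004000000000
set_option linter.all false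
open scoped Cfsg.Agent.FastGrp

/-!
# S3510, family E: the point rule and the long root rule for `PSU n F q` (helper380)

* `UEnv.conj_siegel` : `x * el (siegel u w μ) * x⁻¹ = el (siegel u (c ^ q • f w) (c * c ^ q * ρ μ))` if `f u = c • u`;
* `UEnv.mem_cmm_of_move` : `[Q_u, x] ≥ R_u` if `w - c ^ q • f w ∉ F u` for some `w ⟂ u`;
* `UEnv.mem_cmm_coprime` : the same for `x ≠ 1` of prime order `r` prime to `q`;
* `UEnv.mem_cmm_semi` : the same for `f` not linear;
* `UEnv.point`, `UEnv.root`, `UEnv.root_one`.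
-/

set_option autoImplicit false

namespace Cfsg.Agent.H380.RC

open Matrix Cfsg Cfsg.Agent.LieClassical.HermBasic Cfsg.Agent.LieClassical.HermSiegel
  Cfsg.Agent.LieClassical.HermGen Cfsg.Agent.LieClassical.SUBasic Cfsg.Agent.ClassicalGeometry.PSUAutBasic
  Cfsg.Agent.ClassicalGeometry.PSUAutCount Cfsg.Agent.LieClassical.FieldTransfer Cfsg.Agent.ClassicalGeometry

section geo

variable {F : Type*} [Field F] [Fintype F] {n q : ℕ}

/-- linear functionals are products with vectors -/
theorem exists_rep (hF : Fintype.card F = q ^ 2) (L : (Fin n → F) →ₗ[F] F) :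
    ∃ w : Fin n → F, ∀ v, hermForm n F q v w = L v := by
  refine ⟨fun i => (L (Pi.single i 1)) ^ q, fun v => ?_⟩
  rw [herm_def]
  have h1 : v = ∑ i, v i • (Pi.single i 1 : Fin n → F) := by
    funext j
    rw [Finset.sum_apply, Finset.sum_eq_single j]
    · simp
    · intro b _ hb
      simp [hb.symm]
    · simp
  conv_rhs => rw [h1]
  rw [map_sum]
  refine Finset.sum_congr rfl fun i _ => ?_
  rw [map_smul, pow_q_pow_q hF, smul_eq_mul]

/-- `w ∉ F u`: there is `z ⟂ u` with a given product with `w` -/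
theorem exists_perp_eq (hF : Fintype.card F = q ^ 2) {u w : Fin n → F} (h : ∀ c : F, w ≠ c • u) (a : F) :
    ∃ z : Fin n → F, hermForm n F q z u = 0 ∧ hermForm n F q z w = a := by
  have h1 : w ∉ Submodule.span F {u} := by
    rw [Submodule.mem_span_singleton]
    rintro ⟨c, hc⟩
    exact h c hc.symm
  obtain ⟨L, hL, hLu⟩ := Submodule.exists_le_ker_of_notMem h1
  obtain ⟨z, hz⟩ := exists_rep hF L
  have h2 : hermForm n F q u z = 0 := by
    rw [hz]
    exact hLu (Submodule.mem_span_singleton_self u)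
  have h3 : hermForm n F q w z ≠ 0 := by rwa [hz]
  have h4 : hermForm n F q z w ≠ 0 := fun h0 => h3 (herm_eq_zero_swap hF h0)
  refine ⟨(a * (hermForm n F q z w)⁻¹) • z, ?_, ?_⟩
  · rw [herm_smul_left, herm_eq_zero_swap hF h2, mul_zero]
  · rw [herm_smul_left, mul_assoc, inv_mul_cancel₀ h4, mul_one]

/-- the second parameter of a Siegel transformation -/
theorem exists_mu (hF : Fintype.card F = q ^ 2) {u w : Fin n → F} (hu : hermForm n F q u u = 0)
    (hw : hermForm n F q w u = 0) : ∃ μ : F, IsSiegel q u w μ := by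
  obtain ⟨μ, hμ⟩ := exists_trace_eq hF (c := -hermForm n F q w w) (by rw [neg_pow_q hF, herm_self_pow hF])
  exact ⟨μ, hu, hw, by rw [hμ]; ring⟩

/-- trace zero elements are of the form `c - c ^ q` -/
theorem exists_sub_pow (hF : Fintype.card F = q ^ 2) {μ : F} (hμ : μ + μ ^ q = 0) : ∃ c : F, c - c ^ q = μ := by
  obtain ⟨t, ht⟩ := exists_trace_ne hF
  refine ⟨μ * t * (t + t ^ q)⁻¹, ?_⟩
  have h1 : (t + t ^ q) ^ q = t + t ^ q := trace_pow_q hF t
  have h2 : μ ^ q = -μ := (neg_eq_of_add_eq_zero_right hμ).symm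
  rw [mul_pow, mul_pow, inv_pow, h1, h2]
  have h3 : μ * t * (t + t ^ q)⁻¹ - -μ * t ^ q * (t + t ^ q)⁻¹ = μ * ((t + t ^ q) * (t + t ^ q)⁻¹) := by ring
  rw [h3, mul_inv_cancel₀ ht, mul_one]

/-- commutators of Siegel transformations -/
theorem siegel_comm (hF : Fintype.card F = q ^ 2) {u w w' : Fin n → F} {μ μ' ν : F}
    (h : IsSiegel q u w μ) (h' : IsSiegel q u w' μ') (hν : ν + ν ^ q = 0)
    (he : ν = hermForm n F q w w' - hermForm n F q w' w) :
    siegel hF u w μ h * siegel hF u w' μ' h' * (siegel hF u w μ h)⁻¹ * (siegel hF u w' μ' h')⁻¹ =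
      transv hF u h.iso ν hν := by
  rw [mul_inv_eq_iff_eq_mul, mul_inv_eq_iff_eq_mul, siegel_mul, transv, siegel_mul, siegel_mul]
  apply siegel_congr
  · rfl
  · rw [zero_add, add_comm]
  · rw [zero_add, herm_zero_right hF, he]
    ring

/-- transvections commute with Siegel transformations -/
theorem transv_comm (hF : Fintype.card F = q ^ 2) {u w : Fin n → F} {μ ν : F}
    (h : IsSiegel q u w μ) (hν : ν + ν ^ q = 0) :
    siegel hF u w μ h * transv hF u h.iso ν hν = transv hF u h.iso ν hν * siegel hF u w μ h := by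
  rw [transv, siegel_mul, siegel_mul]
  apply siegel_congr
  · rfl
  · rw [add_zero, zero_add]
  · rw [herm_zero_left, herm_zero_right hF]
    ring

variable {f : (Fin n → F) → (Fin n → F)} {α : MulAut (PSU n F q)}

/-- conjugates of Siegel transformations -/
theorem ind_siegel (hF : Fintype.card F = q ^ 2) (hadd : ∀ v w, f (v + w) = f v + f w) {ρ : F ≃+* F}
    (hs : ∀ (c : F) (v : Fin n → F), f (c • v) = ρ c • f v)
    (hh : ∀ u v, hermForm n F q (f u) (f v) = ρ (hermForm n F q u v)) {u w : Fin n → F} {μ : F}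
    (h : IsSiegel q u w μ) : ∃ h' : IsSiegel q (f u) (f w) (ρ μ), ∀ v,
      f (act (siegel hF u w μ h) v) = act (siegel hF (f u) (f w) (ρ μ) h') (f v) := by
  refine ⟨⟨by rw [hh, h.iso, map_zero], by rw [hh, h.orth, map_zero], by
    rw [hh, ← map_pow, ← map_add, ← map_add, h.tr, map_zero]⟩, fun v => ?_⟩
  rw [act_siegel, act_siegel, hadd, hadd, hs, hs, hh, hh, map_sub, map_mul]

/-- the same if `f u = c • u` -/
theorem ind_siegel' (hF : Fintype.card F = q ^ 2) (hadd : ∀ v w, f (v + w) = f v + f w) {ρ : F ≃+* F}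
    (hs : ∀ (c : F) (v : Fin n → F), f (c • v) = ρ c • f v)
    (hh : ∀ u v, hermForm n F q (f u) (f v) = ρ (hermForm n F q u v)) {u w : Fin n → F} {μ c : F}
    (h : IsSiegel q u w μ) (hc : f u = c • u) : ∃ h' : IsSiegel q u (c ^ q • f w) (c * c ^ q * ρ μ), ∀ v,
      f (act (siegel hF u w μ h) v) = act (siegel hF u (c ^ q • f w) (c * c ^ q * ρ μ) h') (f v) := by
  obtain ⟨h1, h2⟩ := ind_siegel hF hadd hs hh h
  have hc0 : c = 0 ∨ c ≠ 0 := em _
  have h3 : IsSiegel q u (f w) (ρ μ) := by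
    refine ⟨h.iso, ?_, h1.tr⟩
    rcases hc0 with h0 | h0
    · have h4 : f u = 0 := by rw [hc, h0, zero_smul]
      have h5 : hermForm n F q u u = 0 := h.iso
      by_cases hu : u = 0
      · rw [hu, herm_zero_right hF]
      · exfalso
        obtain ⟨z, hz⟩ := exists_herm_ne_zero hF hu
        have h6 := hh u z
        rw [h4, herm_zero_left] at h6
        exact hz ((map_eq_zero ρ).1 h6.symm)
    · have h4 := h1.orth
      rw [hc, herm_smul_right] at h4
      exact (mul_eq_zero.1 h4).resolve_left (pow_ne_zero _ h0)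
  refine ⟨h3.smul' hF, fun v => ?_⟩
  rw [h2]
  congr 1
  rw [← siegel_smul hF h3]
  exact siegel_congr hF _ _ hc rfl rfl

end geo

namespace UEnv

variable {G Ω : Type*} [Group G] [MulAction G Ω] {N : Subgroup G} {F : Type*} [Field F] [Fintype F] {n q : ℕ}

/-- the image of the group `Q_u` -/
def Q (U : UEnv G Ω N F n q) (u : Fin n → F) (hu : hermForm n F q u u = 0) : Subgroup G := (siegG U.hF u hu).map U.el

variable {U : UEnv G Ω N F n q} {x y : G} {f g : (Fin n → F) → (Fin n → F)} {u : Fin n → F}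
  {hu : hermForm n F q u u = 0}

theorem siegel_mem_Q {w : Fin n → F} {μ : F} (h : IsSiegel q u w μ) : U.el (siegel U.hF u w μ h) ∈ U.Q u hu :=
  ⟨_, ⟨w, μ, h, rfl⟩, rfl⟩

theorem mem_Q : x ∈ U.Q u hu ↔ ∃ (w : Fin n → F) (μ : F) (h : IsSiegel q u w μ), x = U.el (siegel U.hF u w μ h) := by
  constructor
  · rintro ⟨_, ⟨w, μ, h, rfl⟩, rfl⟩
    exact ⟨w, μ, h, rfl⟩
  · rintro ⟨w, μ, h, rfl⟩
    exact siegel_mem_Q h

/-- conjugation of a Siegel transformation -/
theorem conj_siegel (h : U.Lft x f) {ρ : F ≃+* F} (hs : ∀ (c : F) (v : Fin n → F), f (c • v) = ρ c • f v)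
    (hh : ∀ u v, hermForm n F q (f u) (f v) = ρ (hermForm n F q u v)) {w : Fin n → F} {μ c : F}
    (hw : IsSiegel q u w μ) (hc : f u = c • u) : ∃ h' : IsSiegel q u (c ^ q • f w) (c * c ^ q * ρ μ),
      x * U.el (siegel U.hF u w μ hw) * x⁻¹ = U.el (siegel U.hF u (c ^ q • f w) (c * c ^ q * ρ μ) h') := by
  obtain ⟨h1, h2⟩ := ind_siegel' U.hF (Ind.map_add h) hs hh hw hc
  exact ⟨h1, h.conj_el h2⟩

theorem conj_mem_Q (h : U.Lft x f) {c : F} (hc : f u = c • u) (hy : y ∈ U.Q u hu) : x * y * x⁻¹ ∈ U.Q u hu := by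
  obtain ⟨w, μ, hw, rfl⟩ := mem_Q.1 hy
  obtain ⟨ρ, hs, hh⟩ := Ind.exists_rho h
  obtain ⟨h1, h2⟩ := conj_siegel h hs hh hw hc
  rw [h2]
  exact siegel_mem_Q h1

theorem Q_comm {μ : F} (hμ : μ + μ ^ q = 0) (hy : y ∈ U.Q u hu) :
    y * U.el (transv U.hF u hu μ hμ) = U.el (transv U.hF u hu μ hμ) * y := by
  obtain ⟨w, ν, hw, rfl⟩ := mem_Q.1 hy
  rw [← map_mul, ← map_mul]
  exact congrArg U.el (transv_comm U.hF hw hμ)

/-- `Q_u` is a `p`-group -/
theorem isPGroup_Q (U : UEnv G Ω N F n q) (hu : hermForm n F q u u = 0) (p : ℕ) [Fact p.Prime] [CharP F p] :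
    IsPGroup p (U.Q u hu) :=
  (isPGroup_siegG U.hF p hu).map U.el

/-- transvections are nontrivial -/
theorem el_transv_ne (U : UEnv G Ω N F n q) (hu : hermForm n F q u u = 0) (hu0 : u ≠ 0) {μ : F} (hμ : μ + μ ^ q = 0)
    (hμ0 : μ ≠ 0) : U.el (transv U.hF u hu μ hμ) ≠ 1 := by
  intro h1
  obtain ⟨c, hc⟩ := (U.lft_el (transv U.hF u hu μ hμ)).eq_one_iff.1 h1
  obtain ⟨z, hz⟩ := exists_herm_ne_zero U.hF hu0
  have hz' : hermForm n F q z u ≠ 0 := fun h0 => hz (herm_eq_zero_swap U.hF h0)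
  have h2 := hc u
  rw [act_transv, hu, mul_zero, zero_smul, add_zero] at h2
  have hc1 : c = 1 := by
    have h3 : (c - 1) • u = 0 := by rw [sub_smul, one_smul, ← h2, sub_self]
    exact sub_eq_zero.1 ((smul_eq_zero.1 h3).resolve_right hu0)
  have h3 := hc z
  rw [act_transv, hc1, one_smul, add_eq_left] at h3
  rcases smul_eq_zero.1 h3 with h4 | h4
  · rcases mul_eq_zero.1 h4 with h5 | h5
    · exact hμ0 h5
    · exact hz' h5
  · exact hu0 h4

/-- **`[Q_u, x]` contains `R_u`** -/
theorem mem_cmm_of_move (h : U.Lft x f) {c : F} (hc : f u = c • u) {w : Fin n → F} (hw : hermForm n F q w u = 0)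
    (hmove : ∀ a : F, w - c ^ q • f w ≠ a • u) {μ : F} (hμ : μ + μ ^ q = 0) :
    U.el (transv U.hF u hu μ hμ) ∈ cmm (U.Q u hu) x := by
  obtain ⟨ρ, hs, hh⟩ := Ind.exists_rho h
  obtain ⟨ν, hν⟩ := exists_mu U.hF hu hw
  obtain ⟨h1, h2⟩ := conj_siegel h hs hh hν hc
  -- the commutator with `x`
  set s := siegel U.hF u w ν hν with hsdef
  have h3 : U.el s * x * (U.el s)⁻¹ * x⁻¹ ∈ cmm (U.Q u hu) x := mem_cmm (siegel_mem_Q hν)
  have h4 : U.el s * x * (U.el s)⁻¹ * x⁻¹ = U.el (s * (siegel U.hF u (c ^ q • f w) (c * c ^ q * ρ ν) h1)⁻¹) := by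
    rw [map_mul, map_inv, ← h2]
    group
  rw [h4, siegel_inv, siegel_mul] at h3
  obtain ⟨b, hb⟩ := exists_sub_pow U.hF hμ
  obtain ⟨z, hz1, hz2⟩ := exists_perp_eq U.hF (w := w + -(c ^ q • f w))
    (by intro a; rw [← sub_eq_add_neg]; exact hmove a) b
  obtain ⟨κ, hκ⟩ := exists_mu U.hF hu hz1
  have h5 := cmm_comm (siegel_mem_Q (U := U) (hu := hu) hκ) h3
  rw [← map_inv, ← map_inv, ← map_mul, ← map_mul, ← map_mul] at h5
  rw [siegel_comm U.hF hκ (hν.mul U.hF (h1.inv U.hF)) hμ (by rw [herm_swap U.hF z, hz2, hb])] at h5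
  exact h5

/-- vectors orthogonal to `u`, not multiples of `u` -/
theorem exists_perp_not (U : UEnv G Ω N F n q) (u : Fin n → F) :
    ∃ w : Fin n → F, hermForm n F q w u = 0 ∧ ∀ a : F, w ≠ a • u := by
  by_contra hcon
  push Not at hcon
  let L : (Fin n → F) →ₗ[F] F :=
    { toFun := fun v => hermForm n F q v u
      map_add' := fun v w => herm_add_left v w u
      map_smul' := fun c v => herm_smul_left c v u }
  have h1 := L.finrank_range_add_finrank_ker
  have h2 : Module.finrank F (LinearMap.range L) ≤ 1 := by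
    refine (Submodule.finrank_le _).trans ?_
    rw [Module.finrank_self]
  have h3 : LinearMap.ker L ≤ Submodule.span F {u} := by
    intro w hw
    obtain ⟨a, ha⟩ := hcon w hw
    rw [Submodule.mem_span_singleton]
    exact ⟨a, ha.symm⟩
  have h4 := Submodule.finrank_mono h3
  have h5 : Module.finrank F (Submodule.span F {u}) ≤ 1 := by
    refine (finrank_span_le_card (R := F) ({u} : Set (Fin n → F))).trans ?_
    simp
  rw [Module.finrank_fin_fun] at h1
  have := U.hn
  omega

/-- `f` not linear: `x` moves `Q_u / R_u` -/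
theorem move_of_semi (h : U.Lft x f) {c : F} (hc0 : c ≠ 0) (hnl : ¬ ∀ (c : F) (v : Fin n → F), f (c • v) = c • f v) :
    ∃ w : Fin n → F, hermForm n F q w u = 0 ∧ ∀ a : F, w - c ^ q • f w ≠ a • u := by
  obtain ⟨ρ, hs, hh⟩ := Ind.exists_rho h
  obtain ⟨b, hb⟩ : ∃ b : F, ρ b ≠ b := by
    by_contra hcon
    push Not at hcon
    exact hnl fun c v => by rw [hs, hcon]
  obtain ⟨w, hw1, hw2⟩ := U.exists_perp_not u
  by_contra hcon
  push Not at hcon
  obtain ⟨a, ha⟩ := hcon w hw1
  obtain ⟨a', ha'⟩ := hcon (b • w) (by rw [herm_smul_left, hw1, mul_zero])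
  rw [hs, smul_comm] at ha'
  -- `(b - ρ b) w` is a multiple of `u`
  have h1 : c ^ q • f w = w - a • u := by rw [← ha]; abel
  rw [h1, smul_sub, ← sub_add, ← sub_smul, smul_smul] at ha'
  have h2 : (b - ρ b) • w = (a' - ρ b * a) • u := by rw [sub_smul a', ← ha']; abel
  have h3 : b - ρ b ≠ 0 := sub_ne_zero.2 (Ne.symm hb)
  apply hw2 ((b - ρ b)⁻¹ * (a' - ρ b * a))
  rw [mul_smul, ← h2, smul_smul, inv_mul_cancel₀ h3, one_smul]

/-- powers of a unipotent element of class 3 -/
theorem pow_unip {V : Type*} [AddCommGroup V] [Module F V] {δ : Module.End F V} (hδ : δ * δ * δ = 0) (k : ℕ) :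
    (1 + δ) ^ k = 1 + (k : F) • δ + ((k.choose 2 : ℕ) : F) • (δ * δ) := by
  induction k with
  | zero => simp
  | succ k ih =>
    rw [pow_succ, ih, Nat.choose_succ_succ' k 1, Nat.choose_one_right]
    simp only [add_mul, mul_add, mul_one, one_mul, smul_mul_assoc, hδ, smul_zero, add_zero, Nat.cast_add, Nat.cast_one,
      add_smul, one_smul]
    abel

theorem natCast_ne_zero (hF : Fintype.card F = q ^ 2) {r : ℕ} (hr : r.Prime) (hrq : r.Coprime q) : (r : F) ≠ 0 := by
  intro h0
  obtain ⟨p, k, hp, hchar, hk, hk0⟩ := exists_prime_pow hF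
  have h1 : p ∣ r := (CharP.cast_eq_zero_iff F p r).1 h0
  have h2 : p = r := (Nat.prime_dvd_prime_iff_eq hp hr).1 h1
  have h3 : r ∣ q := by
    rw [hk, h2]
    exact dvd_pow_self r hk0.ne'
  have h4 := Nat.eq_one_of_dvd_coprimes hrq dvd_rfl h3
  exact hr.one_lt.ne' h4

/-- `x ≠ 1` of prime order prime to `q` moves `Q_u / R_u` -/
theorem move_of_coprime (h : U.Lft x f) {c : F} (hc : f u = c • u) (hu : hermForm n F q u u = 0) (hu0 : u ≠ 0)
    {r : ℕ} (hr : r.Prime) (hrq : r.Coprime q) (hx : x ^ r = 1) (hx1 : x ≠ 1) :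
    ∃ w : Fin n → F, hermForm n F q w u = 0 ∧ ∀ a : F, w - c ^ q • f w ≠ a • u := by
  have hF := U.hF
  have hc0 : c ≠ 0 := by
    rintro rfl
    rw [zero_smul, ← Ind.map_zero h] at hc
    exact hu0 (Ind.injective h hc)
  by_cases hl : ∀ (c : F) (v : Fin n → F), f (c • v) = c • f v
  · by_contra hcon
    push Not at hcon
    obtain ⟨ρ, hs, hh'⟩ := Ind.exists_rho h
    have hρ : ∀ b : F, ρ b = b := by
      intro b
      have h1 := hl b u
      rw [hs, hc, smul_smul, smul_smul] at h1
      have h2 : (ρ b * c - b * c) • u = 0 := by rw [sub_smul, h1, sub_self]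
      have h3 := (smul_eq_zero.1 h2).resolve_right hu0
      rw [← sub_mul] at h3
      exact sub_eq_zero.1 ((mul_eq_zero.1 h3).resolve_right hc0)
    have hh : ∀ v w, hermForm n F q (f v) (f w) = hermForm n F q v w := fun v w => by rw [hh', hρ]
    -- `c` has norm one
    have hcc : c * c ^ q = 1 := by
      obtain ⟨w, hw1, hw2⟩ := U.exists_perp_not u
      obtain ⟨z, hz1, hz2⟩ := exists_perp_eq hF hw2 1
      obtain ⟨a, ha⟩ := hcon w hw1
      obtain ⟨b, hb⟩ := hcon z hz1
      have e1 : c ^ q • f w = w - a • u := by rw [← ha]; abel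
      have e2 : c ^ q • f z = z - b • u := by rw [← hb]; abel
      have e3 : hermForm n F q (c ^ q • f z) (c ^ q • f w) = hermForm n F q z w := by
        rw [e1, e2, herm_sub_left, herm_sub_right hF, herm_sub_right hF, herm_smul_left, herm_smul_left,
          herm_smul_right, herm_smul_right, hu, hz1, herm_eq_zero_swap hF hw1]
        ring
      rw [herm_smul_left, herm_smul_right, hh, hz2, mul_one, pow_q_pow_q hF] at e3
      rw [mul_comm]
      exact e3
    have hcc' : c ^ q * (c ^ q) ^ q = 1 := by rw [pow_q_pow_q hF, mul_comm, hcc]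
    -- the normalised lift
    obtain ⟨g, hg⟩ : ∃ g : (Fin n → F) → (Fin n → F), g = fun v => c ^ q • f v := ⟨_, rfl⟩
    have hgL : U.Lft x g := by rw [hg]; exact h.scalar hcc'
    have hgu : g u = u := by
      rw [hg]
      change c ^ q • f u = u
      rw [hc, smul_smul, mul_comm, hcc, one_smul]
    let δ : Module.End F (Fin n → F) :=
      { toFun := fun v => g v - v
        map_add' := fun v w => by rw [Ind.map_add hgL]; abel
        map_smul' := fun b v => by
          rw [hg]
          change c ^ q • f (b • v) - b • v = b • (c ^ q • f v - v)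
          rw [hl, smul_comm, smul_sub] }
    have hδ : ∀ v, δ v = g v - v := fun v => rfl
    have hgh : ∀ v w, hermForm n F q (g v) (g w) = hermForm n F q v w := by
      intro v w
      rw [hg]
      change hermForm n F q (c ^ q • f v) (c ^ q • f w) = _
      rw [herm_smul_left, herm_smul_right, hh, ← mul_assoc, hcc', one_mul]
    have h1 : ∀ v, hermForm n F q (δ v) u = 0 := by
      intro v
      rw [hδ, herm_sub_left]
      nth_rewrite 1 [← hgu]
      rw [hgh, sub_self]
    have h2 : ∀ w, hermForm n F q w u = 0 → ∃ a : F, δ w = a • u := by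
      intro w hw
      obtain ⟨a, ha⟩ := hcon w hw
      refine ⟨-a, ?_⟩
      rw [neg_smul, ← ha, hδ, hg]
      abel
    have h3 : δ u = 0 := by rw [hδ, hgu, sub_self]
    have hδ3 : δ * δ * δ = 0 := by
      refine LinearMap.ext fun v => ?_
      change δ (δ (δ v)) = 0
      obtain ⟨a, ha⟩ := h2 _ (h1 v)
      rw [ha, map_smul, h3, smul_zero]
    have hG : ∀ (k : ℕ) v, ((1 + δ) ^ k) v = g^[k] v := by
      intro k
      induction k with
      | zero => intro v; rfl
      | succ k ih =>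
        intro v
        rw [pow_succ, Module.End.mul_apply, ih, Function.iterate_succ_apply]
        congr 1
        change v + δ v = g v
        rw [hδ]
        abel
    have hGr : (1 + δ) ^ r = 1 := by
      obtain ⟨d, hd⟩ := (hgL.pow r).eq_one_iff.1 hx
      have hit : g^[r] u = u := Function.iterate_fixed hgu r
      have hd1 : d = 1 := by
        have h4 := hd u
        rw [hit] at h4
        have h5 : (d - 1) • u = 0 := by rw [sub_smul, one_smul, ← h4, sub_self]
        exact sub_eq_zero.1 ((smul_eq_zero.1 h5).resolve_right hu0)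
      refine LinearMap.ext fun v => ?_
      rw [hG, hd, hd1, one_smul]
      rfl
    have hr0 : (r : F) ≠ 0 := natCast_ne_zero hF hr hrq
    have h4 := pow_unip (F := F) hδ3 r
    rw [hGr, add_assoc, left_eq_add] at h4
    have h5 : δ * δ = 0 := by
      have h6 := congrArg (fun z => z * δ) h4
      simp only [add_mul, smul_mul_assoc, hδ3, smul_zero, add_zero, zero_mul] at h6
      exact (smul_eq_zero.1 h6).resolve_left hr0
    rw [h5, smul_zero, add_zero] at h4
    have h6 := (smul_eq_zero.1 h4).resolve_left hr0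
    apply hx1
    rw [hgL.eq_one_iff]
    refine ⟨1, fun v => ?_⟩
    have h7 := hδ v
    rw [h6] at h7
    rw [one_smul]
    exact (sub_eq_zero.1 h7.symm)
  · exact move_of_semi h hc0 hl

/-- `[Q_u, x]` contains `R_u`, coprime case -/
theorem mem_cmm_coprime (h : U.Lft x f) {c : F} (hc : f u = c • u) (hu0 : u ≠ 0)
    {r : ℕ} (hr : r.Prime) (hrq : r.Coprime q) (hx : x ^ r = 1) (hx1 : x ≠ 1) {μ : F} (hμ : μ + μ ^ q = 0) :
    U.el (transv U.hF u hu μ hμ) ∈ cmm (U.Q u hu) x := by
  obtain ⟨w, hw1, hw2⟩ := move_of_coprime h hc hu hu0 hr hrq hx hx1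
  exact mem_cmm_of_move h hc hw1 hw2 hμ

/-- `[Q_u, x]` contains `R_u`, `f` not linear -/
theorem mem_cmm_semi (h : U.Lft x f) {c : F} (hc : f u = c • u) (hu0 : u ≠ 0)
    (hnl : ¬ ∀ (c : F) (v : Fin n → F), f (c • v) = c • f v) {μ : F} (hμ : μ + μ ^ q = 0) :
    U.el (transv U.hF u hu μ hμ) ∈ cmm (U.Q u hu) x := by
  have hc0 : c ≠ 0 := by
    rintro rfl
    rw [zero_smul, ← Ind.map_zero h] at hc
    exact hu0 (Ind.injective h hc)
  obtain ⟨w, hw1, hw2⟩ := move_of_semi (u := u) h hc0 hnl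
  exact mem_cmm_of_move h hc hw1 hw2 hμ

section rules

variable {ι : Type*} [Finite ι] [Nonempty Ω] [Finite G]

/-- the order of `Q_u` is prime to `r` -/
theorem coprime_card_Q (U : UEnv G Ω N F n q) (hu : hermForm n F q u u = 0) {r : ℕ} (hr : r.Prime) (hrq : r.Coprime q) :
    r.Coprime (Nat.card (U.Q u hu)) := by
  obtain ⟨p, k, hp, hchar, hk, hk0⟩ := exists_prime_pow U.hF
  have := Fact.mk hp
  obtain ⟨m, hm⟩ := IsPGroup.iff_card.1 (U.isPGroup_Q hu p)
  rw [hm]
  apply Nat.Coprime.pow_right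
  rw [Nat.coprime_primes hr hp]
  rintro rfl
  have h3 : r ∣ q := by
    rw [hk]
    exact dvd_pow_self r hk0.ne'
  exact hr.one_lt.ne' (Nat.eq_one_of_dvd_coprimes hrq dvd_rfl h3)

theorem isNilpotent_Q (U : UEnv G Ω N F n q) (hu : hermForm n F q u u = 0) : Group.IsNilpotent (U.Q u hu) := by
  obtain ⟨p, k, hp, hchar, hk, hk0⟩ := exists_prime_pow U.hF
  have := Fact.mk hp
  exact (U.isPGroup_Q hu p).isNilpotent

/-- **Point rule.** Commuting elements of prime orders prime to `q` with a common singular point do not cover. -/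
theorem point (U : UEnv G Ω N F n q) {x : ι → G} {f : ι → (Fin n → F) → (Fin n → F)} {r : ι → ℕ}
    (hr : ∀ i, (r i).Prime) (hrq : ∀ i, (r i).Coprime q) (hx : ∀ i, x i ^ r i = 1) (hx1 : ∀ i, x i ≠ 1)
    (hcomm : ∀ i j, x i * x j = x j * x i) (hf : ∀ i, U.Lft (x i) (f i)) (hcov : H106.RC.Cov Ω x)
    (hu0 : u ≠ 0) (hu : hermForm n F q u u = 0) (hfu : ∀ i, ∃ c : F, f i u = c • u) : False := by
  obtain ⟨μ, hμ0, hμ⟩ := exists_trace_zero_ne U.hF
  refine not_cov_point U.env hr hx hcomm (U := U.Q u hu) hcov ?_ (U.isNilpotent_Q hu)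
    (fun i => U.coprime_card_Q hu (hr i) (hrq i)) (U.el_transv_ne hu hu0 hμ hμ0) ?_
  · intro i y hy
    obtain ⟨c, hc⟩ := hfu i
    exact conj_mem_Q (hf i) hc hy
  · intro i
    obtain ⟨c, hc⟩ := hfu i
    exact mem_cmm_coprime (hf i) hc hu0 (hr i) (hrq i) (hx i) (hx1 i) hμ

/-- **Long root rule.** A root element `y` of `R_u` and commuting elements of prime orders prime to `q` normalising
`R_u` do not cover. -/
theorem root (U : UEnv G Ω N F n q) {x : ι → G} {f : ι → (Fin n → F) → (Fin n → F)} {r : ι → ℕ}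
    (hr : ∀ i, (r i).Prime) (hrq : ∀ i, (r i).Coprime q) (hx : ∀ i, x i ^ r i = 1) (hx1 : ∀ i, x i ≠ 1)
    (hcomm : ∀ i j, x i * x j = x j * x i) (hf : ∀ i, U.Lft (x i) (f i))
    (hu0 : u ≠ 0) (hu : hermForm n F q u u = 0) (hfu : ∀ i, ∃ c : F, f i u = c • u) {μ : F} (hμ : μ + μ ^ q = 0)
    (hμ0 : μ ≠ 0) (hcov : ∀ ω : Ω, U.el (transv U.hF u hu μ hμ) • ω = ω ∨ ∃ i, x i • ω = ω) : False := by
  refine not_cov_lr U.env hr hx hcomm (U := U.Q u hu) hcov ?_ (U.isNilpotent_Q hu)
    (fun i => U.coprime_card_Q hu (hr i) (hrq i)) (fun y hy => Q_comm hμ hy) (U.el_transv_ne hu hu0 hμ hμ0) ?_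
  · intro i y hy
    obtain ⟨c, hc⟩ := hfu i
    exact conj_mem_Q (hf i) hc hy
  · intro i
    obtain ⟨c, hc⟩ := hfu i
    exact mem_cmm_coprime (hf i) hc hu0 (hr i) (hrq i) (hx i) (hx1 i) hμ

omit [Finite G] in
/-- **Long root rule for one element** which moves `Q_u / R_u` (no condition on the order) -/
theorem root_one_of_move (U : UEnv G Ω N F n q) (h : U.Lft x f) (hu0 : u ≠ 0) (hu : hermForm n F q u u = 0) {c : F}
    (hc : f u = c • u) {w : Fin n → F} (hw : hermForm n F q w u = 0)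
    (hmove : ∀ a : F, w - c ^ q • f w ≠ a • u) {μ : F} (hμ : μ + μ ^ q = 0) (hμ0 : μ ≠ 0)
    (hcov : ∀ ω : Ω, U.el (transv U.hF u hu μ hμ) • ω = ω ∨ x • ω = ω) : False :=
  not_cov_one U.env (U := U.Q u hu) hcov (fun y hy => Q_comm hμ hy) (U.el_transv_ne hu hu0 hμ hμ0)
    (mem_cmm_of_move h hc hw hmove hμ)

omit [Finite G] in
/-- **Long root rule for one element** which is not linear (no condition on the order) -/
theorem root_one (U : UEnv G Ω N F n q) (h : U.Lft x f) (hu0 : u ≠ 0) (hu : hermForm n F q u u = 0) {c : F}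
    (hc : f u = c • u) (hnl : ¬ ∀ (c : F) (v : Fin n → F), f (c • v) = c • f v) {μ : F} (hμ : μ + μ ^ q = 0)
    (hμ0 : μ ≠ 0) (hcov : ∀ ω : Ω, U.el (transv U.hF u hu μ hμ) • ω = ω ∨ x • ω = ω) : False :=
  not_cov_one U.env (U := U.Q u hu) hcov (fun y hy => Q_comm hμ hy) (U.el_transv_ne hu hu0 hμ hμ0)
    (mem_cmm_semi h hc hu0 hnl hμ)

end rules

end UEnv

end Cfsg.Agent.H380.RC
end

-- part: H993/RC/TwoDefs
section
prune_inst 0x10000000000000
set_option linter.all false
open scoped Cfsg.Agent.FastGrp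

/-!
# S3510, family E, box E10 (`CaseTwo`): common definitions and lemmas (helper993)

* `TwoB` : the statement of case B (no proper invariant nondegenerate subspace on which `f i₀` is not the identity);
* `lin_herm` : a linear lift is an isometry;
* `fam_char`, `fam_pow` : `r i₀` is the characteristic, `(f i₀)^[p] = id`;
* `fam_scal` : if `f i₀` is a scalar on `A` then it is the identity on `A`;
* `fam_two` : the structure of an invariant plane on which `f i₀` is not the identity.
-/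

set_option autoImplicit false

namespace Cfsg.Agent.H993.RC

open Matrix Cfsg Cfsg.Agent.LieClassical.HermBasic Cfsg.Agent.LieClassical.HermSiegel
  Cfsg.Agent.ClassicalGeometry.PSUAutBasic Cfsg.Agent.ClassicalGeometry.PSUAutCount Cfsg.Agent.H380.RC

/-- case B of `CaseTwo` -/
def TwoB : Prop :=
  NoC fun {_ _ _ _ _ F _ _ n q} _ {ι} _ f r => ¬ (n = 4 ∧ q = 2) ∧ (∀ i : ι, Lin (f i)) ∧
    H106.RC.IH (Nat.card (PSU n F q)) ∧
    ∃ i₀ : ι, ¬ (r i₀).Coprime q ∧ ∀ A : Submodule F (Fin n → F), NDeg q A → A ≠ ⊤ → (∀ i : ι, Stab (f i) A) →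
      ∀ v ∈ A, f i₀ v = v

section lin

variable {G Ω : Type*} [Group G] [MulAction G Ω] {N : Subgroup G} {F : Type*} [Field F] [Fintype F] {n q : ℕ}
  {U : UEnv G Ω N F n q} {x : G} {f : (Fin n → F) → (Fin n → F)}

/-- a linear lift is an isometry -/
theorem lin_herm (h : U.Lft x f) (hl : Lin f) (v w : Fin n → F) :
    hermForm n F q (f v) (f w) = hermForm n F q v w := by
  obtain ⟨ρ, hs, hh⟩ := Ind.exists_rho h
  have hρ : ∀ b : F, ρ b = b := by
    intro b
    have hn := U.hn
    let e : Fin n → F := Pi.single ⟨0, by omega⟩ 1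
    have he : e ≠ 0 := by
      intro h0
      have := congrFun h0 ⟨0, by omega⟩
      simp [e] at this
    have hfe : f e ≠ 0 := by
      intro h0
      rw [← Ind.map_zero h] at h0
      exact he (Ind.injective h h0)
    have h1 := hl b e
    rw [hs] at h1
    have h2 : (ρ b - b) • f e = 0 := by rw [sub_smul, h1, sub_self]
    exact sub_eq_zero.1 ((smul_eq_zero.1 h2).resolve_right hfe)
  rw [hh, hρ]

/-- the linear map of a linear lift -/
def lmap (h : U.Lft x f) (hl : Lin f) : Module.End F (Fin n → F) :=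
  { toFun := f, map_add' := Ind.map_add h, map_smul' := hl }

theorem lmap_pow (h : U.Lft x f) (hl : Lin f) (k : ℕ) (v : Fin n → F) : (lmap h hl ^ k) v = f^[k] v := by
  induction k generalizing v with
  | zero => rfl
  | succ k ih => rw [pow_succ, Module.End.mul_apply, ih, Function.iterate_succ_apply]; rfl

omit [Fintype F] in
theorem iter_smul (hl : Lin f) (k : ℕ) (c : F) (v : Fin n → F) : f^[k] (c • v) = c • f^[k] v := by
  induction k generalizing v with
  | zero => rfl
  | succ k ih => rw [Function.iterate_succ_apply, hl, ih, Function.iterate_succ_apply]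

omit [Fintype F] in
theorem iter_eig (hl : Lin f) {c : F} {v : Fin n → F} (hv : f v = c • v) (k : ℕ) : f^[k] v = c ^ k • v := by
  induction k with
  | zero => simp
  | succ k ih => rw [Function.iterate_succ_apply, hv, iter_smul hl, ih, smul_smul, pow_succ']

end lin

section chr

variable {F : Type*} [Field F]

/-- `p`-power roots of unity are trivial in characteristic `p` -/
theorem eq_one_of_pow_char {p : ℕ} [Fact p.Prime] [CharP F p] {c : F} {k : ℕ} (h : c ^ p ^ k = 1) : c = 1 := by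
  have h1 : (c - 1) ^ p ^ k = 0 := by rw [sub_pow_char_pow, h, one_pow, sub_self]
  exact sub_eq_zero.1 (pow_eq_zero_iff (pow_ne_zero _ (Fact.out : p.Prime).ne_zero) |>.1 h1)

end chr

section fam

variable {G Ω : Type*} [Group G] [MulAction G Ω] {N : Subgroup G} {F : Type*} [Field F] [Fintype F] {n q : ℕ}
  {U : UEnv G Ω N F n q} {ι : Type*} {x : ι → G} {f : ι → (Fin n → F) → (Fin n → F)} {r : ι → ℕ}

/-- `r i₀` is the characteristic -/
theorem fam_char (hU : UFam U x f r) {i₀ : ι} (h0 : ¬ (r i₀).Coprime q) :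
    (r i₀).Prime ∧ CharP F (r i₀) ∧ ∃ k, q = r i₀ ^ k := by
  obtain ⟨p, k, hp, hchar, hk, hk0⟩ := exists_prime_pow U.hF
  have hr := hU.pf.prime i₀
  have h1 : r i₀ = p := by
    rw [← Nat.prime_dvd_prime_iff_eq hr hp]
    rw [hr.coprime_iff_not_dvd, not_not, hk] at h0
    exact hr.dvd_of_dvd_pow h0
  rw [h1]
  exact ⟨hp, hchar, k, hk⟩

/-- the others have order prime to `q` -/
theorem fam_coprime (hU : UFam U x f r) {i₀ : ι} (h0 : ¬ (r i₀).Coprime q) {j : ι} (hj : j ≠ i₀) : (r j).Coprime q := by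
  by_contra hcon
  obtain ⟨hp, h1, k, hk⟩ := fam_char hU h0
  obtain ⟨hp', h1', -⟩ := fam_char hU hcon
  exact hj (hU.pf.inj (CharP.eq F h1' h1))

/-- `f i₀` is the identity where it is a scalar -/
theorem fam_scal (hU : UFam U x f r) (hl : ∀ i, Lin (f i)) {i₀ : ι} (h0 : ¬ (r i₀).Coprime q) {c : F} {v : Fin n → F}
    (hv : f i₀ v = c • v) : f i₀ v = v := by
  by_cases hv0 : v = 0
  · rw [hv0, Ind.map_zero (hU.lft i₀)]
  obtain ⟨hp, hchar, -⟩ := fam_char hU h0
  have := Fact.mk hp
  obtain ⟨k, hk⟩ := hU.ord i₀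
  have h1 := iter_eig (hl i₀) hv (r i₀ ^ k)
  rw [hk] at h1
  have h2 : (c ^ r i₀ ^ k - 1) • v = 0 := by rw [sub_smul, ← h1, one_smul, sub_self]
  have h3 := sub_eq_zero.1 ((smul_eq_zero.1 h2).resolve_right hv0)
  rw [hv, eq_one_of_pow_char (p := r i₀) h3, one_smul]

/-- `(f i₀)^p = 1` -/
theorem fam_pow (hU : UFam U x f r) (hl : ∀ i, Lin (f i)) {i₀ : ι} (h0 : ¬ (r i₀).Coprime q) (v : Fin n → F) :
    (f i₀)^[r i₀] v = v := by
  by_cases hv0 : v = 0
  · rw [hv0]
    exact Function.iterate_fixed (Ind.map_zero (hU.lft i₀)) _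
  obtain ⟨hp, hchar, -⟩ := fam_char hU h0
  have := Fact.mk hp
  obtain ⟨c, hc⟩ := ((hU.lft i₀).pow (r i₀)).eq_one_iff.1 (hU.pf.pow i₀)
  obtain ⟨k, hk⟩ := hU.ord i₀
  have h1 : ∀ m : ℕ, (f i₀)^[r i₀ * m] v = c ^ m • v := by
    intro m
    induction m with
    | zero => simp
    | succ m ih =>
      rw [Nat.mul_succ, Function.iterate_add_apply, hc, iter_smul (hl i₀), ih, smul_smul, pow_succ']
  have h2 := h1 (r i₀ ^ k)
  have h3 : (f i₀)^[r i₀ * r i₀ ^ k] v = v := by
    rw [Nat.mul_comm, Function.iterate_mul]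
    exact Function.iterate_fixed (hk v) _
  rw [h3] at h2
  have h4 : (c ^ r i₀ ^ k - 1) • v = 0 := by rw [sub_smul, ← h2, one_smul, sub_self]
  have h5 := sub_eq_zero.1 ((smul_eq_zero.1 h4).resolve_right hv0)
  rw [hc, eq_one_of_pow_char (p := r i₀) h5, one_smul]

/-- `(f i₀ - 1)^p = 0` -/
theorem fam_nil (hU : UFam U x f r) (hl : ∀ i, Lin (f i)) {i₀ : ι} (h0 : ¬ (r i₀).Coprime q) :
    (lmap (hU.lft i₀) (hl i₀) - 1) ^ r i₀ = 0 := by
  obtain ⟨hp, hchar, -⟩ := fam_char hU h0
  have := Fact.mk hp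
  have hn := U.hn
  have : Nonempty (Fin n) := ⟨⟨0, by omega⟩⟩
  have : Nontrivial (Module.End F (Fin n → F)) := inferInstance
  have : CharP (Module.End F (Fin n → F)) (r i₀) :=
    charP_of_injective_algebraMap (algebraMap F (Module.End F (Fin n → F))).injective (r i₀)
  rw [sub_pow_char_of_commute (r i₀) (Commute.one_right _), one_pow, sub_eq_zero]
  refine LinearMap.ext fun v => ?_
  rw [lmap_pow, fam_pow hU hl h0]
  rfl

theorem coprime_natCast (hF : Fintype.card F = q ^ 2) {s k : ℕ} (hs : s.Prime) (hsq : s.Coprime q) :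
    ((s ^ k : ℕ) : F) ≠ 0 := by
  rw [Nat.cast_pow]
  exact pow_ne_zero _ (UEnv.natCast_ne_zero hF hs hsq)

/-- **Invariant planes** on which `f i₀` is not the identity -/
theorem fam_two (hU : UFam U x f r) (hl : ∀ i, Lin (f i)) {i₀ : ι} (h0 : ¬ (r i₀).Coprime q)
    {A : Submodule F (Fin n → F)} (hA2 : Module.finrank F A = 2) (hA : ∀ i, Stab (f i) A) {v₀ : Fin n → F}
    (hv₀ : v₀ ∈ A) (hv₁ : f i₀ v₀ ≠ v₀) :
    ∃ e ∈ A, e ≠ 0 ∧ f i₀ e = e ∧ f i₀ v₀ = v₀ + e ∧ hermForm n F q e e = 0 ∧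
      (∀ v ∈ A, ∃ c : F, f i₀ v = v + c • e) ∧ (∀ v ∈ A, ∃ a b : F, v = a • v₀ + b • e) ∧
      ∀ j, j ≠ i₀ → ScalOn (f j) A := by
  classical
  have hF := U.hF
  obtain ⟨hp, hchar, -⟩ := fam_char hU h0
  let D : Module.End F (Fin n → F) := lmap (hU.lft i₀) (hl i₀) - 1
  have hD : ∀ v, D v = f i₀ v - v := fun v => rfl
  have hDA : ∀ v ∈ A, D v ∈ A := fun v hv => A.sub_mem (hA i₀ v hv) hv
  let DA : Module.End F A := D.restrict hDA
  have hDA2 : DA ^ 2 = 0 := by
    have h1 : DA ^ r i₀ = 0 := by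
      have h2 : D ^ r i₀ = 0 := fam_nil hU hl h0
      refine LinearMap.ext fun v => Subtype.ext ?_
      have h3 : (((DA ^ r i₀) v : A) : Fin n → F) = (D ^ r i₀) v := by
        rw [Module.End.pow_restrict]
        rfl
      rw [h3, h2]
      rfl
    have h2 := Module.End.ker_pow_eq_ker_pow_finrank_of_le (f := DA) (m := r i₀) (by rw [hA2]; exact hp.two_le)
    rw [hA2, h1, LinearMap.ker_zero] at h2
    exact LinearMap.ker_eq_top.1 h2.symm
  have hDD : ∀ v ∈ A, D (D v) = 0 := by
    intro v hv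
    have h1 := congrArg (fun g : Module.End F A => ((g ⟨v, hv⟩ : A) : Fin n → F)) hDA2
    simpa [pow_two, DA] using h1
  have he0 : D v₀ ≠ 0 := by rw [hD]; exact sub_ne_zero.2 hv₁
  obtain ⟨e, he⟩ : ∃ e, e = D v₀ := ⟨_, rfl⟩
  rw [← he] at he0
  have heA : e ∈ A := by rw [he]; exact hDA _ hv₀
  have hDe : D e = 0 := by rw [he]; exact hDD _ hv₀
  have hTe : f i₀ e = e := by rw [hD] at hDe; exact sub_eq_zero.1 hDe
  have hTv : f i₀ v₀ = v₀ + e := by rw [he, hD]; abel
  have hli : LinearIndependent F ![v₀, e] := by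
    rw [LinearIndependent.pair_iff]
    intro a b hab
    have h1 := congrArg D hab
    rw [map_add, map_smul, map_smul, map_zero, hDe, smul_zero, add_zero, ← he] at h1
    have h2 := (smul_eq_zero.1 h1).resolve_right he0
    rw [h2, zero_smul, zero_add] at hab
    exact ⟨h2, (smul_eq_zero.1 hab).resolve_right he0⟩
  have hspan : Submodule.span F (Set.range ![v₀, e]) = A := by
    apply Submodule.eq_of_le_of_finrank_eq
    · rw [Submodule.span_le]
      rintro _ ⟨i, rfl⟩
      fin_cases i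
      · exact hv₀
      · exact heA
    · rw [finrank_span_eq_card hli, hA2]
      rfl
  have hAv : ∀ v ∈ A, ∃ a b : F, v = a • v₀ + b • e := by
    intro v hv
    rw [← hspan, Matrix.range_cons, Matrix.range_cons, Matrix.range_empty, Set.union_empty] at hv
    rw [Set.singleton_union, Submodule.mem_span_pair] at hv
    obtain ⟨a, b, h⟩ := hv
    exact ⟨a, b, h.symm⟩
  refine ⟨e, heA, he0, hTe, hTv, ?_, ?_, hAv, ?_⟩
  · have h1 := lin_herm (hU.lft i₀) (hl i₀) v₀ e
    rw [hTe, hTv, herm_add_left] at h1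
    exact (add_eq_left.1 h1)
  · intro v hv
    obtain ⟨a, b, rfl⟩ := hAv v hv
    refine ⟨a, ?_⟩
    rw [Ind.map_add (hU.lft i₀), hl i₀, hl i₀, hTe, hTv, smul_add]
    abel
  · intro j hj
    obtain ⟨a, b, hab⟩ := hAv _ (hA j v₀ hv₀)
    have h1 : f j e = a • e := by
      have h2 := hU.comm i₀ j v₀
      rw [hab, hTv, Ind.map_add (hU.lft i₀), hl i₀, hl i₀, hTe, hTv, Ind.map_add (hU.lft j), hab, smul_add] at h2
      have h3 : f j e = (a • v₀ + a • e + b • e) - (a • v₀ + b • e) := by rw [h2]; abel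
      rw [h3]
      abel
    obtain ⟨k, hk⟩ := hU.ord j
    have h2 : ∀ m : ℕ, (f j)^[m] v₀ = a ^ m • v₀ + (m * a ^ (m - 1) * b) • e := by
      intro m
      induction m with
      | zero => simp
      | succ m ih =>
        rw [Function.iterate_succ_apply', ih, Ind.map_add (hU.lft j), hl j, hl j, hab, h1, smul_add, smul_smul,
          smul_smul, smul_smul, add_assoc, ← add_smul, pow_succ]
        congr 2
        rcases m with _ | m
        · simp
        · rw [Nat.add_sub_cancel, Nat.add_sub_cancel, pow_succ, Nat.cast_add (m + 1) 1, Nat.cast_one]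
          ring
    have h3 := h2 (r j ^ k)
    rw [hk] at h3
    have h4 : (a ^ r j ^ k - 1) • v₀ + (((r j ^ k : ℕ) : F) * a ^ (r j ^ k - 1) * b) • e = 0 := by
      rw [sub_smul, one_smul, sub_add_eq_add_sub, ← h3, sub_self]
    rw [LinearIndependent.pair_iff] at hli
    obtain ⟨h5, h6⟩ := hli _ _ h4
    have ha : a ≠ 0 := by
      rintro rfl
      rw [zero_pow (pow_ne_zero _ (hU.pf.prime j).ne_zero), zero_sub] at h5
      exact one_ne_zero (neg_eq_zero.1 h5)
    have hb : b = 0 := by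
      rcases mul_eq_zero.1 h6 with h7 | h7
      · rcases mul_eq_zero.1 h7 with h8 | h8
        · exact absurd h8 (coprime_natCast hF (hU.pf.prime j) (fam_coprime hU h0 hj))
        · exact absurd h8 (pow_ne_zero _ ha)
      · exact h7
    refine ⟨a, fun v hv => ?_⟩
    obtain ⟨c, d, rfl⟩ := hAv v hv
    rw [Ind.map_add (hU.lft j), hl j, hl j, hab, h1, hb, zero_smul, add_zero, smul_add, smul_comm a c, smul_comm a d]

end fam

end Cfsg.Agent.H993.RC
end

-- part: H398/RC/StrT_mg
section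
prune_inst 0x12000000d40120000180580132000402000002000000800000004020000804000020800080000120200000100000000000000900040000004000400000000001080000420000000020008000000000000000000000000000000000000000000000000000
set_option linter.all false
open scoped Cfsg.Agent.FastGrp

-- part: H398/RC/IdemCases
section
/-!
# Idempotents of a finite reduced commutative ring with two commuting involutions (helper398)
-/

set_option autoImplicit false

namespace Cfsg.Agent.H398.RC

section idem

variable {R : Type*} [CommRing R]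

theorem exists_min_idem [Finite R] [Nontrivial R] :
    ∃ e : R, e * e = e ∧ e ≠ 0 ∧ ∀ f : R, f * f = f → f ≠ 0 → f * e = f → f = e := by
  classical
  have := Fintype.ofFinite R
  obtain ⟨e, he, hmin⟩ := Finset.exists_min_image (Finset.univ.filter fun e : R => e * e = e ∧ e ≠ 0)
    (fun e => (Finset.univ.filter fun a : R => a * e = a).card) ⟨1, by simp only [_root_.ne_eq, _root_.Finset.mem_filter, _root_.Finset.mem_univ, _root_.mul_one, _root_.one_ne_zero, _root_.not_false_eq_true, _root_.and_self]⟩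
  rw [Finset.mem_filter] at he
  refine ⟨e, he.2.1, he.2.2, fun f hf hf0 hfe => ?_⟩
  have h1 := hmin f (by simp only [hf, hf0, _root_.ne_eq, _root_.Finset.mem_filter, _root_.Finset.mem_univ, _root_.not_false_eq_true, _root_.and_self])
  have h2 : (Finset.univ.filter fun a : R => a * f = a) ⊆ (Finset.univ.filter fun a : R => a * e = a) := by
    intro a ha
    rw [Finset.mem_filter] at ha ⊢
    refine ⟨Finset.mem_univ _, ?_⟩
    calc a * e = a * f * e := by rw [ha.2]
      _ = a * (f * e) := mul_assoc _ _ _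
      _ = a := by rw [hfe, ha.2]
  have h3 := Finset.eq_of_subset_of_card_le h2 h1
  have h4 : e ∈ (Finset.univ.filter fun a : R => a * f = a) := by
    rw [h3, Finset.mem_filter]
    exact ⟨Finset.mem_univ _, he.2.1⟩
  rw [Finset.mem_filter] at h4
  rw [← h4.2, mul_comm, hfe]

theorem idem_pow {Q : ℕ} (hQ : 2 ≤ Q) {a : R} (ha : a ^ Q = a) : a ^ (Q - 1) * a ^ (Q - 1) = a ^ (Q - 1) := by
  obtain ⟨k, rfl⟩ : ∃ k, Q = k + 2 := ⟨Q - 2, by omega⟩
  have h1 : k + 2 - 1 = k + 1 := by omega
  rw [h1]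
  calc a ^ (k + 1) * a ^ (k + 1) = a ^ k * a ^ (k + 2) := by ring
    _ = a ^ (k + 1) := by rw [ha, pow_succ]

theorem idem_or {e : R} (he : e * e = e) (hmin : ∀ f : R, f * f = f → f ≠ 0 → f * e = f → f = e)
    {φ : R ≃+* R} (h2 : ∀ a, φ (φ a) = a) : e * φ e = 0 ∨ φ e = e := by
  by_cases h0 : e * φ e = 0
  · exact Or.inl h0
  · right
    have h1 : e * φ e = e := by
      apply hmin _ _ h0
      · calc e * φ e * e = e * e * φ e := by ring
          _ = e * φ e := by rw [he]
      · calc e * φ e * (e * φ e) = (e * e) * (φ e * φ e) := by ring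
          _ = e * φ e := by rw [he, ← map_mul, he]
    have h3 := congrArg φ h1
    rw [map_mul, h2] at h3
    rw [← h3, mul_comm, h1]

theorem idem_cases [Finite R] [Nontrivial R] {Q : ℕ} (hQ : 2 ≤ Q) (hpow : ∀ a : R, a ^ Q = a)
    (σ τ : R ≃+* R) (hσ : ∀ a, σ (σ a) = a) (hτ : ∀ a, τ (τ a) = a) (hστ : ∀ a, σ (τ a) = τ (σ a)) :
    (∀ a : R, a ≠ 0 → a ^ (Q - 1) = 1) ∨
    (∃ s : R, s * s = s ∧ s ≠ 0 ∧ s ≠ 1 ∧ σ s = s ∧ τ s = s) ∨
    (∃ w : R, w * w = w ∧ σ w = 1 - w ∧ τ w = w) ∨
    (∃ w : R, w * w = w ∧ σ w = 1 - w ∧ τ w = 1 - w) ∨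
    (∃ e : R, e * e = e ∧ e ≠ 0 ∧ σ e = e ∧ τ e = 1 - e ∧ ∀ a, a * e = a → a ≠ 0 → a ^ (Q - 1) = e) := by
  obtain ⟨e, he, he0, hmin⟩ := exists_min_idem (R := R)
  have hfld : ∀ a, a * e = a → a ≠ 0 → a ^ (Q - 1) = e := by
    intro a hae ha0
    apply hmin _ (idem_pow hQ (hpow a))
    · intro h
      apply ha0
      rw [← hpow a, show Q = (Q - 1) + 1 by omega, pow_succ, h, zero_mul]
    · rw [show Q - 1 = (Q - 2) + 1 by omega, pow_succ, mul_assoc, hae]
  have h1 := idem_or he hmin hσ
  have h2 := idem_or he hmin hτ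
  have h3 := idem_or he hmin (φ := τ.trans σ) (fun a => by
    change σ (τ (σ (τ a))) = a
    rw [hστ, hσ, hτ])
  change e * σ (τ e) = 0 ∨ σ (τ e) = e at h3
  have hne : ∀ f : R, e * f = 0 → e + f ≠ 0 := by
    intro f hf h
    apply he0
    have : e * (e + f) = 0 := by rw [h, mul_zero]
    rwa [mul_add, he, hf, add_zero] at this
  have hid : ∀ f : R, f * f = f → e * f = 0 → (e + f) * (e + f) = e + f := by
    intro f hf hef
    calc (e + f) * (e + f) = e * e + 2 * (e * f) + f * f := by ring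
      _ = e + f := by rw [he, hef, hf]; ring
  by_cases hσe : σ e = e
  · by_cases hτe : τ e = e
    · by_cases h1e : e = 1
      · left
        intro a ha
        rw [hfld a (by rw [h1e, mul_one]) ha, h1e]
      · exact Or.inr (Or.inl ⟨e, he, he0, h1e, hσe, hτe⟩)
    · have h0 : e * τ e = 0 := h2.resolve_right hτe
      by_cases hs : e + τ e = 1
      · exact Or.inr (Or.inr (Or.inr (Or.inr ⟨e, he, he0, hσe, by rw [← hs]; ring, hfld⟩)))
      · refine Or.inr (Or.inl ⟨e + τ e, hid _ (by rw [← map_mul, he]) h0, hne _ h0, hs, ?_, ?_⟩)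
        · rw [map_add, hστ, hσe]
        · rw [map_add, hτ, add_comm]
  · have h0 : e * σ e = 0 := h1.resolve_right hσe
    have hidσ : σ e * σ e = σ e := by rw [← map_mul, he]
    by_cases hτe : τ e = e
    · by_cases hs : e + σ e = 1
      · exact Or.inr (Or.inr (Or.inl ⟨e, he, by rw [← hs]; ring, hτe⟩))
      · refine Or.inr (Or.inl ⟨e + σ e, hid _ hidσ h0, hne _ h0, hs, ?_, ?_⟩)
        · rw [map_add, hσ, add_comm]
        · rw [map_add, ← hστ, hτe]
    · by_cases hτσ : τ e = σ e
      · by_cases hs : e + σ e = 1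
        · exact Or.inr (Or.inr (Or.inr (Or.inl ⟨e, he, by rw [← hs]; ring, by rw [hτσ, ← hs]; ring⟩)))
        · refine Or.inr (Or.inl ⟨e + σ e, hid _ hidσ h0, hne _ h0, hs, ?_, ?_⟩)
          · rw [map_add, hσ, add_comm]
          · rw [map_add, ← hστ, hτσ, hσ, add_comm]
      · have h4 : e * τ e = 0 := h2.resolve_right hτe
        have h5 : e * σ (τ e) = 0 := h3.resolve_right (fun h => hτσ (by
          have := congrArg σ h
          rwa [hσ] at this))
        have h6 : σ e * τ e = 0 := by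
          have := congrArg σ h5
          rwa [map_mul, hσ, map_zero] at this
        have h7 : σ e * σ (τ e) = 0 := by
          have := congrArg σ h4
          rwa [map_mul, map_zero] at this
        have h8 : τ e * σ (τ e) = 0 := by
          have := congrArg τ h0
          rwa [map_mul, map_zero, ← hστ] at this
        have hidτ : τ e * τ e = τ e := by rw [← map_mul, he]
        have hidστ : σ (τ e) * σ (τ e) = σ (τ e) := by rw [← map_mul, hidτ]
        obtain ⟨w, hw⟩ : ∃ w, w = e + τ e := ⟨_, rfl⟩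
        have hww : w * w = w := by rw [hw]; exact hid _ hidτ h4
        have hσw : σ w = σ e + σ (τ e) := by rw [hw, map_add]
        have hτw : τ w = w := by rw [hw, map_add, hτ, add_comm]
        by_cases hs : w + σ w = 1
        · exact Or.inr (Or.inr (Or.inl ⟨w, hww, by rw [← hs]; ring, hτw⟩))
        · have hwσ : w * σ w = 0 := by
            rw [hσw, hw]
            calc (e + τ e) * (σ e + σ (τ e)) = e * σ e + e * σ (τ e) + σ e * τ e + τ e * σ (τ e) := by ring
              _ = 0 := by rw [h0, h5, h6, h8]; ring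
          refine Or.inr (Or.inl ⟨w + σ w, ?_, ?_, hs, ?_, ?_⟩)
          · calc (w + σ w) * (w + σ w) = w * w + 2 * (w * σ w) + σ w * σ w := by ring
              _ = w + σ w := by rw [hww, hwσ, ← map_mul, hww]; ring
          · intro h
            apply he0
            have h9 : e * (w + σ w) = 0 := by rw [h, mul_zero]
            rw [hσw, hw, mul_add, mul_add, mul_add, he, h4, h0, h5] at h9
            simpa using h9
          · rw [map_add, hσ, add_comm]
          · rw [map_add, ← hστ, hτw]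

end idem

end Cfsg.Agent.H398.RC
end

-- part: H398/RC/StrAlg
section
/-!
# S3510, family E: the algebra `F[g]` of an isometry of order prime to `p`, adjoints and `T`-conjugates (helper398)
-/

set_option autoImplicit false
set_option linter.unusedSectionVars false

namespace Cfsg.Agent.H398.RC

open Module Cfsg Cfsg.Agent.LieClassical.HermBasic Cfsg.Agent.ClassicalGeometry Cfsg.Agent.H380.RC

section adj

variable {F : Type} [Field F] [Fintype F] {n q : ℕ}

/-- `b` is the adjoint of `a` -/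
def Adj (q : ℕ) (a b : Module.End F (Fin n → F)) : Prop := ∀ v w, hermForm n F q (a v) w = hermForm n F q v (b w)

theorem Adj.symm (hF : Fintype.card F = q ^ 2) {a b : Module.End F (Fin n → F)} (h : Adj q a b) : Adj q b a := by
  intro v w
  rw [herm_swap hF w (b v), ← h, ← herm_swap hF]

theorem Adj.unique (hF : Fintype.card F = q ^ 2) {a b b' : Module.End F (Fin n → F)} (h : Adj q a b)
    (h' : Adj q a b') : b = b' := by
  apply LinearMap.ext
  intro w
  rw [← sub_eq_zero]
  apply herm_nondeg hF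
  intro v
  apply herm_eq_zero_swap hF
  rw [herm_sub_right hF, ← h, ← h', sub_self]

theorem Adj.add (hF : Fintype.card F = q ^ 2) {a b a' b' : Module.End F (Fin n → F)} (h : Adj q a b)
    (h' : Adj q a' b') : Adj q (a + a') (b + b') := by
  intro v w
  rw [LinearMap.add_apply, LinearMap.add_apply, herm_add_left, herm_add_right hF, h, h']

theorem Adj.mul {a b a' b' : Module.End F (Fin n → F)} (h : Adj q a b) (h' : Adj q a' b') :
    Adj q (a * a') (b' * b) := by
  intro v w
  rw [Module.End.mul_apply, Module.End.mul_apply, h, h']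

theorem adj_algebraMap (hF : Fintype.card F = q ^ 2) (c : F) :
    Adj q (algebraMap F (Module.End F (Fin n → F)) c) (algebraMap F (Module.End F (Fin n → F)) (c ^ q)) := by
  intro v w
  rw [Module.algebraMap_end_apply, Module.algebraMap_end_apply, herm_smul_left, herm_smul_right, pow_q_pow_q hF]

variable {G : Module.End F (Fin n → F)} {N : ℕ}

theorem adj_iso (hG : ∀ v w, hermForm n F q (G v) (G w) = hermForm n F q v w) (hN : 0 < N) (hGN : G ^ N = 1) :
    Adj q G (G ^ (N - 1)) := by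
  intro v w
  rw [← hG v, ← Module.End.mul_apply G, ← pow_succ', Nat.sub_add_cancel hN, hGN, Module.End.one_apply]

theorem exists_adj_mem (hF : Fintype.card F = q ^ 2) (hG : ∀ v w, hermForm n F q (G v) (G w) = hermForm n F q v w)
    (hN : 0 < N) (hGN : G ^ N = 1) {a : Module.End F (Fin n → F)} (ha : a ∈ Algebra.adjoin F {G}) :
    ∃ b ∈ Algebra.adjoin F {G}, Adj q a b := by
  have hG' : G ∈ Algebra.adjoin F {G} := Algebra.subset_adjoin rfl
  induction ha using Algebra.adjoin_induction with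
  | mem x hx => rw [Set.mem_singleton_iff] at hx; rw [hx]; exact ⟨_, pow_mem hG' _, adj_iso hG hN hGN⟩
  | algebraMap r => exact ⟨_, Subalgebra.algebraMap_mem _ _, adj_algebraMap hF r⟩
  | add x y _ _ hx hy =>
    obtain ⟨b, hb, hb'⟩ := hx
    obtain ⟨c, hc, hc'⟩ := hy
    exact ⟨b + c, add_mem hb hc, hb'.add hF hc'⟩
  | mul x y _ _ hx hy =>
    obtain ⟨b, hb, hb'⟩ := hx
    obtain ⟨c, hc, hc'⟩ := hy
    exact ⟨c * b, mul_mem hc hb, hb'.mul hc'⟩

/-- an element commuting with `G` commutes with `F[G]` -/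
theorem comm_of_mem {a u : Module.End F (Fin n → F)} (hu : u * G = G * u) (ha : a ∈ Algebra.adjoin F {G}) :
    u * a = a * u := by
  induction ha using Algebra.adjoin_induction with
  | mem x hx => rw [Set.mem_singleton_iff] at hx; rw [hx]; exact hu
  | algebraMap r => exact (Algebra.commutes r u).symm
  | add x y _ _ hx hy => rw [mul_add, add_mul, hx, hy]
  | mul x y _ _ hx hy => rw [← mul_assoc, hx, mul_assoc, hy, mul_assoc]

theorem comm_mem {a b : Module.End F (Fin n → F)} (ha : a ∈ Algebra.adjoin F {G}) (hb : b ∈ Algebra.adjoin F {G}) :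
    a * b = b * a := comm_of_mem (comm_of_mem rfl ha).symm hb

/-- all elements of `F[G]` satisfy `a ^ Q = a` -/
theorem exists_pow_eq [Nontrivial (Fin n → F)] (hF : Fintype.card F = q ^ 2) (hNq : N.Coprime q) (hGN : G ^ N = 1) :
    ∃ Q, 2 ≤ Q ∧ ∀ a ∈ Algebra.adjoin F {G}, a ^ Q = a := by
  obtain ⟨p, k, hp, hk, hq⟩ : ∃ p k, p.Prime ∧ CharP F p ∧ q = p ^ k := by
    obtain ⟨p, hp⟩ := CharP.exists F
    have hpp : p.Prime := CharP.char_is_prime F p
    have : Fact p.Prime := ⟨hpp⟩
    obtain ⟨m, -, hm⟩ := FiniteField.card F p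
    have h1 : q ∣ p ^ (m : ℕ) := by
      rw [← hm, hF]
      exact Dvd.intro _ (sq q).symm
    obtain ⟨k, -, hk⟩ := (Nat.dvd_prime_pow hpp).1 h1
    exact ⟨p, k, hpp, hp, hk⟩
  have : Fact p.Prime := ⟨hp⟩
  have hq2 := two_le hF
  have hN0 : N ≠ 0 := by
    rintro rfl
    rw [Nat.coprime_zero_left] at hNq
    omega
  have hφ : 0 < N.totient := Nat.totient_pos.2 (Nat.pos_of_ne_zero hN0)
  have hcp : CharP (Module.End F (Fin n → F)) p :=
    charP_of_injective_algebraMap (algebraMap F (Module.End F (Fin n → F))).injective p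
  have hQ : (q ^ 2) ^ N.totient = p ^ (k * 2 * N.totient) := by
    rw [hq, ← pow_mul, ← pow_mul, mul_assoc]
  refine ⟨(q ^ 2) ^ N.totient, ?_, fun a ha => ?_⟩
  · calc 2 ≤ q := hq2
      _ ≤ q ^ 2 := Nat.le_self_pow (by norm_num) q
      _ ≤ (q ^ 2) ^ N.totient := Nat.le_self_pow hφ.ne' _
  · induction ha using Algebra.adjoin_induction with
    | mem x hx =>
      rw [Set.mem_singleton_iff] at hx
      rw [hx]
      have h1 : (q ^ 2) ^ N.totient ≡ 1 [MOD N] := Nat.ModEq.pow_totient (Nat.Coprime.pow_left 2 hNq.symm)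
      rw [pow_eq_pow_mod _ hGN, h1, ← pow_eq_pow_mod _ hGN, pow_one]
    | algebraMap r =>
      rw [← map_pow, ← hF, FiniteField.pow_card_pow]
    | add x y hxm hym hx hy =>
      rw [hQ] at hx hy ⊢
      rw [add_pow_char_pow_of_commute p _ (comm_mem hxm hym), hx, hy]
    | mul x y hxm hym hx hy =>
      rw [(show Commute x y from comm_mem hxm hym).mul_pow, hx, hy]

end adj

section ring

variable {F : Type} [Field F] [Fintype F] {n q : ℕ} (G : Module.End F (Fin n → F))

/-- the algebra `F[G]` -/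
abbrev RG : Subalgebra F (Module.End F (Fin n → F)) := Algebra.adjoin F {G}

/-- `F[G]` is commutative -/
noncomputable abbrev RG.ring : CommRing (RG G) :=
  { (inferInstance : Ring (RG G)) with mul_comm := fun a b => Subtype.ext (comm_mem a.2 b.2) }

variable {G}

/-- the adjoint involution -/
theorem exists_sigma (hF : Fintype.card F = q ^ 2) (hG : ∀ v w, hermForm n F q (G v) (G w) = hermForm n F q v w)
    {N : ℕ} (hN : 0 < N) (hGN : G ^ N = 1) :
    ∃ σ : RG G ≃+* RG G, (∀ a : RG G, Adj q a.1 (σ a).1) ∧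
      ∀ a, σ (σ a) = a := by
  have h1 : ∀ a : RG G, ∃ b : RG G, Adj q (a : Module.End F (Fin n → F)) (b : Module.End F (Fin n → F)) := by
    intro a
    obtain ⟨b, hb, hb'⟩ := exists_adj_mem hF hG hN hGN a.2
    exact ⟨⟨b, hb⟩, hb'⟩
  choose s hs using h1
  have hss : ∀ a, s (s a) = a := fun a => Subtype.ext ((hs (s a)).unique hF ((hs a).symm hF))
  refine ⟨{ toFun := s, invFun := s, left_inv := hss, right_inv := hss, map_mul' := ?_, map_add' := ?_ }, hs, hss⟩
  · intro a b
    apply Subtype.ext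
    apply (hs (a * b)).unique hF
    change Adj q _ ((s a).1 * (s b).1)
    rw [comm_mem (s a).2 (s b).2]
    exact (hs a).mul (hs b)
  · intro a b
    apply Subtype.ext
    exact (hs (a + b)).unique hF ((hs a).add hF (hs b))

/-- the conjugate by a semilinear involution -/
def tauE {T : (Fin n → F) → (Fin n → F)} (hF : Fintype.card F = q ^ 2) (hTa : ∀ v w, T (v + w) = T v + T w)
    (hTs : ∀ (c : F) v, T (c • v) = c ^ q • T v) (a : Module.End F (Fin n → F)) : Module.End F (Fin n → F) where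
  toFun v := T (a (T v))
  map_add' v w := by rw [hTa, map_add, hTa]
  map_smul' c v := by rw [hTs, map_smul, hTs, pow_q_pow_q hF, RingHom.id_apply]

variable {T : (Fin n → F) → (Fin n → F)}

theorem tauE_apply (hF : Fintype.card F = q ^ 2) (hTa : ∀ v w, T (v + w) = T v + T w)
    (hTs : ∀ (c : F) v, T (c • v) = c ^ q • T v) (a : Module.End F (Fin n → F)) (v : Fin n → F) :
    tauE hF hTa hTs a v = T (a (T v)) := rfl

theorem exists_tau (hF : Fintype.card F = q ^ 2) (hTa : ∀ v w, T (v + w) = T v + T w)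
    (hTs : ∀ (c : F) v, T (c • v) = c ^ q • T v) (hTT : ∀ v, T (T v) = v) (hGT : ∀ v, G (T v) = T (G v)) :
    ∃ τ : RG G ≃+* RG G, (∀ (a : RG G) v, (τ a : Module.End F (Fin n → F)) v = T ((a : Module.End F (Fin n → F)) (T v))) ∧
      ∀ a, τ (τ a) = a := by
  have hmul : ∀ a b, tauE hF hTa hTs (a * b) = tauE hF hTa hTs a * tauE hF hTa hTs b := by
    intro a b
    apply LinearMap.ext
    intro v
    rw [Module.End.mul_apply, tauE_apply, tauE_apply, tauE_apply, hTT, Module.End.mul_apply]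
  have hadd : ∀ a b, tauE hF hTa hTs (a + b) = tauE hF hTa hTs a + tauE hF hTa hTs b := by
    intro a b
    apply LinearMap.ext
    intro v
    rw [LinearMap.add_apply, tauE_apply, tauE_apply, tauE_apply, LinearMap.add_apply, hTa]
  have hmem : ∀ a ∈ Algebra.adjoin F {G}, tauE hF hTa hTs a ∈ Algebra.adjoin F {G} := by
    intro a ha
    induction ha using Algebra.adjoin_induction with
    | mem x hx =>
      rw [Set.mem_singleton_iff] at hx
      have h1 : tauE hF hTa hTs x = x := by
        apply LinearMap.ext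
        intro v
        rw [hx, tauE_apply, hGT, hTT]
      rw [h1, hx]
      exact Algebra.subset_adjoin rfl
    | algebraMap r =>
      have h1 : tauE hF hTa hTs (algebraMap F _ r) = algebraMap F _ (r ^ q) := by
        apply LinearMap.ext
        intro v
        rw [tauE_apply, Module.algebraMap_end_apply, hTs, hTT, Module.algebraMap_end_apply]
      rw [h1]
      exact Subalgebra.algebraMap_mem _ _
    | add x y _ _ hx hy => rw [hadd]; exact add_mem hx hy
    | mul x y _ _ hx hy => rw [hmul]; exact mul_mem hx hy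
  let t : RG G → RG G := fun a => ⟨tauE hF hTa hTs a, hmem a a.2⟩
  have htt : ∀ a, t (t a) = a := by
    intro a
    apply Subtype.ext
    apply LinearMap.ext
    intro v
    change T (T ((a : Module.End F (Fin n → F)) (T (T v)))) = _
    rw [hTT, hTT]
  exact ⟨{ toFun := t, invFun := t, left_inv := htt, right_inv := htt, map_mul' := fun a b => Subtype.ext (hmul _ _),
           map_add' := fun a b => Subtype.ext (hadd _ _) }, fun a v => rfl, htt⟩

end ring

end Cfsg.Agent.H398.RC
end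

-- part: H398/RC/Corner
section
/-!
# The corner field `eR` with an involution (helper398)
-/

set_option autoImplicit false
set_option linter.unusedSectionVars false

namespace Cfsg.Agent.H398.RC

open Cfsg Cfsg.Agent.LieClassical.HermBasic

theorem arith_corner {q b : ℕ} (hq : 3 ≤ q) (hb : 3 ≤ b) : (q + 1) ^ 2 < q ^ b + 1 := by
  have h1 : q ^ 3 ≤ q ^ b := Nat.pow_le_pow_right (by omega) hb
  have h2 : (q + 1) ^ 2 < q ^ 3 + 1 := by
    obtain ⟨k, rfl⟩ : ∃ k, q = k + 3 := ⟨q - 3, by omega⟩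
    nlinarith only [_root_.sq_nonneg (↑k : ℤ), _root_.Nat.cast_nonneg (α := ℤ) (k), _root_.sq_nonneg (↑k + 3 : ℤ)]
  omega

theorem corner_field {R : Type*} [CommRing R] [Finite R] {F : Type} [Field F] [Fintype F] {q : ℕ}
    (hF : Fintype.card F = q ^ 2) (hq : 3 ≤ q) (ι : F →+* R) (σ : R ≃+* R) (hσ : ∀ a, σ (σ a) = a)
    (hσι : ∀ c, σ (ι c) = ι (c ^ q)) {e : R} (he : e * e = e) (he0 : e ≠ 0) (hσe : σ e = e) {Q : ℕ}
    (hfld : ∀ a, a * e = a → a ≠ 0 → a ^ (Q - 1) = e) (hQ2 : 2 ≤ Q) :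
    ∃ ρ₀ : R, ρ₀ * e = ρ₀ ∧ ρ₀ * σ ρ₀ = e ∧ (∃ m : ℕ, 0 < m ∧ m.Coprime q ∧ ρ₀ ^ m = e) ∧
      (∀ γ, γ * e = γ → γ * σ γ = e → ∃ k, γ = ρ₀ ^ k * e) ∧
      ((∀ a, a * e = a → ∃ c : F, a = ι c * e) ∨
        ∃ l, 0 < l ∧ (∃ d, d * e = d ∧ ρ₀ ^ l = d ^ (q ^ 2 - 1)) ∧ ¬ ∃ c : F, ρ₀ ^ l = ι c * e) := by
  classical
  let I : Ideal R := Ideal.span {1 - e}
  have hI : ∀ a : R, a ∈ I ↔ a * e = 0 := by
    intro a
    rw [Ideal.mem_span_singleton']
    constructor
    · rintro ⟨r, rfl⟩
      rw [mul_assoc, sub_mul, one_mul, he, sub_self, mul_zero]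
    · intro h
      exact ⟨a, by rw [mul_sub, mul_one, h, sub_zero]⟩
  let K := R ⧸ I
  let π : R →+* K := Ideal.Quotient.mk I
  have hπ : Function.Surjective π := Ideal.Quotient.mk_surjective
  have hπe : π e = 1 := by
    rw [← map_one π]
    apply Ideal.Quotient.eq.2
    rw [hI, sub_mul, he, one_mul, sub_self]
  have hinj : ∀ a b : R, a * e = a → b * e = b → π a = π b → a = b := by
    intro a b ha hb h
    have h1 := (hI _).1 (Ideal.Quotient.eq.1 h)
    rw [sub_mul, ha, hb] at h1
    exact sub_eq_zero.1 h1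
  have hex : ∀ x : K, ∃ a : R, a * e = a ∧ π a = x := by
    intro x
    obtain ⟨a, rfl⟩ := hπ x
    exact ⟨a * e, by rw [mul_assoc, he], by rw [map_mul, hπe, mul_one]⟩
  choose L hLe hLπ using hex
  have hL : ∀ (a : R) (x : K), a * e = a → π a = x → L x = a := fun a x h1 h2 =>
    hinj _ _ (hLe x) h1 (by rw [hLπ, h2])
  have hLmul : ∀ x y, L (x * y) = L x * L y := fun x y =>
    hL _ _ (by rw [mul_assoc, hLe]) (by rw [map_mul, hLπ, hLπ])
  have hL1 : L 1 = e := hL _ _ he hπe
  have hLpow : ∀ x (k : ℕ), L (x ^ k) = L x ^ k * e := by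
    intro x k
    apply hL
    · rw [mul_assoc, he]
    · rw [map_mul, map_pow, hLπ, hπe, mul_one]
  have hLpow' : ∀ x (k : ℕ), 0 < k → L (x ^ k) = L x ^ k := by
    intro x k hk
    rw [hLpow, ← Nat.sub_add_cancel hk, pow_succ, mul_assoc, hLe]
  have hK : IsField K := by
    refine ⟨⟨0, 1, ?_⟩, fun x y => mul_comm x y, fun {x} hx => ⟨x ^ (Q - 2), ?_⟩⟩
    · intro h
      apply he0
      have h1 : π 0 = π e := by rw [map_zero, hπe, h]
      exact (hinj 0 e (zero_mul _) he h1).symm
    · have h1 : L x ≠ 0 := by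
        intro h
        apply hx
        rw [← hLπ x, h, map_zero]
      have h2 := congrArg π (hfld _ (hLe x) h1)
      rw [map_pow, hLπ, hπe] at h2
      rw [← pow_succ', show Q - 2 + 1 = Q - 1 by omega, h2]
  let _ : Field K := hK.toField
  have hKfin : Finite K := Finite.of_surjective π hπ
  let _ : Fintype K := Fintype.ofFinite K
  -- the involution
  let s : K ≃+* K := Ideal.quotientEquiv I I σ (by
    change I = (Ideal.span {1 - e}).map (σ : R →+* R)
    have h1 : (σ : R →+* R) (1 - e) = 1 - e := by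
      change σ (1 - e) = 1 - e
      rw [map_sub, map_one, hσe]
    rw [Ideal.map_span, Set.image_singleton, h1])
  have hsπ : ∀ a, s (π a) = π (σ a) := fun a => rfl
  have hss : ∀ x, s (s x) = x := by
    intro x
    obtain ⟨a, rfl⟩ := hπ x
    rw [hsπ, hsπ, hσ]
  let κ : F →+* K := π.comp ι
  have hκ : Function.Injective κ := κ.injective
  have hsκ : ∀ c, s (κ c) = κ (c ^ q) := by
    intro c
    change s (π (ι c)) = π (ι (c ^ q))
    rw [hsπ, hσι]
  obtain ⟨c₀, hc₀⟩ := exists_not_fixed hF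
  obtain ⟨P, hP, hsP⟩ := inv_eq_pow s hss ⟨κ c₀, fun h1 => hc₀ (hκ (by rw [← hsκ, h1]))⟩
  have hLs : ∀ x, σ (L x) = L (s x) := by
    intro x
    symm
    apply hL
    · have h1 := congrArg σ (hLe x)
      rwa [map_mul, hσe] at h1
    · rw [← hsπ, hLπ]
  have hP1 : 1 < P := by
    have h1 : 1 < Fintype.card K := Fintype.one_lt_card
    rw [hP] at h1
    by_contra h
    have h2 : P ^ 2 ≤ 1 ^ 2 := Nat.pow_le_pow_left (by omega) 2
    omega
  let _ : Algebra F K := κ.toAlgebra
  obtain ⟨b, hb⟩ : ∃ b, b = Module.finrank F K := ⟨_, rfl⟩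
  have hPb : P = q ^ b := by
    have h1 := Module.card_eq_pow_finrank (K := F) (V := K)
    rw [hF, ← hb, hP, ← pow_mul, mul_comm 2 b, pow_mul] at h1
    exact Nat.pow_left_injective (by norm_num : 2 ≠ 0) h1
  have hpowc : ∀ (c : F) (t : ℕ), c ^ (q ^ (2 * t)) = c := by
    intro c t
    rw [pow_mul, ← hF]
    exact FiniteField.pow_card_pow t c
  have hbodd : Odd b := by
    by_contra hev
    rw [Nat.not_odd_iff_even] at hev
    obtain ⟨k, hk⟩ := hev
    apply hc₀
    apply hκ
    rw [← hsκ, hsP, ← map_pow, hPb, hk, ← two_mul, hpowc]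
  obtain ⟨z, hz⟩ := IsCyclic.exists_generator (α := Kˣ)
  have hord : orderOf z = (P - 1) * (P + 1) := by
    rw [orderOf_eq_card_of_forall_mem_zpowers hz, Nat.card_eq_fintype_card, Fintype.card_units, hP]
    obtain ⟨k, rfl⟩ : ∃ k, P = k + 1 := ⟨P - 1, by omega⟩
    have h1 : (k + 1) ^ 2 = k * (k + 1 + 1) + 1 := by ring
    rw [h1]
    simp only [_root_.add_tsub_cancel_right]
  have hzK : ∀ x : K, x ≠ 0 → ∃ j : ℕ, x = (z : K) ^ j := by
    intro x hx
    obtain ⟨j, hj⟩ := (Submonoid.mem_powers_iff (Units.mk0 x hx) z).1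
      (mem_powers_iff_mem_zpowers.2 (hz (Units.mk0 x hx)))
    exact ⟨j, by rw [← Units.val_pow_eq_pow_val, hj]; rfl⟩
  have hz1 : ∀ j : ℕ, (z : K) ^ j = 1 ↔ (P - 1) * (P + 1) ∣ j := by
    intro j
    rw [← hord, orderOf_dvd_iff_pow_eq_one, Units.ext_iff, Units.val_pow_eq_pow_val, Units.val_one]
  have hPpos : 0 < P - 1 := by omega
  have hρ : ∀ k : ℕ, (z : K) ^ ((P - 1) * k) = ((z : K) ^ (P - 1)) ^ k := fun k => pow_mul _ _ _
  refine ⟨L ((z : K) ^ (P - 1)), hLe _, ?_, ⟨P + 1, by omega, ?_, ?_⟩, ?_, ?_⟩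
  · rw [hLs, ← hLmul, hsP, ← pow_mul, ← pow_add, ← hL1]
    congr 1
    rw [hz1, show P - 1 + (P - 1) * P = (P - 1) * (P + 1) by ring]
  · rw [hPb]
    apply Nat.Coprime.symm
    have hb0 : b ≠ 0 := by
      rintro rfl
      exact absurd hbodd (by decide)
    have h1 : q ∣ q ^ b := dvd_pow_self q hb0
    obtain ⟨t, ht⟩ := h1
    rw [ht]
    exact (Nat.coprime_mul_left_add_right q 1 t).2 (Nat.coprime_one_right q)
  · rw [← hLpow' _ _ (by omega), ← hL1]
    congr 1
    rw [← pow_mul, hz1]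
  · intro γ hγ hγσ
    have h1 : π γ * π γ ^ P = 1 := by
      rw [← hsP, hsπ, ← map_mul, hγσ, hπe]
    have h2 : π γ ≠ 0 := by
      intro h0
      rw [h0, zero_mul] at h1
      exact zero_ne_one h1
    obtain ⟨j, hj⟩ := hzK _ h2
    rw [← pow_succ', hj, ← pow_mul, hz1, mul_comm j, mul_comm (P - 1)] at h1
    obtain ⟨t, ht⟩ := Nat.dvd_of_mul_dvd_mul_left (by omega : 0 < P + 1) h1
    refine ⟨t, ?_⟩
    rw [← hLpow, ← pow_mul, ← ht, ← hj]
    exact (hL _ _ hγ rfl).symm
  · by_cases hb1 : b = 1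
    · left
      intro a ha
      obtain ⟨c, hc⟩ := (finrank_eq_one_iff_of_nonzero' (1 : K) one_ne_zero).1 (hb.symm.trans hb1) (π a)
      refine ⟨c, ?_⟩
      rw [← hL _ _ ha rfl]
      apply hL
      · rw [mul_assoc, he]
      · rw [map_mul, hπe, mul_one, ← hc, Algebra.smul_def, mul_one]
        rfl
    · right
      have hb3 : 3 ≤ b := by
        obtain ⟨k, hk⟩ := hbodd
        omega
      have hq1 : q - 1 ∣ P - 1 := by
        rw [hPb]
        have := Nat.sub_dvd_pow_sub_pow q 1 b
        rwa [one_pow] at this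
      obtain ⟨t, ht⟩ := hq1
      have hsq : q ^ 2 - 1 = (q - 1) * (q + 1) := by
        obtain ⟨k, rfl⟩ : ∃ k, q = k + 1 := ⟨q - 1, by omega⟩
        have h1 : (k + 1) ^ 2 = k * (k + 1 + 1) + 1 := by ring
        rw [h1]
        simp only [_root_.add_tsub_cancel_right]
      refine ⟨q + 1, by omega, ⟨L ((z : K) ^ t), hLe _, ?_⟩, ?_⟩
      · have hpos : 0 < q ^ 2 - 1 := by
          rw [hsq]
          exact Nat.mul_pos (by omega) (by omega)
        rw [← hLpow' _ _ (by omega), ← hLpow' _ _ hpos, ← pow_mul, ← pow_mul, ht, hsq]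
        congr 2
        ring
      · rintro ⟨c, hc⟩
        have h1 := congrArg π hc
        rw [map_pow, hLπ, map_mul, hπe, mul_one, ← pow_mul] at h1
        change _ = κ c at h1
        have hc0 : c ≠ 0 := by
          rintro rfl
          rw [map_zero] at h1
          exact pow_ne_zero _ z.ne_zero h1
        -- `c ^ (P + 1) = 1`
        have h2 : c ^ (P + 1) = 1 := by
          apply hκ
          rw [map_pow, ← h1, ← pow_mul, map_one, hz1]
          exact ⟨q + 1, by ring⟩
        have h3 : c ^ P = c ^ q := by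
          obtain ⟨k, hk⟩ := hbodd
          rw [hPb, hk, pow_succ, pow_mul, hpowc]
        have h4 : c ^ (q + 1) = 1 := by
          rw [pow_succ, ← h3, ← pow_succ, h2]
        have h5 : (z : K) ^ ((P - 1) * (q + 1) * (q + 1)) = 1 := by
          rw [pow_mul, h1, ← map_pow, h4, map_one]
        rw [hz1, mul_assoc] at h5
        have h6 := Nat.dvd_of_mul_dvd_mul_left hPpos h5
        have h7 := Nat.le_of_dvd (Nat.mul_pos (by omega) (by omega)) h6
        have h8 := arith_corner hq hb3
        rw [← hPb, sq] at h8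
        omega

end Cfsg.Agent.H398.RC
end

-- part: H398/RC/StrT
section
/-!
# S3510, family E, box E13: STR-T, the algebra `F[g]` with the involutions `*` and `T` (helper398)
-/

set_option autoImplicit false
set_option linter.unusedSectionVars false

namespace Cfsg.Agent.H398.RC

open Module Cfsg Cfsg.Agent.LieClassical.HermBasic Cfsg.Agent.LieClassical.HermSiegel Cfsg.Agent.ClassicalGeometry Cfsg.Agent.H380.RC

/-- `u` is linear and commutes with `g` -/
def Cg {F : Type} [Field F] {n : ℕ} (g u : (Fin n → F) → (Fin n → F)) : Prop :=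
  (∀ v w, u (v + w) = u v + u w) ∧ Lin u ∧ ∀ v, u (g v) = g (u v)

section idem

variable {F : Type} [Field F] [Fintype F] {n q : ℕ} {E : Module.End F (Fin n → F)}

theorem mem_rng (hE : E * E = E) {v : Fin n → F} : v ∈ LinearMap.range E ↔ E v = v := by
  constructor
  · rintro ⟨w, rfl⟩
    rw [← Module.End.mul_apply, hE]
  · intro h
    exact ⟨v, h⟩

theorem compl_rng (hE : E * E = E) : IsCompl (LinearMap.range E) (LinearMap.ker E) := by
  constructor
  · rw [Submodule.disjoint_def]
    intro v h1 h2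
    rw [mem_rng hE] at h1
    rw [← h1]
    exact h2
  · rw [codisjoint_iff, eq_top_iff]
    intro v _
    rw [Submodule.mem_sup]
    refine ⟨E v, ⟨v, rfl⟩, v - E v, ?_, by abel⟩
    rw [LinearMap.mem_ker, map_sub, ← Module.End.mul_apply, hE, sub_self]

theorem orth_rng (hE : E * E = E) (h : Adj q E E) (hF : Fintype.card F = q ^ 2) {v w : Fin n → F}
    (hv : v ∈ LinearMap.range E) (hw : w ∈ LinearMap.ker E) : hermForm n F q v w = 0 := by
  rw [mem_rng hE] at hv
  rw [← hv, h, hw, herm_zero_right hF]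

theorem ndeg_rng (hE : E * E = E) (h : Adj q E E) (hF : Fintype.card F = q ^ 2) :
    NDeg q (LinearMap.range E) := by
  intro v hv h0
  apply herm_nondeg hF
  intro w
  rw [mem_rng hE] at hv
  rw [← hv, h]
  have h1 := h0 (E w) ⟨w, rfl⟩
  exact h1

theorem ndeg_ker (hE : E * E = E) (h : Adj q E E) (hF : Fintype.card F = q ^ 2) :
    NDeg q (LinearMap.ker E) := by
  intro v hv h0
  apply herm_nondeg hF
  intro w
  have h1 := h0 (w - E w) (by
    rw [LinearMap.mem_ker, map_sub, ← Module.End.mul_apply, hE, sub_self])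
  rw [herm_sub_right hF, ← h, show E v = 0 from hv, herm_zero_left, sub_zero] at h1
  exact h1

theorem ts_rng (hE : E * E = E) (h : Adj q E (1 - E)) (hF : Fintype.card F = q ^ 2) :
    TS q (LinearMap.range E) := by
  intro v hv w hw
  rw [mem_rng hE] at hv hw
  rw [← hv, h, LinearMap.sub_apply, Module.End.one_apply, hw, sub_self, herm_zero_right hF]

theorem ts_ker (h : Adj q E (1 - E)) (hF : Fintype.card F = q ^ 2) :
    TS q (LinearMap.ker E) := by
  intro v hv w hw
  have h1 := h.symm hF v w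
  rw [LinearMap.sub_apply, Module.End.one_apply, show E v = 0 from hv, sub_zero, show E w = 0 from hw,
    herm_zero_right hF] at h1
  exact h1

end idem

section main

variable {F : Type} [Field F] [Fintype F] {n q : ℕ}

/-- an element of `SU` from a linear isometry of determinant one -/
theorem exists_su {c : Module.End F (Fin n → F)} (hc : ∀ v w, hermForm n F q (c v) (c w) = hermForm n F q v w)
    (hdet : LinearMap.det c = 1) : ∃ s : SU n F q, ∀ v, act s v = c v :=
  ⟨mkSU (LinearMap.toMatrix' c) (by rw [LinearMap.det_toMatrix', hdet]) (by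
      intro v w
      rw [LinearMap.toMatrix'_mulVec, LinearMap.toMatrix'_mulVec, hc]), fun v => by
    change (LinearMap.toMatrix' c).mulVec v = _
    rw [LinearMap.toMatrix'_mulVec]⟩

end main

end Cfsg.Agent.H398.RC
end

-- part: H743/RC/Small
section
/-!
# S3510, family E, box E8: the small pieces P2, P3, P4 (helper743)
-/

set_option autoImplicit false

namespace Cfsg.Agent.H743.RC

open Module Cfsg Cfsg.Agent.H380.RC Cfsg.Agent.LieClassical.HermBasic Cfsg.Agent.ClassicalGeometry.HermOrtho Polynomial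

section Root

variable {F : Type*} [Field F] [Fintype F] {q : ℕ}

theorem mem_range_of_pow {K : Type*} [Field K] [Algebra F K] {x : K} (hx : x ^ Fintype.card F = x) :
    ∃ y : F, algebraMap F K y = x := by
  classical
  by_contra hcon
  push Not at hcon
  have h1 : 1 < Fintype.card F := Fintype.one_lt_card
  have hne : (X ^ Fintype.card F - X : K[X]) ≠ 0 := FiniteField.X_pow_card_sub_X_ne_zero K h1
  have hdeg : (X ^ Fintype.card F - X : K[X]).natDegree = Fintype.card F :=
    FiniteField.X_pow_card_sub_X_natDegree_eq K h1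
  set s : Finset K := insert x (Finset.univ.image (algebraMap F K)) with hs
  have hcard : s.card = Fintype.card F + 1 := by
    rw [hs, Finset.card_insert_of_notMem, Finset.card_image_of_injective _ (algebraMap F K).injective,
      Finset.card_univ]
    simp only [Finset.mem_image, Finset.mem_univ, true_and]
    exact fun ⟨y, hy⟩ => hcon y hy
  have hle : s.card ≤ (X ^ Fintype.card F - X : K[X]).natDegree := by
    refine card_le_degree_of_subset_roots ?_
    intro y hy
    rw [mem_roots hne, IsRoot.def, eval_sub, eval_pow, eval_X, sub_eq_zero]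
    rw [hs] at hy
    simp only [Finset.mem_insert, Finset.mem_image, Finset.mem_univ, true_and, Finset.mem_val] at hy
    rcases hy with rfl | ⟨z, rfl⟩
    · exact hx
    · rw [← map_pow, FiniteField.pow_card]
  omega

/-- the quadratic equation for the eigenvectors of a unitary `2 × 2` matrix has a root in `F` -/
theorem exists_root (hF : Fintype.card F = q ^ 2) {a b δ : F} (hb : b ≠ 0) (hδ : δ * δ ^ q = 1) :
    ∃ x : F, -(δ * b ^ q) * x ^ 2 + (a - δ * a ^ q) * x - b = 0 := by
  classical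
  obtain ⟨p, k, hp, hchar, hk, -⟩ := exists_prime_pow hF
  have := Fact.mk hp
  let K := AlgebraicClosure F
  have : CharP K p := charP_of_injective_algebraMap (algebraMap F K).injective p
  have hδ0 : δ ≠ 0 := by rintro rfl; simp at hδ
  have hc : -(δ * b ^ q) ≠ 0 := neg_ne_zero.2 (mul_ne_zero hδ0 (pow_ne_zero _ hb))
  -- abbreviations in `K`
  set m := algebraMap F K with hm
  have hadd : ∀ x y : K, (x + y) ^ q = x ^ q + y ^ q := fun x y => by rw [hk]; exact add_pow_char_pow x y p k
  have hneg : ∀ x : K, (-x) ^ q = -x ^ q := by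
    intro x
    have h := hadd x (-x)
    rw [add_neg_cancel, zero_pow (q_pos hF).ne'] at h
    exact (neg_eq_of_add_eq_zero_right h.symm).symm
  have hqq : ∀ y : F, (m y ^ q) ^ q = m y := fun y => by rw [← map_pow, ← map_pow, pow_q_pow_q hF]
  have hδm : m δ * m δ ^ q = 1 := by rw [← map_pow, ← map_mul, hδ, map_one]
  -- the polynomial
  let P : K[X] := C (-(m δ * m b ^ q)) * X ^ 2 + C (m a - m δ * m a ^ q) * X + C (-m b)
  have hcK : -(m δ * m b ^ q) ≠ 0 := by
    have h := (_root_.map_ne_zero m).2 hc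
    rwa [map_neg, map_mul, map_pow] at h
  have hdeg : P.natDegree = 2 := natDegree_quadratic hcK
  have hP0 : P ≠ 0 := fun h => by rw [h, natDegree_zero] at hdeg; omega
  have hPdeg : P.degree ≠ 0 := by rw [degree_eq_natDegree hP0, hdeg]; decide
  obtain ⟨x, hx⟩ := IsAlgClosed.exists_root P hPdeg
  have hev : ∀ y : K, P.IsRoot y ↔ -(m δ * m b ^ q) * y ^ 2 + (m a - m δ * m a ^ q) * y - m b = 0 := by
    intro y
    rw [IsRoot.def]
    simp only [P, eval_add, eval_mul, eval_C, eval_pow, eval_X, sub_eq_add_neg]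
  have hb' : m b ≠ 0 := (_root_.map_ne_zero m).2 hb
  have hx0 : ∀ y : K, P.IsRoot y → y ≠ 0 := by
    rintro y hy rfl
    rw [hev] at hy
    simp at hy
    exact hb hy
  have hδm0 : m δ ≠ 0 := (_root_.map_ne_zero m).2 hδ0
  -- the involution on the roots
  have hinv : ∀ y : K, P.IsRoot y → P.IsRoot (-(y ^ q)⁻¹) := by
    intro y hy
    have hy0 := hx0 y hy
    have hyq : y ^ q ≠ 0 := pow_ne_zero _ hy0
    rw [hev] at hy ⊢
    have h1 : (-(m δ * m b ^ q) * y ^ 2 + (m a - m δ * m a ^ q) * y - m b) ^ q = 0 := by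
      rw [hy, zero_pow (q_pos hF).ne']
    rw [sub_eq_add_neg, hadd, hadd, mul_pow, mul_pow, hneg, hneg, sub_eq_add_neg, hadd, hneg, mul_pow, mul_pow, hqq,
      hqq, ← pow_mul, mul_comm 2 q, pow_mul] at h1
    have hδq : m δ ^ q = (m δ)⁻¹ := by
      exact eq_inv_of_mul_eq_one_right hδm
    rw [hδq] at h1
    generalize y ^ q = Y at h1 hyq
    have h2 : (-(m δ * m b ^ q) * (-(Y)⁻¹) ^ 2 + (m a - m δ * m a ^ q) * (-(Y)⁻¹) - m b) * Y ^ 2 = 0 := by
      have h3 : Y⁻¹ * Y = 1 := inv_mul_cancel₀ hyq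
      have h4 : m δ * (m δ)⁻¹ = 1 := mul_inv_cancel₀ hδm0
      linear_combination m δ * h1 + (-(m δ * m b ^ q) * (Y⁻¹ * Y + 1) - (m a - m δ * m a ^ q) * Y) * h3
        + (m b * Y ^ 2 + m a * Y) * h4
    exact (mul_eq_zero.1 h2).resolve_right (pow_ne_zero _ hyq)
  have htwo : ∀ y : K, P.IsRoot y → y ^ (q ^ 2) = -((-(y ^ q)⁻¹) ^ q)⁻¹ := by
    intro y hy
    rw [hneg, inv_pow, inv_neg, neg_neg, inv_inv, ← pow_mul, sq]
  have hinj : ∀ y z : K, -(y ^ q)⁻¹ = -(z ^ q)⁻¹ → y = z := by
    intro y z h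
    have h1 : y ^ q = z ^ q := inv_injective (neg_injective h)
    have h2 : (y + -z) ^ q = 0 := by rw [hadd, hneg, h1, add_neg_cancel]
    have h3 := pow_eq_zero_iff (q_pos hF).ne' |>.1 h2
    rw [← sub_eq_add_neg, sub_eq_zero] at h3
    exact h3
  have hthree : ∀ y z w : K, P.IsRoot y → P.IsRoot z → P.IsRoot w → y = z ∨ y = w ∨ z = w := by
    intro y z w hy hz hw
    by_contra hcon
    push Not at hcon
    obtain ⟨h1, h2, h3⟩ := hcon
    have hle : ({y, z, w} : Finset K).card ≤ P.natDegree := by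
      refine card_le_degree_of_subset_roots ?_
      intro t ht
      rw [mem_roots hP0]
      simp only [Finset.insert_val, Multiset.mem_ndinsert, Finset.singleton_val, Multiset.mem_singleton] at ht
      rcases ht with rfl | rfl | rfl <;> assumption
    rw [hdeg, Finset.card_eq_three.2 ⟨y, z, w, h1, h2, h3, rfl⟩] at hle
    omega
  have hxq : x ^ (q ^ 2) = x := by
    set y : K := -(x ^ q)⁻¹ with hy
    have hyr : P.IsRoot y := hinv x hx
    have hzr : P.IsRoot (x ^ (q ^ 2)) := by rw [htwo x hx]; exact hinv y hyr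
    rcases hthree x y (x ^ (q ^ 2)) hx hyr hzr with h | h | h
    · have h2 := htwo x hx
      rw [← hy, ← h, ← hy, ← h] at h2
      exact h2
    · exact h.symm
    · -- `y = σ y`
      have h2 := htwo x hx
      rw [← h, ← hy] at h2
      have h3 : x = y := hinj x y (by rw [← hy]; exact h2)
      rw [← h]; exact h3.symm
  rw [← hF] at hxq
  obtain ⟨t, ht⟩ := mem_range_of_pow (F := F) hxq
  refine ⟨t, m.injective ?_⟩
  rw [map_sub, map_add, map_mul, map_mul, map_neg, map_mul, map_sub, map_mul, map_pow, map_pow, map_pow, map_zero, ht]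
  exact (hev x).1 hx

end Root

section Plane

variable {F : Type*} [Field F] [Fintype F] {n q : ℕ} {A : Submodule F (Fin n → F)}

local notation "h" => hermForm n F q

omit [Fintype F] in
theorem expand_two (h2 : finrank F A = 2) {b : Fin 2 → (Fin n → F)} (hbA : ∀ i, b i ∈ A)
    (hb : ∀ i j, h (b i) (b j) = if i = j then 1 else 0) {v : Fin n → F} (hv : v ∈ A) :
    v = h v (b 0) • b 0 + h v (b 1) • b 1 := by
  conv_lhs => rw [eq_sum_of_orthonormal A (by simpa using h2) hbA hb hv]
  rw [Fin.sum_univ_two]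

/-- a linear isometry of a nondegenerate plane has an eigenvector -/
theorem exists_eig (hF : Fintype.card F = q ^ 2) (hA : NDeg q A) (h2 : finrank F A = 2)
    {g : (Fin n → F) → (Fin n → F)} (hl : Lin g) (ha : ∀ v w, g (v + w) = g v + g w)
    (hi : ∀ v w, h (g v) (g w) = h v w) (hs : Stab g A) :
    ∃ e ∈ A, e ≠ 0 ∧ ∃ c : F, g e = c • e := by
  obtain ⟨u, huA, hu⟩ := exists_orthonormal hF A hA h2
  have h00 : h (u 0) (u 0) = 1 := by rw [hu]; rfl
  have h11 : h (u 1) (u 1) = 1 := by rw [hu]; rfl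
  have h01 : h (u 0) (u 1) = 0 := by rw [hu]; rfl
  have h10 : h (u 1) (u 0) = 0 := by rw [hu]; rfl
  have e0 := expand_two h2 huA hu (hs _ (huA 0))
  have e1 := expand_two h2 huA hu (hs _ (huA 1))
  set a := h (g (u 0)) (u 0) with hadef
  set b := h (g (u 0)) (u 1) with hbdef
  set c := h (g (u 1)) (u 0) with hcdef
  set d := h (g (u 1)) (u 1) with hddef
  have q00 : a * a ^ q + b * b ^ q = 1 := by
    have h1 := hi (u 0) (u 0)
    rw [e0, herm_add_left, herm_smul_left, herm_smul_left, herm_add_right hF, herm_add_right hF, herm_smul_right,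
      herm_smul_right, herm_smul_right, herm_smul_right, h00, h01, h10, h11] at h1
    linear_combination h1
  have q10 : c * a ^ q + d * b ^ q = 0 := by
    have h1 := hi (u 1) (u 0)
    rw [e0, e1, herm_add_left, herm_smul_left, herm_smul_left, herm_add_right hF, herm_add_right hF, herm_smul_right,
      herm_smul_right, herm_smul_right, herm_smul_right, h00, h01, h10, h11] at h1
    linear_combination h1
  have q11 : c * c ^ q + d * d ^ q = 1 := by
    have h1 := hi (u 1) (u 1)
    rw [e1, herm_add_left, herm_smul_left, herm_smul_left, herm_add_right hF, herm_add_right hF, herm_smul_right,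
      herm_smul_right, herm_smul_right, herm_smul_right, h00, h01, h10, h11] at h1
    linear_combination h1
  by_cases hb0 : b = 0
  · refine ⟨u 0, huA 0, ?_, a, ?_⟩
    · intro h0
      rw [h0, herm_zero_left] at h00
      exact zero_ne_one h00
    · rw [e0, hb0, zero_smul, add_zero]
  · set δ := a * d - b * c with hδdef
    have hd : d = δ * a ^ q := by rw [hδdef]; linear_combination b * q10 - d * q00
    have hc : c = -(δ * b ^ q) := by rw [hδdef]; linear_combination a * q10 - c * q00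
    have hδ : δ * δ ^ q = 1 := by
      have hcq : c ^ q = -(δ ^ q * b) := by rw [hc, neg_pow_q hF, mul_pow, pow_q_pow_q hF]
      have hdq : d ^ q = δ ^ q * a := by rw [hd, mul_pow, pow_q_pow_q hF]
      rw [hcq, hdq, hc, hd] at q11
      linear_combination q11 - (δ * δ ^ q) * q00
    obtain ⟨x, hx⟩ := exists_root hF (a := a) hb0 hδ
    rw [← hc, ← hd] at hx
    refine ⟨u 0 + x • u 1, A.add_mem (huA 0) (A.smul_mem _ (huA 1)), ?_, a + c * x, ?_⟩
    · intro h0
      have h1 : h (u 0 + x • u 1) (u 0) = 1 := by rw [herm_add_left, herm_smul_left, h00, h10, mul_zero, add_zero]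
      rw [h0, herm_zero_left] at h1
      exact zero_ne_one h1
    · rw [ha, hl, e0, e1]
      have h1 : (a + c * x) * x = b + x * d := by linear_combination hx
      rw [smul_add (a + c * x) (u 0) (x • u 1), smul_smul (a + c * x) x, h1]
      module

/-- (P2) -/
theorem plane (hF : Fintype.card F = q ^ 2) {ι : Type*} {f : ι → (Fin n → F) → (Fin n → F)} (hl : ∀ i, Lin (f i))
    (ha : ∀ i v w, f i (v + w) = f i v + f i w) (hi : ∀ i v w, h (f i v) (f i w) = h v w)
    (hc : ∀ i j v, f i (f j v) = f j (f i v)) (hA : NDeg q A) (h2 : finrank F A = 2) (hs : ∀ i, Stab (f i) A) :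
    (∃ e ∈ A, e ≠ 0 ∧ h e e = 0 ∧ ∀ i, ∃ c : F, f i e = c • e) ∨
    ∃ w₁ ∈ A, ∃ w₂ ∈ A, h w₁ w₁ = 1 ∧ h w₂ w₂ = 1 ∧ h w₁ w₂ = 0 ∧ h w₂ w₁ = 0 ∧
      (∀ v ∈ A, v = h v w₁ • w₁ + h v w₂ • w₂) ∧ ∀ i, (∃ c : F, f i w₁ = c • w₁) ∧ ∃ c : F, f i w₂ = c • w₂ := by
  obtain ⟨u, huA, hu⟩ := exists_orthonormal hF A hA h2
  have h00 : h (u 0) (u 0) = 1 := by rw [hu]; rfl
  have h11 : h (u 1) (u 1) = 1 := by rw [hu]; rfl
  have h01 : h (u 0) (u 1) = 0 := by rw [hu]; rfl
  have h10 : h (u 1) (u 0) = 0 := by rw [hu]; rfl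
  by_cases hsc : ∀ i, ScalOn (f i) A
  · left
    obtain ⟨t, ht⟩ := _root_.Cfsg.Agent.LieClassical.HermBasic.exists_norm_eq hF (c := (-1 : F)) (by rw [neg_pow_q hF, one_pow])
    refine ⟨u 0 + t • u 1, A.add_mem (huA 0) (A.smul_mem _ (huA 1)), ?_, ?_, fun i => ?_⟩
    · intro h0
      have h1 : h (u 0 + t • u 1) (u 0) = 1 := by rw [herm_add_left, herm_smul_left, h00, h10, mul_zero, add_zero]
      rw [h0, herm_zero_left] at h1
      exact zero_ne_one h1
    · rw [herm_add_left, herm_smul_left, herm_add_right hF, herm_add_right hF, herm_smul_right,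
        herm_smul_right, h00, h01, h10, h11]
      linear_combination ht
    · obtain ⟨c, hc⟩ := hsc i
      exact ⟨c, hc _ (A.add_mem (huA 0) (A.smul_mem _ (huA 1)))⟩
  · push Not at hsc
    obtain ⟨i₀, hi₀⟩ := hsc
    obtain ⟨e, heA, he0, c₀, hc₀⟩ := exists_eig hF hA h2 (hl i₀) (ha i₀) (hi i₀) (hs i₀)
    have hcom : ∀ j, ∃ c : F, f j e = c • e := by
      intro j
      by_contra hcon
      push Not at hcon
      apply hi₀
      refine ⟨c₀, ?_⟩
      have hind : LinearIndependent F ![e, f j e] := by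
        rw [LinearIndependent.pair_iff]
        intro s t hst
        have ht : t = 0 := by
          by_contra ht
          apply hcon (-(t⁻¹ * s))
          have h1 : t • f j e = -(s • e) := eq_neg_of_add_eq_zero_right hst
          calc f j e = t⁻¹ • (t • f j e) := by rw [smul_smul, inv_mul_cancel₀ ht, one_smul]
            _ = _ := by rw [h1, smul_neg, smul_smul, neg_smul]
        rw [ht, zero_smul, add_zero] at hst
        exact ⟨(smul_eq_zero.1 hst).resolve_right he0, ht⟩
      have hspan : Submodule.span F (Set.range ![e, f j e]) = A := by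
        apply Submodule.eq_of_le_of_finrank_eq
        · rw [Submodule.span_le]
          rintro _ ⟨k, rfl⟩
          fin_cases k
          · exact heA
          · exact hs j e heA
        · rw [finrank_span_eq_card hind, h2]; rfl
      intro v hv
      rw [← hspan, Submodule.mem_span_range_iff_exists_fun] at hv
      obtain ⟨k, rfl⟩ := hv
      rw [Fin.sum_univ_two]
      simp only [Matrix.cons_val_zero, Matrix.cons_val_one]
      rw [ha, hl, hl, hc₀, hc i₀ j, hc₀, hl, smul_add, smul_comm c₀, smul_comm c₀]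
    by_cases hee : h e e = 0
    · exact Or.inl ⟨e, heA, he0, hee, hcom⟩
    · right
      obtain ⟨t, ht0, ht⟩ := exists_norm_eq_ne hF (c := (h e e)⁻¹) (by rw [inv_pow, herm_self_pow hF]) (inv_ne_zero hee)
      have hw1A : t • e ∈ A := A.smul_mem _ heA
      have hw11 : h (t • e) (t • e) = 1 := by
        rw [herm_smul_left, herm_smul_right, ← mul_assoc, ht, inv_mul_cancel₀ hee]
      have hcom1 : ∀ i, ∃ c : F, f i (t • e) = c • (t • e) := by
        intro i
        obtain ⟨c, hc⟩ := hcom i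
        exact ⟨c, by rw [hl, hc, smul_comm]⟩
      have ex := expand_two h2 huA hu hw1A
      set w₁ := t • e with hw1
      set α := h w₁ (u 0)
      set β := h w₁ (u 1)
      have hαβ : α * α ^ q + β * β ^ q = 1 := by
        rw [ex, herm_add_left, herm_smul_left, herm_smul_left, herm_add_right hF, herm_add_right hF, herm_smul_right,
          herm_smul_right, herm_smul_right, herm_smul_right, h00, h01, h10, h11] at hw11
        linear_combination hw11
      set w₂ := (-β ^ q) • u 0 + (α ^ q) • u 1 with hw2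
      have hw2A : w₂ ∈ A := A.add_mem (A.smul_mem _ (huA 0)) (A.smul_mem _ (huA 1))
      have hw22 : h w₂ w₂ = 1 := by
        rw [hw2, herm_add_left, herm_smul_left, herm_smul_left, herm_add_right hF, herm_add_right hF, herm_smul_right,
          herm_smul_right, herm_smul_right, herm_smul_right, h00, h01, h10, h11, neg_pow_q hF, pow_q_pow_q hF,
          pow_q_pow_q hF]
        linear_combination hαβ
      have hw12 : h w₁ w₂ = 0 := by
        rw [hw2, ex, herm_add_left, herm_smul_left, herm_smul_left, herm_add_right hF, herm_add_right hF, herm_smul_right,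
          herm_smul_right, herm_smul_right, herm_smul_right, h00, h01, h10, h11, neg_pow_q hF, pow_q_pow_q hF,
          pow_q_pow_q hF]
        ring
      have hw21 : h w₂ w₁ = 0 := herm_eq_zero_swap hF hw12
      have hbb : ∀ i j, h (![w₁, w₂] i) (![w₁, w₂] j) = if i = j then 1 else 0 := by
        intro i j
        (revert i j; simp only [hw11, hw12, hw21, hw22, _root_.Fin.forall_fin_succ, _root_.Nat.succ_eq_add_one, Nat.reduceAdd, Fin.isValue, _root_.Matrix.cons_val_zero, _root_.Matrix.cons_val_succ, _root_.Matrix.cons_val_fin_one, _root_.Fin.succ_zero_eq_one, _root_.IsEmpty.forall_iff, _root_.and_true, ↓reduceIte, _root_.zero_ne_one, _root_.and_self, _root_.Fin.succ_ne_zero, _root_.left_eq_ite_iff, _root_.one_ne_zero, _root_.imp_false, _root_.Decidable.not_not, _root_.true_and])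
      have hbA : ∀ i, ![w₁, w₂] i ∈ A := by
        intro i
        fin_cases i
        · exact hw1A
        · exact hw2A
      have hexp : ∀ v ∈ A, v = h v w₁ • w₁ + h v w₂ • w₂ := fun v hv => expand_two h2 hbA hbb hv
      refine ⟨w₁, hw1A, w₂, hw2A, hw11, hw22, hw12, hw21, hexp, fun i => ⟨hcom1 i, h (f i w₂) w₂, ?_⟩⟩
      obtain ⟨c, hc⟩ := hcom1 i
      have h1 : h (f i w₂) w₁ * c ^ q = 0 := by
        have h2 := hi i w₂ w₁
        rw [hc, herm_smul_right, hw21] at h2
        rw [mul_comm]; exact h2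
      have hc0 : c ≠ 0 := by
        rintro rfl
        have h2 := hi i w₁ w₁
        rw [hc, zero_smul, herm_zero_left, hw11] at h2
        exact zero_ne_one h2
      have h3 : h (f i w₂) w₁ = 0 := (mul_eq_zero.1 h1).resolve_right (pow_ne_zero _ hc0)
      conv_lhs => rw [hexp _ (hs i w₂ hw2A), h3, zero_smul, zero_add]

end Plane

/-! ### `q = 2` -/

section Four

variable {F : Type*} [Field F] [Fintype F]

theorem cube (h4 : Fintype.card F = 4) {x : F} (hx : x ≠ 0) : x ^ 3 = 1 := by
  have h := FiniteField.pow_card_sub_one_eq_one x hx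
  rwa [h4] at h

theorem two_zero (h4 : Fintype.card F = 4) : (2 : F) = 0 := by
  have h := FiniteField.cast_card_eq_zero F
  rw [h4] at h
  push_cast at h
  have h2 : (2 : F) * 2 = 0 := by rw [← h]; norm_num
  exact mul_self_eq_zero.1 h2

theorem quad (h4 : Fintype.card F = 4) {x y : F} (hx : x ≠ 0) (hy : y ≠ 0) (hxy : x ≠ y) :
    x ^ 2 + x * y + y ^ 2 = 0 := by
  have h1 : (x - y) * (x ^ 2 + x * y + y ^ 2) = 0 := by
    have h2 := cube h4 hx
    have h3 := cube h4 hy
    linear_combination h2 - h3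
  exact (mul_eq_zero.1 h1).resolve_left (sub_ne_zero.2 hxy)

/-- three nonzero elements of the field with four elements: product one iff all equal or sum zero -/
theorem prod_one (h4 : Fintype.card F = 4) {a b c : F} (ha : a ≠ 0) (hb : b ≠ 0) (hc : c ≠ 0) :
    a * b * c = 1 ↔ (a + b + c = 0 ∨ (a = b ∧ b = c)) := by
  have h2 := two_zero h4
  have a3 := cube h4 ha
  have b3 := cube h4 hb
  have c3 := cube h4 hc
  constructor
  · intro h
    by_cases hab : a = b
    · right
      refine ⟨hab, ?_⟩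
      subst hab
      have h1 : a ^ 2 * (c - a) = 0 := by linear_combination h - a3
      have h3 := (mul_eq_zero.1 h1).resolve_left (pow_ne_zero _ ha)
      exact (sub_eq_zero.1 h3).symm
    · left
      have hq := quad h4 ha hb hab
      have h1 : a * b * (a + b + c) = 0 := by
        linear_combination b * hq - b3 + h
      exact (mul_eq_zero.1 h1).resolve_left (mul_ne_zero ha hb)
  · rintro (h | ⟨rfl, rfl⟩)
    · have hab : a ≠ b := by
        rintro rfl
        apply hc
        linear_combination h - a * h2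
      have hq := quad h4 ha hb hab
      have hc' : c = -(a + b) := by linear_combination h
      rw [hc']
      linear_combination (-b) * hq + b3
    · linear_combination a3

/-- unit vectors: one or three nonzero coordinates -/
theorem unit_cases (h4 : Fintype.card F = 4) {x y z : F} (h : x ^ 3 + y ^ 3 + z ^ 3 = 1) :
    (x ≠ 0 ∧ y = 0 ∧ z = 0) ∨ (x = 0 ∧ y ≠ 0 ∧ z = 0) ∨ (x = 0 ∧ y = 0 ∧ z ≠ 0) ∨ (x ≠ 0 ∧ y ≠ 0 ∧ z ≠ 0) := by
  have h2 := two_zero h4
  by_cases hx : x = 0 <;> by_cases hy : y = 0 <;> by_cases hz : z = 0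
  · subst hx hy hz; norm_num at h
  · exact Or.inr (Or.inr (Or.inl ⟨hx, hy, hz⟩))
  · exact Or.inr (Or.inl ⟨hx, hy, hz⟩)
  · exfalso
    have h3 : (1 : F) = 0 := by linear_combination (-1) * h + cube h4 hy + cube h4 hz + (x ^ 2) * hx + h2
    exact one_ne_zero h3
  · exact Or.inl ⟨hx, hy, hz⟩
  · exfalso
    have h3 : (1 : F) = 0 := by linear_combination (-1) * h + cube h4 hx + cube h4 hz + (y ^ 2) * hy + h2
    exact one_ne_zero h3
  · exfalso
    have h3 : (1 : F) = 0 := by linear_combination (-1) * h + cube h4 hx + cube h4 hy + (z ^ 2) * hz + h2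
    exact one_ne_zero h3
  · exact Or.inr (Or.inr (Or.inr ⟨hx, hy, hz⟩))

/-- the twelve nonsingular points form four triangles, separated by the cubic form `x y z` -/
theorem kappa_iff (h4 : Fintype.card F = 4) {x₀ x₁ x₂ y₀ y₁ y₂ : F} (hx : x₀ ^ 3 + x₁ ^ 3 + x₂ ^ 3 = 1)
    (hy : y₀ ^ 3 + y₁ ^ 3 + y₂ ^ 3 = 1) :
    x₀ * x₁ * x₂ = y₀ * y₁ * y₂ ↔
      (x₀ * y₀ ^ 2 + x₁ * y₁ ^ 2 + x₂ * y₂ ^ 2 = 0 ∨ ∃ c, x₀ = c * y₀ ∧ x₁ = c * y₁ ∧ x₂ = c * y₂) := by
  have sc : ∀ {a b : F}, b ≠ 0 → a = (a * b ^ 2) * b := fun {a b} hb => by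
    linear_combination (-a) * cube h4 hb
  rcases unit_cases h4 hx with ⟨hx0, rfl, rfl⟩ | ⟨rfl, hx1, rfl⟩ | ⟨rfl, rfl, hx2⟩ | ⟨hx0, hx1, hx2⟩ <;>
  rcases unit_cases h4 hy with ⟨hy0, rfl, rfl⟩ | ⟨rfl, hy1, rfl⟩ | ⟨rfl, rfl, hy2⟩ | ⟨hy0, hy1, hy2⟩
  all_goals try (simp; done)
  · simp only [mul_zero, true_iff]
    exact Or.inr ⟨_, sc hy0, by simp, by simp⟩
  · simp only [mul_zero, zero_mul]
    constructor
    · intro h; exact absurd h.symm (mul_ne_zero (mul_ne_zero hy0 hy1) hy2)
    · rintro (h | ⟨c, h1, h2, h3⟩)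
      · simp only [add_zero] at h
        exact absurd h (mul_ne_zero hx0 (pow_ne_zero _ hy0))
      · exfalso
        have hc : c = 0 := (mul_eq_zero.1 h2.symm).resolve_right hy1
        rw [hc, zero_mul] at h1
        exact hx0 h1
  · simp only [mul_zero, true_iff]
    exact Or.inr ⟨_, by simp, sc hy1, by simp⟩
  · simp only [mul_zero, zero_mul]
    constructor
    · intro h; exact absurd h.symm (mul_ne_zero (mul_ne_zero hy0 hy1) hy2)
    · rintro (h | ⟨c, h1, h2, h3⟩)
      · simp only [add_zero, zero_add] at h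
        exact absurd h (mul_ne_zero hx1 (pow_ne_zero _ hy1))
      · exfalso
        have hc : c = 0 := (mul_eq_zero.1 h1.symm).resolve_right hy0
        rw [hc, zero_mul] at h2
        exact hx1 h2
  · simp only [mul_zero, zero_mul, true_iff]
    exact Or.inr ⟨_, by simp, by simp, sc hy2⟩
  · simp only [mul_zero, zero_mul]
    constructor
    · intro h; exact absurd h.symm (mul_ne_zero (mul_ne_zero hy0 hy1) hy2)
    · rintro (h | ⟨c, h1, h2, h3⟩)
      · simp only [zero_add] at h
        exact absurd h (mul_ne_zero hx2 (pow_ne_zero _ hy2))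
      · exfalso
        have hc : c = 0 := (mul_eq_zero.1 h1.symm).resolve_right hy0
        rw [hc, zero_mul] at h3
        exact hx2 h3
  · simp only [mul_zero]
    constructor
    · intro h; exact absurd h (mul_ne_zero (mul_ne_zero hx0 hx1) hx2)
    · rintro (h | ⟨c, h1, h2, h3⟩)
      · rw [zero_pow two_ne_zero, mul_zero, mul_zero, add_zero, add_zero] at h
        exact absurd h (mul_ne_zero hx0 (pow_ne_zero _ hy0))
      · exact absurd h2 (by simpa using hx1)
  · simp only [mul_zero, zero_mul]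
    constructor
    · intro h; exact absurd h (mul_ne_zero (mul_ne_zero hx0 hx1) hx2)
    · rintro (h | ⟨c, h1, h2, h3⟩)
      · rw [zero_pow two_ne_zero, mul_zero, mul_zero, add_zero, zero_add] at h
        exact absurd h (mul_ne_zero hx1 (pow_ne_zero _ hy1))
      · exact absurd h1 hx0
  · simp only [mul_zero, zero_mul]
    constructor
    · intro h; exact absurd h (mul_ne_zero (mul_ne_zero hx0 hx1) hx2)
    · rintro (h | ⟨c, h1, h2, h3⟩)
      · rw [zero_pow two_ne_zero, mul_zero, mul_zero, zero_add, zero_add] at h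
        exact absurd h (mul_ne_zero hx2 (pow_ne_zero _ hy2))
      · exact absurd h1 hx0
  · have hw := prod_one h4 (mul_ne_zero hx0 (pow_ne_zero 2 hy0)) (mul_ne_zero hx1 (pow_ne_zero 2 hy1))
      (mul_ne_zero hx2 (pow_ne_zero 2 hy2))
    have hY := cube h4 (mul_ne_zero (mul_ne_zero hy0 hy1) hy2)
    constructor
    · intro h
      have h1 : x₀ * y₀ ^ 2 * (x₁ * y₁ ^ 2) * (x₂ * y₂ ^ 2) = 1 := by
        linear_combination (y₀ * y₁ * y₂) ^ 2 * h + hY
      rcases hw.1 h1 with h2 | ⟨h2, h3⟩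
      · exact Or.inl h2
      · refine Or.inr ⟨x₀ * y₀ ^ 2, sc hy0, ?_, ?_⟩
        · rw [h2]; exact sc hy1
        · rw [h2, h3]; exact sc hy2
    · intro h
      have h1 : x₀ * y₀ ^ 2 * (x₁ * y₁ ^ 2) * (x₂ * y₂ ^ 2) = 1 := by
        rcases h with h | ⟨c, h5, h6, h7⟩
        · exact hw.2 (Or.inl h)
        · refine hw.2 (Or.inr ?_)
          rw [h5, h6, h7]
          constructor
          · linear_combination c * cube h4 hy0 - c * cube h4 hy1
          · linear_combination c * cube h4 hy1 - c * cube h4 hy2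
      linear_combination (y₀ * y₁ * y₂) * h1 - (x₀ * x₁ * x₂) * hY

set_option maxRecDepth 100000 in
theorem fin_four_aux : ∀ σ : Equiv.Perm (Fin 4), (∀ x, σ x ≠ x) → ∀ x, σ (σ (σ (σ x))) = x := by
  decide +kernel

theorem fin_four (σ : Fin 4 → Fin 4) (hi : ∀ x y, σ x = σ y → x = y) (hf : ∀ x, σ x ≠ x) (x : Fin 4) :
    σ (σ (σ (σ x))) = x :=
  fin_four_aux (Equiv.ofBijective σ (Finite.injective_iff_bijective.1 fun x y h => hi x y h)) hf x

/-- a permutation of odd order of four objects has a fixed point -/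
theorem exists_fixed (h4 : Fintype.card F = 4) (σ : F → F) {m : ℕ} (hm : m.Coprime 2) (hσ : ∀ x, σ^[m] x = x) :
    ∃ x, σ x = x := by
  classical
  by_contra hcon
  push Not at hcon
  have hinj : Function.Injective σ := by
    have hm0 : m ≠ 0 := by rintro rfl; simp at hm
    obtain ⟨k, rfl⟩ := Nat.exists_eq_succ_of_ne_zero hm0
    intro x y hxy
    rw [← hσ x, ← hσ y, Function.iterate_succ_apply, Function.iterate_succ_apply, hxy]
  let e := Fintype.equivFinOfCardEq h4
  have h1 := fin_four (fun i => e (σ (e.symm i)))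
    (fun i j hij => e.symm.injective (hinj (e.injective hij)))
    (fun i hi => hcon (e.symm i) (by rw [Equiv.eq_symm_apply]; exact hi))
  have h2 : ∀ x, Function.IsPeriodicPt σ 4 x := by
    intro x
    have h3 := h1 (e x)
    simp only [Equiv.symm_apply_apply] at h3
    exact e.injective h3
  obtain ⟨x⟩ : Nonempty F := ⟨0⟩
  have h3 : Function.IsPeriodicPt σ m x := hσ x
  have h4' := (h2 x).gcd h3
  have h5 : Nat.gcd 4 m = 1 := by
    have : Nat.Coprime (2 ^ 2) m := Nat.Coprime.pow_left 2 hm.symm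
    exact this
  rw [h5] at h4'
  exact hcon x h4'

end Four

section Nine

variable {F : Type*} [Field F] [Fintype F] {n q : ℕ} {A : Submodule F (Fin n → F)}

local notation "h" => hermForm n F q

/-- (P4) -/
theorem line_three (hq : q = 2) {g : (Fin n → F) → (Fin n → F)} (hl : Lin g)
    (hi : ∀ v w, h (g v) (g w) = h v w) {w : Fin n → F} (hw : h w w ≠ 0) {c : F} (hc : g w = c • w) :
    g^[3] w = w := by
  have h1 := hi w w
  rw [hc, herm_smul_left, herm_smul_right, ← mul_assoc] at h1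
  have h2 : c * c ^ q = 1 := mul_right_cancel₀ hw (by rw [h1, one_mul])
  rw [hq] at h2
  simp only [Function.iterate_succ_apply, Function.iterate_zero, id_eq]
  rw [hc, hl, hl, hc, hl, hc, smul_smul, smul_smul]
  have h3 : c * c * c = 1 := by linear_combination h2
  rw [h3, one_smul]

/-- (P3) : on a nondegenerate space of dimension three, `q = 2`, an isometry of odd order has order dividing nine -/
theorem nine (hF : Fintype.card F = q ^ 2) (hq : q = 2) (hA : NDeg q A) (h3 : finrank F A = 3)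
    {g : (Fin n → F) → (Fin n → F)} (hl : Lin g) (ha : ∀ v w, g (v + w) = g v + g w)
    (hi : ∀ v w, h (g v) (g w) = h v w) (hs : Stab g A) {m : ℕ} (hm : m.Coprime q) (hgm : ∀ v ∈ A, g^[m] v = v) :
    ∀ v ∈ A, g^[9] v = v := by
  classical
  have h4 : Fintype.card F = 4 := by rw [hF, hq]; norm_num
  rw [hq] at hm
  obtain ⟨u, huA, hu⟩ := exists_orthonormal hF A hA h3
  have hexp : ∀ v ∈ A, v = h v (u 0) • u 0 + h v (u 1) • u 1 + h v (u 2) • u 2 := by
    intro v hv
    conv_lhs => rw [eq_sum_of_orthonormal A (by simpa using h3) huA hu hv]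
    rw [Fin.sum_univ_three]
  have hco : ∀ (c : Fin 3 → F) j, h (∑ i, c i • u i) (u j) = c j := fun c j => herm_sum_smul_left hu c j
  -- products in coordinates
  have hprod : ∀ v w, w ∈ A → h v w = h v (u 0) * (h w (u 0)) ^ 2 + h v (u 1) * (h w (u 1)) ^ 2 +
      h v (u 2) * (h w (u 2)) ^ 2 := by
    intro v w hw
    conv_lhs => rw [hexp w hw, herm_add_right hF, herm_add_right hF, herm_smul_right, herm_smul_right, herm_smul_right]
    rw [hq]; ring
  have hunit : ∀ v, v ∈ A → h v v = (h v (u 0)) ^ 3 + (h v (u 1)) ^ 3 + (h v (u 2)) ^ 3 := by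
    intro v hv
    rw [hprod v v hv]; ring
  let κ : (Fin n → F) → F := fun v => h v (u 0) * h v (u 1) * h v (u 2)
  have hκ : ∀ v w, v ∈ A → w ∈ A → h v v = 1 → h w w = 1 → (κ v = κ w ↔ (h v w = 0 ∨ ∃ c : F, v = c • w)) := by
    intro v w hv hw hv1 hw1
    rw [hunit v hv] at hv1
    rw [hunit w hw] at hw1
    rw [hprod v w hw]
    refine (kappa_iff h4 hv1 hw1).trans (or_congr_right ⟨?_, ?_⟩)
    · rintro ⟨c, h1, h2, h3⟩
      refine ⟨c, ?_⟩
      rw [hexp v hv, h1, h2, h3]
      conv_rhs => rw [hexp w hw]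
      module
    · rintro ⟨c, rfl⟩
      exact ⟨c, herm_smul_left _ _ _, herm_smul_left _ _ _, herm_smul_left _ _ _⟩
  have hgA : ∀ (j : ℕ) v, v ∈ A → g^[j] v ∈ A := by
    intro j
    induction j with
    | zero => exact fun v hv => hv
    | succ j ih => exact fun v hv => by rw [Function.iterate_succ_apply]; exact ih _ (hs v hv)
  have hgi : ∀ (j : ℕ) v w, h (g^[j] v) (g^[j] w) = h v w := by
    intro j
    induction j with
    | zero => exact fun v w => rfl
    | succ j ih => exact fun v w => by rw [Function.iterate_succ_apply, Function.iterate_succ_apply, ih, hi]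
  -- the section of `κ`
  have h2 := two_zero h4
  let s : F → (Fin n → F) := fun k => ∑ i, (if k = 0 then ![1, 0, 0] else ![1, 1, k] : Fin 3 → F) i • u i
  have hsA : ∀ k, s k ∈ A := fun k => A.sum_mem fun i _ => A.smul_mem _ (huA i)
  have hs1 : ∀ k, h (s k) (s k) = 1 := by
    intro k
    rw [hunit _ (hsA k), hco, hco, hco]
    by_cases hk : k = 0
    · simp [hk]
    · simp only [hk, if_false, Matrix.cons_val_zero, Matrix.cons_val_one, Matrix.cons_val]
      linear_combination cube h4 hk + h2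
  have hsκ : ∀ k, κ (s k) = k := by
    intro k
    change h (s k) (u 0) * h (s k) (u 1) * h (s k) (u 2) = k
    rw [hco, hco, hco]
    by_cases hk : k = 0
    · simp [hk]
    · simp [hk]
  let σ : F → F := fun k => κ (g (s k))
  have hσ : ∀ v ∈ A, h v v = 1 → κ (g v) = σ (κ v) := by
    intro v hv hv1
    have h5 := (hκ v (s (κ v)) hv (hsA _) hv1 (hs1 _)).1 (hsκ _).symm
    refine (hκ (g v) (g (s (κ v))) (hs _ hv) (hs _ (hsA _)) (by rw [hi, hv1]) (by rw [hi, hs1])).2 ?_
    rcases h5 with h5 | ⟨c, h5⟩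
    · left; rw [hi, h5]
    · right; exact ⟨c, by conv_lhs => rw [h5, hl]⟩
  have hσj : ∀ (j : ℕ) v, v ∈ A → h v v = 1 → κ (g^[j] v) = σ^[j] (κ v) := by
    intro j
    induction j with
    | zero => exact fun v _ _ => rfl
    | succ j ih =>
      intro v hv hv1
      rw [Function.iterate_succ_apply, ih _ (hs _ hv) (by rw [hi, hv1]), hσ v hv hv1, Function.iterate_succ_apply]
  obtain ⟨k, hk⟩ := exists_fixed h4 σ hm (fun x => by
    have h5 := hσj m (s x) (hsA x) (hs1 x)
    rw [hgm _ (hsA x), hsκ] at h5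
    exact h5.symm)
  have hσk : ∀ j : ℕ, σ^[j] k = k := fun j => by
    induction j with
    | zero => rfl
    | succ j ih => rw [Function.iterate_succ_apply, hk, ih]
  -- `g^9` fixes the unit vectors of the class `k`
  have key : ∀ v ∈ A, h v v = 1 → κ v = k → g^[9] v = v := by
    intro v hv hv1 hvk
    have hR : ∀ i j : ℕ, h (g^[i] v) (g^[j] v) = 0 ∨ ∃ c : F, g^[i] v = c • g^[j] v := by
      intro i j
      refine (hκ _ _ (hgA i v hv) (hgA j v hv) (by rw [hgi, hv1]) (by rw [hgi, hv1])).1 ?_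
      rw [hσj i v hv hv1, hσj j v hv hv1, hvk, hσk, hσk]
    have hlj : ∀ (j : ℕ) (c : F) w, g^[j] (c • w) = c • g^[j] w := by
      intro j
      induction j with
      | zero => exact fun c w => rfl
      | succ j ih => exact fun c w => by rw [Function.iterate_succ_apply, hl, ih, Function.iterate_succ_apply]
    have h3v : ∃ c : F, g^[3] v = c • v := by
      rcases hR 1 0 with h5 | ⟨c, h5⟩
      · rcases hR 2 0 with h6 | ⟨c, h6⟩
        · rcases hR 3 0 with h7 | ⟨c, h7⟩
          · exfalso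
            simp only [Function.iterate_zero, id_eq] at h5 h6 h7
            have e1 : g^[1] v = g v := rfl
            -- frame v, g v, g² v
            have h20 : h (g^[2] v) (g^[1] v) = 0 := by
              have := hgi 1 (g^[1] v) v
              rw [h5] at this
              exact this
            have h31 : h (g^[3] v) (g^[1] v) = 0 := by
              have := hgi 1 (g^[2] v) v
              rw [h6] at this
              exact this
            have h32 : h (g^[3] v) (g^[2] v) = 0 := by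
              have := hgi 2 (g^[1] v) v
              rw [h5] at this
              exact this
            have hfr : ∀ i j, h (![v, g^[1] v, g^[2] v] i) (![v, g^[1] v, g^[2] v] j) = if i = j then 1 else 0 := by
              intro i j
              fin_cases i <;> fin_cases j <;>
                simp only [Fin.zero_eta, Fin.mk_one, Fin.reduceFinMk, Matrix.cons_val_zero, Matrix.cons_val_one,
                  Matrix.cons_val, hv1, hgi, h5, h6, h20, herm_eq_zero_swap hF h5, herm_eq_zero_swap hF h6,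
                  herm_eq_zero_swap hF h20] <;> rfl
            have hfA : ∀ i, ![v, g^[1] v, g^[2] v] i ∈ A := by
              intro i
              fin_cases i
              · exact hv
              · exact hgA 1 v hv
              · exact hgA 2 v hv
            have h8 := eq_sum_of_orthonormal A (by simpa using h3) hfA hfr (hgA 3 v hv)
            rw [Fin.sum_univ_three] at h8
            simp only [Matrix.cons_val_zero, Matrix.cons_val_one, Matrix.cons_val, h7, h31, h32, zero_smul,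
              add_zero] at h8
            have h9 := hgi 3 v v
            rw [h8, herm_zero_left, hv1] at h9
            exact zero_ne_one h9
          · exact ⟨c, h7⟩
        · -- `g² v = c v`, `m` odd
          simp only [Function.iterate_zero, id_eq] at h6
          have hodd : Odd m := by
            rw [← Nat.not_even_iff_odd]
            intro he
            have := Nat.Coprime.eq_one_of_dvd hm.symm he.two_dvd
            omega
          obtain ⟨l, hl'⟩ := hodd
          have h7 : ∀ l : ℕ, g^[2 * l] v = c ^ l • v := by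
            intro l
            induction l with
            | zero => simp
            | succ l ih => rw [Nat.mul_succ, Function.iterate_add_apply, h6, hlj, ih, smul_smul, pow_succ']
          have h8 := hgm v hv
          rw [hl'] at h8
          have h8' : g (g^[2 * l] v) = v := by rw [← Function.iterate_succ_apply' g]; exact h8
          rw [h7, hl] at h8'
          clear h8
          rename' h8' => h8
          have hc0 : c ^ l ≠ 0 := by
            intro h0
            rw [h0, zero_smul] at h8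
            rw [← h8, herm_zero_left] at hv1
            exact zero_ne_one hv1
          have h9 : g v = (c ^ l)⁻¹ • v := by
            conv_rhs => rw [← h8]
            rw [smul_smul, inv_mul_cancel₀ hc0, one_smul]
          refine ⟨c * (c ^ l)⁻¹, ?_⟩
          rw [Function.iterate_succ_apply, h9, hlj, h6, smul_smul, mul_comm]
      · simp only [Function.iterate_one, Function.iterate_zero, id_eq] at h5
        refine ⟨c * (c * c), ?_⟩
        simp only [Function.iterate_succ_apply, Function.iterate_zero, id_eq]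
        rw [h5, hl, hl, h5, hl, h5, smul_smul, smul_smul, mul_assoc]
    obtain ⟨c, hc⟩ := h3v
    have h5 := hgi 3 v v
    rw [hc, herm_smul_left, herm_smul_right, hv1, hq] at h5
    have h6 : g^[9] v = (c * (c * c)) • v := by
      rw [show (9 : ℕ) = 3 + (3 + 3) from rfl, Function.iterate_add_apply, Function.iterate_add_apply, hc, hlj, hlj, hc,
        hlj, hc, smul_smul, smul_smul, mul_assoc]
    rw [h6, show c * (c * c) = 1 by linear_combination h5, one_smul]
  -- the class `k` spans `A`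
  have hadd : ∀ (j : ℕ) v w, g^[j] (v + w) = g^[j] v + g^[j] w := by
    intro j
    induction j with
    | zero => exact fun v w => rfl
    | succ j ih =>
      intro v w
      rw [Function.iterate_succ_apply, ha, ih, Function.iterate_succ_apply, Function.iterate_succ_apply]
  have hsmul : ∀ (j : ℕ) (c : F) w, g^[j] (c • w) = c • g^[j] w := by
    intro j
    induction j with
    | zero => exact fun c w => rfl
    | succ j ih => exact fun c w => by rw [Function.iterate_succ_apply, hl, ih, Function.iterate_succ_apply]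
  have hfin : (∀ i, g^[9] (u i) = u i) → ∀ v ∈ A, g^[9] v = v := by
    intro hui v hv
    conv_rhs => rw [hexp v hv]
    conv_lhs => rw [hexp v hv]
    rw [hadd, hadd, hsmul, hsmul, hsmul, hui, hui, hui]
  apply hfin
  -- a vector of the class with given coordinates
  have hmk : ∀ c : Fin 3 → F, c 0 ^ 3 + c 1 ^ 3 + c 2 ^ 3 = 1 → c 0 * c 1 * c 2 = k →
      g^[9] (∑ i, c i • u i) = ∑ i, c i • u i := by
    intro c h5 h6
    have hcA : ∑ i, c i • u i ∈ A := A.sum_mem fun i _ => A.smul_mem _ (huA i)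
    refine key _ hcA ?_ ?_
    · rw [hunit _ hcA, hco, hco, hco, h5]
    · change h _ (u 0) * h _ (u 1) * h _ (u 2) = k
      rw [hco, hco, hco, h6]
  by_cases hk0 : k = 0
  · intro i
    have h5 := hmk (Pi.single i 1) (by (revert i; simp only [_root_.Fin.forall_fin_succ, Fin.isValue, _root_.Pi.single_eq_same, _root_.one_pow, _root_.ne_eq, _root_.one_ne_zero, _root_.not_false_eq_true, _root_.Pi.single_eq_of_ne, _root_.OfNat.ofNat_ne_zero, _root_.zero_pow, _root_.add_zero, Fin.reduceEq, _root_.Fin.succ_ne_zero, _root_.Pi.single_eq_of_ne', _root_.zero_add, _root_.Fin.succ_zero_eq_one, _root_.Fin.succ_one_eq_two, _root_.IsEmpty.forall_iff, _root_.and_self])) (by rw [hk0]; fin_cases i <;> simp)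
    rw [Finset.sum_eq_single i (fun j _ hj => by rw [Pi.single_eq_of_ne hj, zero_smul])
      (fun hi => absurd (Finset.mem_univ i) hi), Pi.single_eq_same, one_smul] at h5
    exact h5
  · -- an element of order three
    obtain ⟨ω, hω⟩ : ∃ ω : F, ω ^ 2 + ω + 1 = 0 := by
      obtain ⟨ω, h0, h1⟩ : ∃ ω : F, ω ≠ 0 ∧ ω ≠ 1 := by
        classical
        by_contra hcon
        push Not at hcon
        have h5 : (Finset.univ : Finset F) ⊆ {0, 1} := by
          intro x _
          by_cases hx : x = 0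
          · simp only [hx, _root_.Finset.mem_insert, _root_.Finset.mem_singleton, _root_.zero_ne_one, _root_.or_false]
          · simp only [hcon x hx, _root_.Finset.mem_insert, _root_.one_ne_zero, _root_.Finset.mem_singleton, _root_.or_true]
        have h6 := Finset.card_le_card h5
        rw [Finset.card_univ, h4] at h6
        have h7 : ({0, 1} : Finset F).card ≤ 2 := Finset.card_le_two
        omega
      refine ⟨ω, ?_⟩
      have h5 := quad h4 h0 (one_ne_zero : (1 : F) ≠ 0) h1
      linear_combination h5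
    have hω3 : ω ^ 3 = 1 := by linear_combination (ω - 1) * hω
    have hk3 := cube h4 hk0
    have f0 := hmk ![1, 1, k] (by simp; linear_combination hk3 + h2) (by simp)
    have f1 := hmk ![1, ω, k * ω ^ 2] (by simp; linear_combination (ω ^ 6) * hk3 + (ω ^ 3 + 2) * hω3 + h2)
      (by simp; linear_combination k * hω3)
    have f2 := hmk ![1, ω ^ 2, k * ω] (by simp; linear_combination (ω ^ 3) * hk3 + (ω ^ 3 + 2) * hω3 + h2)
      (by simp; linear_combination k * hω3)
    rw [Fin.sum_univ_three] at f0 f1 f2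
    simp only [Matrix.cons_val_zero, Matrix.cons_val_one, Matrix.cons_val] at f0 f1 f2
    rw [hadd, hadd, hsmul, hsmul, hsmul] at f0 f1 f2
    set a0 := g^[9] (u 0)
    set a1 := g^[9] (u 1)
    set a2 := g^[9] (u 2)
    have hneg : (-1 : F) = 1 := by linear_combination (-1) * h2
    have hk' : k * k⁻¹ = 1 := mul_inv_cancel₀ hk0
    intro i
    fin_cases i
    · change a0 = u 0
      funext j
      have g0 := congrFun f0 j
      have g1 := congrFun f1 j
      have g2 := congrFun f2 j
      simp only [Pi.add_apply, Pi.smul_apply, smul_eq_mul] at g0 g1 g2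
      linear_combination g0 + g1 + g2 - ((a1 j - u 1 j) + k * (a2 j - u 2 j)) * hω - (a0 j - u 0 j) * h2
    · change a1 = u 1
      funext j
      have g0 := congrFun f0 j
      have g1 := congrFun f1 j
      have g2 := congrFun f2 j
      simp only [Pi.add_apply, Pi.smul_apply, smul_eq_mul] at g0 g1 g2
      linear_combination g0 + ω ^ 2 * g1 + ω * g2 - ((a0 j - u 0 j) + k * (a2 j - u 2 j)) * hω
        - 2 * (a1 j - u 1 j) * hω3 - k * (a2 j - u 2 j) * ω * hω3 - (a1 j - u 1 j) * h2
    · change a2 = u 2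
      funext j
      have g0 := congrFun f0 j
      have g1 := congrFun f1 j
      have g2 := congrFun f2 j
      simp only [Pi.add_apply, Pi.smul_apply, smul_eq_mul] at g0 g1 g2
      linear_combination k⁻¹ * (g0 + ω * g1 + ω ^ 2 * g2 - (a0 j - u 0 j) * hω - (a1 j - u 1 j) * (hω + ω * hω3)
        - 2 * k * (a2 j - u 2 j) * hω3 - k * (a2 j - u 2 j) * h2) - (a2 j - u 2 j) * hk'

end Nine

end Cfsg.Agent.H743.RC
end

-- part: H438/RC/SymStmt
section
/-!
# S3510, family E, box E13 (`GraphSym`): exact statements of the pieces (helper438)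

* `SymT` : the conjugation `T` (symmetric form on `Fix T`, `ε = 1`);
* `SymG` : `g` a linear isometry of odd order prime to `q`, commuting with `T`;
* `Cg g u` : `u` is additive, linear and commutes with `g`;
* `Sym` : the situation of the case split: `g` generates the `p'`-part of the linear members of the family;
* `StrTStmt` : the case split (linear algebra, helper398);
* `SymZero` : (0), `SymDelta` : (1d) (helper63).
-/

set_option autoImplicit false

namespace Cfsg.Agent.H438.RC

open Matrix Cfsg Cfsg.Agent.LieClassical.HermBasic Cfsg.Agent.LieClassical.HermSiegel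
  Cfsg.Agent.ClassicalGeometry.PSUAutBasic Cfsg.Agent.ClassicalGeometry.PSUAutCount Cfsg.Agent.H380.RC

section defs

variable {F : Type*} [Field F] {n : ℕ}

/-- additive, linear, commuting with `g` -/
structure Cg (g u : (Fin n → F) → (Fin n → F)) : Prop where
  add : ∀ v w, u (v + w) = u v + u w
  lin : Lin u
  comm : ∀ v, u (g v) = g (u v)

/-- `T` is a conjugation, the form on `Fix T` is symmetric with values in the fixed field -/
structure SymT (q : ℕ) (T : (Fin n → F) → (Fin n → F)) : Prop where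
  TT : ∀ v, T (T v) = v
  add : ∀ v w, T (v + w) = T v + T w
  smul : ∀ (c : F) v, T (c • v) = c ^ q • T v
  herm : ∀ u v, hermForm n F q (T u) (T v) = hermForm n F q u v ^ q

/-- `g` is a linear isometry of odd order prime to `q`, commuting with `T` -/
structure SymG (q : ℕ) (T g : (Fin n → F) → (Fin n → F)) : Prop where
  add : ∀ v w, g (v + w) = g v + g w
  lin : Lin g
  herm : ∀ u v, hermForm n F q (g u) (g v) = hermForm n F q u v
  comm : ∀ v, g (T v) = T (g v)
  ord : ∃ m : ℕ, Odd m ∧ m.Coprime q ∧ ∀ v, g^[m] v = v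

end defs

/-- the situation of the case split of `GraphSym`: `g` generates the `p'`-part of the linear members of the family -/
structure Sym {G Ω : Type*} [Group G] [MulAction G Ω] {N : Subgroup G} {F : Type*} [Field F] [Fintype F] {n q : ℕ}
    (U : UEnv G Ω N F n q) {ι : Type*} (x : ι → G) (f : ι → (Fin n → F) → (Fin n → F)) (r : ι → ℕ) (i₀ : ι)
    (T g : (Fin n → F) → (Fin n → F)) : Prop where
  gf : GForm U x f r i₀ T
  odd : Odd q
  cov : H106.RC.Cov Ω x
  symT : SymT q T
  symG : SymG q T g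
  ne : ∃ v, g v ≠ v
  /-- the linear members commute with `g`, use `Cg g (f j)` -/
  cg : ∀ j, j ≠ i₀ → Cg g (f j)
  /-- the linear members of order prime to `q` are powers of `g` -/
  pow : ∀ j, j ≠ i₀ → (r j).Coprime q → ∃ k, ∀ v, f j v = g^[k] v

/-- (0) : all linear members have order not prime to `q` (so there is at most one) -/
def SymZero : Prop :=
  ∀ {G Ω : Type} [Group G] [Finite G] [Finite Ω] [Nonempty Ω] [MulAction G Ω] {N : Subgroup G} {F : Type} [Field F]
    [Fintype F] {n q : ℕ} (U : UEnv G Ω N F n q) {ι : Type} [Finite ι] (x : ι → G)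
    (f : ι → (Fin n → F) → (Fin n → F)) (r : ι → ℕ) (i₀ : ι) (T : (Fin n → F) → (Fin n → F)),
    GForm U x f r i₀ T → Odd q → H106.RC.Cov Ω x → (∃ v, T v = v ∧ hermForm n F q v v ≠ 0) →
    (∀ j, j ≠ i₀ → ¬ (r j).Coprime q) → False

end Cfsg.Agent.H438.RC
end

-- part: H438/RC/SymBasic
section
/-!
# S3510, E13: basic facts (helper438)

* `herm_lin` : linear lifts are isometries;
* `symT_of`, `lft_T` : `T` is a lift of `x i₀`, symmetric;
* `comm_el`, `conj_T` : commutators with matrices;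
* `SymT.span` : `Fix T` spans every `T`-stable subspace.
-/

set_option autoImplicit false

namespace Cfsg.Agent.H438.RC

open Matrix Cfsg Cfsg.Agent.LieClassical.HermBasic Cfsg.Agent.LieClassical.HermSiegel
  Cfsg.Agent.LieClassical.HermGen Cfsg.Agent.LieClassical.SUBasic Cfsg.Agent.ClassicalGeometry.PSUAutBasic
  Cfsg.Agent.ClassicalGeometry.PSUAutCount Cfsg.Agent.LieClassical.FieldTransfer Cfsg.Agent.ClassicalGeometry
  Cfsg.Agent.H380.RC

section geo

variable {F : Type*} [Field F] [Fintype F] {n q : ℕ} {T : (Fin n → F) → (Fin n → F)}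

theorem SymT.zero (h : SymT q T) : T 0 = 0 := by
  have h1 := h.add 0 0
  rw [add_zero] at h1
  simpa using h1

theorem SymT.neg (h : SymT q T) (v : Fin n → F) : T (-v) = -T v := by
  rw [eq_neg_iff_add_eq_zero, ← h.add, neg_add_cancel, h.zero]

theorem SymT.sub (h : SymT q T) (v w : Fin n → F) : T (v - w) = T v - T w := by
  rw [sub_eq_add_neg, h.add, h.neg, ← sub_eq_add_neg]

theorem SymT.inj (h : SymT q T) {v w : Fin n → F} (hvw : T v = T w) : v = w := by
  rw [← h.TT v, hvw, h.TT]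

theorem SymT.herm' (hF : Fintype.card F = q ^ 2) (h : SymT q T) (u v : Fin n → F) :
    hermForm n F q (T u) v = hermForm n F q u (T v) ^ q := by
  rw [← h.herm, h.TT]

/-- an additive map commuting with `T`, zero on `Fix T ∩ A`, is zero on `A` -/
theorem SymT.span (hF : Fintype.card F = q ^ 2) (h : SymT q T) {A : Submodule F (Fin n → F)} (hA : Stab T A)
    {δ : (Fin n → F) → (Fin n → F)} (hadd : ∀ v w, δ (v + w) = δ v + δ w) (hlin : Lin δ)
    (h0 : ∀ v ∈ A, T v = v → δ v = 0) : ∀ v ∈ A, δ v = 0 := by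
  intro v hv
  obtain ⟨c, hc⟩ := exists_not_fixed hF
  have key : ∀ c : F, c • δ v + c ^ q • δ (T v) = 0 := by
    intro c
    have h1 : T (c • v + c ^ q • T v) = c • v + c ^ q • T v := by
      rw [h.add, h.smul, h.smul, h.TT, pow_q_pow_q hF, add_comm]
    have h2 := h0 _ (A.add_mem (A.smul_mem c hv) (A.smul_mem (c ^ q) (hA v hv))) h1
    rwa [hadd, hlin, hlin] at h2
  have h1 := key 1
  rw [one_pow, one_smul, one_smul] at h1
  have h2 := key c
  have h3 : δ (T v) = -δ v := (neg_eq_of_add_eq_zero_right h1).symm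
  rw [h3, smul_neg, ← sub_eq_add_neg, ← sub_smul] at h2
  rcases smul_eq_zero.1 h2 with h4 | h4
  · exact absurd (sub_eq_zero.1 h4).symm hc
  · exact h4

end geo

section env

variable {G Ω : Type*} [Group G] [MulAction G Ω] {N : Subgroup G} {F : Type*} [Field F] [Fintype F] {n q : ℕ}
  {U : UEnv G Ω N F n q}

/-- linear lifts are isometries -/
theorem herm_lin {y : G} {f : (Fin n → F) → (Fin n → F)} (h : U.Lft y f) (hl : Lin f) (u v : Fin n → F) :
    hermForm n F q (f u) (f v) = hermForm n F q u v := by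
  obtain ⟨ρ, hs, hh⟩ := Ind.exists_rho h
  have hn := U.hn
  obtain ⟨a, ha⟩ : ∃ a : Fin n → F, a ≠ 0 := ⟨Pi.single ⟨0, by omega⟩ 1, by simp⟩
  have hfa : f a ≠ 0 := fun h0 => ha (Ind.injective h (by rw [h0, Ind.map_zero h]))
  have hρ : ∀ b : F, ρ b = b := by
    intro b
    have h1 := hl b a
    rw [hs] at h1
    have h2 : (ρ b - b) • f a = 0 := by rw [sub_smul, h1, sub_self]
    exact sub_eq_zero.1 ((smul_eq_zero.1 h2).resolve_right hfa)
  rw [hh, hρ]

theorem comm_el {y : G} {f : (Fin n → F) → (Fin n → F)} (h : U.Lft y f) {s : SU n F q}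
    (hs : ∀ v, f (act s v) = act s (f v)) : U.el s * y = y * U.el s := by
  have h1 := h.conj_el hs
  rw [mul_inv_eq_iff_eq_mul] at h1
  exact h1.symm

variable {ι : Type*} {x : ι → G} {f : ι → (Fin n → F) → (Fin n → F)} {r : ι → ℕ} {i₀ : ι}
  {T : (Fin n → F) → (Fin n → F)}

/-- `ε = 1` -/
theorem symT_of (h : GForm U x f r i₀ T) (hv : ∃ v, T v = v ∧ hermForm n F q v v ≠ 0) : SymT q T := by
  obtain ⟨v, h1, h2⟩ := hv
  obtain ⟨ε, -, h4⟩ := h.herm
  have h5 := h4 v v
  rw [h1, herm_self_pow U.hF] at h5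
  have h6 : ε = 1 := by
    have h7 : (ε - 1) * hermForm n F q v v = 0 := by rw [sub_mul, ← h5]; ring
    exact sub_eq_zero.1 ((mul_eq_zero.1 h7).resolve_right h2)
  refine ⟨h.TT, h.add, h.smul, fun u v => ?_⟩
  rw [h4, h6, one_mul]

/-- `T` is a lift of `x i₀` -/
theorem lft_T (h : GForm U x f r i₀ T) (hT : SymT q T) : U.Lft (x i₀) T := by
  obtain ⟨b, hb0, hb⟩ := h.eq
  have hL := h.fam.lft i₀
  obtain ⟨ρ, hs, hh⟩ := Ind.exists_rho hL
  have hn := U.hn
  obtain ⟨a, w, haw⟩ : ∃ v w : Fin n → F, hermForm n F q v w = 1 := by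
    refine ⟨Pi.single ⟨0, by omega⟩ 1, Pi.single ⟨0, by omega⟩ 1, ?_⟩
    rw [herm_single_left, Pi.single_eq_same, one_pow, one_mul]
  have h1 := hT.herm a w
  rw [haw, hb, hb, herm_smul_left, herm_smul_right, hh, haw, map_one, one_pow, mul_one] at h1
  have h2 := hL.scalar h1
  have h3 : T = fun v => b • f i₀ v := funext hb
  rw [h3]
  exact h2

/-- the commutator of `x i₀` with a matrix -/
theorem comm_T (h : GForm U x f r i₀ T) (hT : SymT q T) {s s' : SU n F q} (hs : ∀ v, T (act s (T v)) = act s' v) :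
    U.el s * x i₀ * (U.el s)⁻¹ * (x i₀)⁻¹ = U.el (s * s'⁻¹) := by
  have h1 : ∀ v, T (act s v) = act s' (T v) := by
    intro v
    rw [← hs, hT.TT]
  have h2 := (lft_T h hT).conj_el h1
  rw [map_mul, map_inv, ← h2]
  group

end env

end Cfsg.Agent.H438.RC
end

-- part: H438/RC/SymStmtB
section
/-!
# S3510, family E, box E13 (`GraphSym`): the remaining pieces (helper438)

* `SymBeta` : (1b), from `DStmt`, `SmallStmt` (helper188);
* `SymGamma` : (1c), from `DSwapStmt`, `SmallStmt`, `GraphFourThree` (helper188);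
* `SymThree`, `SymFour` : (1a) with planes, from `GDecStmt`, `DecStmt`, `SmallStmt` (helper398).
-/

set_option autoImplicit false

namespace Cfsg.Agent.H438.RC

open Matrix Cfsg Cfsg.Agent.LieClassical.HermBasic Cfsg.Agent.LieClassical.HermSiegel
  Cfsg.Agent.ClassicalGeometry.PSUAutBasic Cfsg.Agent.ClassicalGeometry.PSUAutCount Cfsg.Agent.H380.RC

/-- (1b) -/
def SymBeta : Prop :=
  ∀ {G Ω : Type} [Group G] [Finite G] [Finite Ω] [Nonempty Ω] [MulAction G Ω] {N : Subgroup G} {F : Type} [Field F]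
    [Fintype F] {n q : ℕ} (U : UEnv G Ω N F n q) {ι : Type} [Finite ι] (x : ι → G)
    (f : ι → (Fin n → F) → (Fin n → F)) (r : ι → ℕ) (i₀ : ι) (T g : (Fin n → F) → (Fin n → F)),
    Sym U x f r i₀ T g → H106.RC.IH (Nat.card (PSU n F q)) →
    ∀ W W' : Submodule F (Fin n → F), TS q W → TS q W' → IsCompl W W' → Stab T W → Stab T W' →
      (∀ u, Cg g u → Stab u W ∧ Stab u W') → False

/-- (1c) -/
def SymGamma : Prop :=
  ∀ {G Ω : Type} [Group G] [Finite G] [Finite Ω] [Nonempty Ω] [MulAction G Ω] {N : Subgroup G} {F : Type} [Field F]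
    [Fintype F] {n q : ℕ} (U : UEnv G Ω N F n q) {ι : Type} [Finite ι] (x : ι → G)
    (f : ι → (Fin n → F) → (Fin n → F)) (r : ι → ℕ) (i₀ : ι) (T g : (Fin n → F) → (Fin n → F)),
    Sym U x f r i₀ T g → H106.RC.IH (Nat.card (PSU n F q)) →
    ∀ W W' : Submodule F (Fin n → F), TS q W → TS q W' → IsCompl W W' → (∀ v ∈ W, T v ∈ W') → (∀ v ∈ W', T v ∈ W) →
      (∀ u, Cg g u → Stab u W ∧ Stab u W') → False

/-- (1a), `n = 3`, no member of order `p` -/
def SymThree : Prop :=
  ∀ {G Ω : Type} [Group G] [Finite G] [Finite Ω] [Nonempty Ω] [MulAction G Ω] {N : Subgroup G} {F : Type} [Field F]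
    [Fintype F] {n q : ℕ} (U : UEnv G Ω N F n q) {ι : Type} [Finite ι] (x : ι → G)
    (f : ι → (Fin n → F) → (Fin n → F)) (r : ι → ℕ) (i₀ : ι) (T g : (Fin n → F) → (Fin n → F)),
    Sym U x f r i₀ T g → H106.RC.IH (Nat.card (PSU n F q)) → (∀ i, (r i).Coprime q) → n = 3 →
    ∀ A B : Submodule F (Fin n → F), NDeg q A → NDeg q B → IsCompl A B → Module.finrank F A = 2 →
      Module.finrank F B = 1 → (∀ v ∈ A, ∀ w ∈ B, hermForm n F q v w = 0) → Stab T A → Stab T B →
      (∀ u, Cg g u → Stab u A ∧ Stab u B) → False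

/-- (1a), `n = 4`, no member of order `p` -/
def SymFour : Prop :=
  ∀ {G Ω : Type} [Group G] [Finite G] [Finite Ω] [Nonempty Ω] [MulAction G Ω] {N : Subgroup G} {F : Type} [Field F]
    [Fintype F] {n q : ℕ} (U : UEnv G Ω N F n q) {ι : Type} [Finite ι] (x : ι → G)
    (f : ι → (Fin n → F) → (Fin n → F)) (r : ι → ℕ) (i₀ : ι) (T g : (Fin n → F) → (Fin n → F)),
    Sym U x f r i₀ T g → H106.RC.IH (Nat.card (PSU n F q)) → (∀ i, (r i).Coprime q) → n = 4 →
    ∀ A B : Submodule F (Fin n → F), NDeg q A → NDeg q B → IsCompl A B → Module.finrank F A = 2 →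
      Module.finrank F B = 2 → (∀ v ∈ A, ∀ w ∈ B, hermForm n F q v w = 0) → Stab T A → Stab T B →
      (∀ u, Cg g u → Stab u A ∧ Stab u B) → False

end Cfsg.Agent.H438.RC
end
end

-- part: H438/RC/SymAlpha_mg
section
prune_inst 0x12030040500120000000510522000002000000000000c0084020102000184420d020840090004000800000000000008100000800040000004000400000100000080000420000000000018000000000000000000000000000000000000000000000000000
set_option linter.all false
open scoped Cfsg.Agent.FastGrp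

-- part: H438/RC/SymZero
section
/-!
# S3510, E13, part (0) (helper438)

* `zero_pair` : `x₁` (lift `T`) and `y` (lift `u`, linear, of order a power of `p`, commuting with `T`) do not cover;
* `symZero : SymZero`.
-/

set_option autoImplicit false

namespace Cfsg.Agent.H438.RC

open Matrix Cfsg Cfsg.Agent.LieClassical.HermBasic Cfsg.Agent.LieClassical.HermSiegel
  Cfsg.Agent.LieClassical.HermGen Cfsg.Agent.LieClassical.SUBasic Cfsg.Agent.ClassicalGeometry.PSUAutBasic
  Cfsg.Agent.ClassicalGeometry.PSUAutCount Cfsg.Agent.LieClassical.FieldTransfer Cfsg.Agent.ClassicalGeometry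
  Cfsg.Agent.H380.RC

theorem exists_last {V : Type*} [Zero V] {δ : V → V} {N : ℕ} {w : V} (h : δ^[N] w = 0) (h0 : δ 0 = 0)
    (hw : δ w ≠ 0) : ∃ m, δ (δ^[m] w) ≠ 0 ∧ δ (δ (δ^[m] w)) = 0 := by
  classical
  have hex : ∃ m, δ (δ^[m] w) = 0 := ⟨N, by rw [h, h0]⟩
  obtain ⟨m, hm⟩ : ∃ m, Nat.find hex = m + 1 := by
    refine ⟨Nat.find hex - 1, ?_⟩
    have h1 : Nat.find hex ≠ 0 := by
      intro h2
      have h3 := Nat.find_spec hex
      rw [h2] at h3
      exact hw h3
    omega
  refine ⟨m, Nat.find_min hex (by omega), ?_⟩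
  have h3 := Nat.find_spec hex
  rw [hm, Function.iterate_succ_apply'] at h3
  exact h3

section geo

variable {F : Type*} [Field F] {n : ℕ}

/-- a linear map of order a power of `p` is unipotent -/
theorem unip {p k : ℕ} [Fact p.Prime] [CharP F p] {u : (Fin n → F) → (Fin n → F)}
    (hadd : ∀ v w, u (v + w) = u v + u w) (hlin : Lin u) (hk : ∀ v, u^[p ^ k] v = v) (v : Fin n → F) :
    (fun v => u v - v)^[p ^ k] v = 0 := by
  let L : Module.End F (Fin n → F) := { toFun := u, map_add' := hadd, map_smul' := hlin }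
  have h1 : ((Polynomial.X - 1 : Polynomial F) ^ (p ^ k)) = Polynomial.X ^ (p ^ k) - 1 := by
    rw [sub_pow_char_pow, one_pow]
  have h2 := congrArg (Polynomial.aeval L) h1
  rw [map_pow, map_sub, map_sub, map_pow, Polynomial.aeval_X, map_one] at h2
  have h3 : L ^ (p ^ k) = 1 := by
    refine LinearMap.ext fun w => ?_
    rw [Module.End.pow_apply]
    exact hk w
  rw [h3, sub_self] at h2
  have h4 := LinearMap.congr_fun h2 v
  rw [Module.End.pow_apply] at h4
  exact h4

end geo

section env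

variable {G Ω : Type*} [Group G] [MulAction G Ω] {N : Subgroup G} {F : Type*} [Field F] [Fintype F] {n q : ℕ}
  {U : UEnv G Ω N F n q}

/-- (MV) for two elements -/
theorem mv_pair {x₁ y c : G} (hcov : ∀ ω : Ω, x₁ • ω = ω ∨ y • ω = ω) (hc : c * y = y * c) (ω : Ω) :
    (c * x₁ * c⁻¹ * x₁⁻¹) • ω = ω ∨ y • ω = ω := by
  by_cases hy : y • ω = ω
  · exact Or.inr hy
  left
  have h1 : x₁ • ω = ω := (hcov ω).resolve_right hy
  have h2 : x₁ • c⁻¹ • ω = c⁻¹ • ω := by
    refine (hcov _).resolve_right fun h3 => hy ?_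
    have h4 : c • y • c⁻¹ • ω = y • ω := by
      rw [← mul_smul, hc, mul_smul, smul_inv_smul]
    rw [← h4, h3, smul_inv_smul]
  have h3 : x₁⁻¹ • ω = ω := by rw [inv_smul_eq_iff, h1]
  rw [mul_smul, h3, mul_smul, mul_smul, h2, smul_inv_smul]

theorem neg_trace (hF : Fintype.card F = q ^ 2) {μ : F} (hμ : μ + μ ^ q = 0) : -μ + (-μ) ^ q = 0 := by
  rw [neg_pow_q hF, ← neg_add, hμ, neg_zero]

theorem transv_inv' (hF : Fintype.card F = q ^ 2) {e : Fin n → F} (he : hermForm n F q e e = 0) {μ : F}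
    (hμ : μ + μ ^ q = 0) : (transv hF e he μ hμ)⁻¹ = transv hF e he (-μ) (neg_trace hF hμ) := by
  apply inv_eq_of_mul_eq_one_right
  apply ext_act
  intro v
  rw [act_mul, act_transv, act_transv, act_one, herm_add_left, herm_smul_left, he, mul_zero, add_zero, add_assoc,
    ← add_smul]
  ring_nf
  simp

/-- the conjugate by `T` of a transvection with centre in `Fix T` -/
theorem T_transv {T : (Fin n → F) → (Fin n → F)} (hF : Fintype.card F = q ^ 2) (hT : SymT q T) {e : Fin n → F}
    (he : hermForm n F q e e = 0) (hTe : T e = e) {μ : F} (hμ : μ + μ ^ q = 0) (v : Fin n → F) :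
    T (act (transv hF e he μ hμ) (T v)) = act (transv hF e he μ hμ)⁻¹ v := by
  rw [transv_inv', act_transv, act_transv, hT.add, hT.TT, hT.smul, hTe]
  congr 2
  have h1 : hermForm n F q (T v) e = hermForm n F q v e ^ q := by
    rw [← hT.herm, hTe]
  rw [h1, mul_pow, pow_q_pow_q hF, (neg_eq_of_add_eq_zero_right hμ)]

theorem zero_pair [Nonempty Ω] (U : UEnv G Ω N F n q) (hq : Odd q) {x₁ y : G} {T u : (Fin n → F) → (Fin n → F)}
    (hT : SymT q T) (h1 : U.Lft x₁ T) (h2 : U.Lft y u) (hu : Lin u) (hc : ∀ v, u (T v) = T (u v)) (hy : y ≠ 1)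
    {p k : ℕ} (hp : p.Prime) (hpq : p ∣ q) (hk : ∀ v, u^[p ^ k] v = v)
    (hcov : ∀ ω : Ω, x₁ • ω = ω ∨ y • ω = ω) : False := by
  have hF := U.hF
  have hpF := Fact.mk hp
  have hchar : CharP F p := by
    obtain ⟨p', k', hp', hchar, hk', -⟩ := exists_prime_pow U.hF
    have h3 : p = p' := by
      rw [hk'] at hpq
      exact (Nat.prime_dvd_prime_iff_eq hp hp').1 (hp.dvd_of_dvd_pow hpq)
    rw [h3]
    exact hchar
  have hp2 : (2 : F) ≠ 0 := by
    intro h3
    have h4 : p ∣ 2 := (CharP.cast_eq_zero_iff F p 2).1 (by exact_mod_cast h3)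
    have h5 : p = 2 := (Nat.prime_dvd_prime_iff_eq hp Nat.prime_two).1 h4
    rw [h5] at hpq
    obtain ⟨a, ha⟩ := hq
    omega
  have hadd := Ind.map_add h2
  have hun := unip hadd hu hk
  have hherm := herm_lin h2 hu
  set δ : (Fin n → F) → (Fin n → F) := fun v => u v - v with hδdef
  have hδ : ∀ v, δ v = u v - v := fun v => rfl
  have hδ0 : δ 0 = 0 := by rw [hδ, Ind.map_zero h2, sub_self]
  have hδadd : ∀ v w, δ (v + w) = δ v + δ w := by
    intro v w
    rw [hδ, hδ, hδ, hadd]
    abel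
  have hδlin : Lin δ := by
    intro c v
    rw [hδ, hδ, hu, smul_sub]
  have hδT : ∀ v, δ (T v) = T (δ v) := by
    intro v
    rw [hδ, hδ, hc, hT.sub]
  -- a vector of `Fix T` which is moved
  obtain ⟨w, hTw, hw⟩ : ∃ w, T w = w ∧ δ w ≠ 0 := by
    by_contra hcon
    push Not at hcon
    apply hy
    rw [h2.eq_one_iff]
    refine ⟨1, fun v => ?_⟩
    have h3 := hT.span hF (A := ⊤) (fun _ _ => Submodule.mem_top) hδadd hδlin (fun v _ hv => hcon v hv) v
      Submodule.mem_top
    rw [hδ] at h3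
    rw [one_smul]
    exact sub_eq_zero.1 h3
  obtain ⟨m, hm1, hm2⟩ := exists_last (hun w) hδ0 hw
  have hTz : T (δ^[m] w) = δ^[m] w := by
    have h3 : ∀ m, T (δ^[m] w) = δ^[m] w := by
      intro m
      induction m with
      | zero => exact hTw
      | succ m ih => rw [Function.iterate_succ_apply', ← hδT, ih]
    exact h3 m
  set z := δ^[m] w with hz
  obtain ⟨e, he⟩ : ∃ e, e = δ z := ⟨_, rfl⟩
  have he0 : e ≠ 0 := by rw [he]; exact hm1
  have hue : u e = e := by
    rw [← he] at hm2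
    rw [hδ] at hm2
    exact sub_eq_zero.1 hm2
  have hTe : T e = e := by rw [he, ← hδT, hTz]
  have hee : hermForm n F q e e = 0 := by
    nth_rewrite 1 [he]
    rw [hδ, herm_sub_left]
    nth_rewrite 1 [← hue]
    rw [hherm, sub_self]
  -- the transvection
  obtain ⟨μ, hμ0, hμ⟩ := exists_trace_zero_ne hF
  have hμ' : (μ + μ) + (μ + μ) ^ q = 0 := by
    rw [add_pow_q hF, add_add_add_comm, hμ, add_zero]
  have hμ'0 : μ + μ ≠ 0 := by
    rw [← two_mul]
    exact mul_ne_zero hp2 hμ0
  have hcy : U.el (transv hF e hee μ hμ) * y = y * U.el (transv hF e hee μ hμ) := by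
    refine comm_el h2 fun v => ?_
    rw [act_transv, act_transv, hadd, hu, hue]
    congr 3
    nth_rewrite 2 [← hue]
    rw [hherm]
  have hcx : U.el (transv hF e hee μ hμ) * x₁ * (U.el (transv hF e hee μ hμ))⁻¹ * x₁⁻¹ =
      U.el (transv hF e hee (μ + μ) hμ') := by
    have h3 : ∀ v, T (act (transv hF e hee μ hμ) v) = act (transv hF e hee μ hμ)⁻¹ (T v) := by
      intro v
      rw [← T_transv hF hT hee hTe hμ, hT.TT]
    have h4 := h1.conj_el h3
    have h5 : U.el (transv hF e hee μ hμ) * x₁ * (U.el (transv hF e hee μ hμ))⁻¹ * x₁⁻¹ =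
        U.el (transv hF e hee μ hμ) * (x₁ * U.el (transv hF e hee μ hμ) * x₁⁻¹)⁻¹ := by group
    rw [h5, h4, map_inv, inv_inv, ← map_mul]
    congr 1
    rw [transv_mul]
  have hcov' : ∀ ω : Ω, U.el (transv hF e hee (μ + μ) hμ') • ω = ω ∨ y • ω = ω := by
    intro ω
    have h3 := mv_pair hcov hcy ω
    rwa [hcx] at h3
  -- the three cases
  by_cases hi : ∃ w : Fin n → F, hermForm n F q w e = 0 ∧ ∀ a : F, w - (1 : F) ^ q • u w ≠ a • e
  · obtain ⟨w, hw1, hw2⟩ := hi
    exact U.root_one_of_move h2 he0 hee (c := 1) (by rw [hue, one_smul]) hw1 hw2 hμ' hμ'0 hcov'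
  push Not at hi
  have hi' : ∀ w : Fin n → F, hermForm n F q w e = 0 → ∃ a : F, u w = w + a • e := by
    intro w hw
    obtain ⟨a, ha⟩ := hi w hw
    refine ⟨-a, ?_⟩
    rw [neg_smul, ← ha, one_pow, one_smul]
    abel
  by_cases hii : ∃ (w : Fin n → F) (a : F), hermForm n F q w e = 0 ∧ u w = w + a • e ∧ a ≠ 0
  · obtain ⟨w, a, hw1, hw2, ha⟩ := hii
    obtain ⟨b, hb⟩ := exists_sub_pow hF hμ'
    -- scale
    obtain ⟨d, hd⟩ : ∃ d : F, d = -b * a⁻¹ := ⟨_, rfl⟩
    have hdw : hermForm n F q (d • w) e = 0 := by rw [herm_smul_left, hw1, mul_zero]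
    have hud : u (d • w) = d • w + (-b) • e := by
      rw [hu, hw2, smul_add, smul_smul, hd, mul_assoc, inv_mul_cancel₀ ha, mul_one]
    obtain ⟨ν, hν⟩ := exists_mu hF hee hdw
    have h3 : y * U.el (siegel hF e (d • w) ν hν) * y⁻¹ =
        U.el ((transv hF e hee (μ + μ) hμ')⁻¹ * siegel hF e (d • w) ν hν) := by
      apply h2.conj_el
      intro v
      have hL : u (v + hermForm n F q v e • d • w + (ν * hermForm n F q v e - hermForm n F q v (d • w)) • e) =
          u v + hermForm n F q v e • (d • w + (-b) • e) +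
            (ν * hermForm n F q v e - hermForm n F q v (d • w)) • e := by
        rw [hadd, hadd, hu _ (d • w), hud, hu _ e, hue]
      rw [act_mul, transv_inv', act_transv, act_siegel, act_siegel, hL]
      have h5 : hermForm n F q (u v) e = hermForm n F q v e := by
        nth_rewrite 1 [← hue]
        rw [hherm]
      have h6 : hermForm n F q (u v) (d • w) = hermForm n F q v (d • w) + b ^ q * hermForm n F q v e := by
        have h7 : d • w = u (d • w) + b • e := by rw [hud, neg_smul]; abel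
        conv_lhs => rw [h7, herm_add_right hF, hherm, herm_smul_right b (u v) e, h5]
      rw [h5, h6]
      have h8 : hermForm n F q (u v + (hermForm n F q v e • d • w +
          (ν * hermForm n F q v e - (hermForm n F q v (d • w) + b ^ q * hermForm n F q v e)) • e)) e =
          hermForm n F q v e := by
        rw [herm_add_left, herm_add_left, herm_smul_left, herm_smul_left (c := _ - _), h5, hdw, hee, mul_zero,
          mul_zero, add_zero, add_zero]
      have h9 : u v + hermForm n F q v e • d • w +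
          (ν * hermForm n F q v e - (hermForm n F q v (d • w) + b ^ q * hermForm n F q v e)) • e =
          u v + (hermForm n F q v e • d • w +
          (ν * hermForm n F q v e - (hermForm n F q v (d • w) + b ^ q * hermForm n F q v e)) • e) := add_assoc _ _ _
      rw [h9, h8, ← hb]
      module
    have h4 : U.el (transv hF e hee (μ + μ) hμ') ∈ cmm (U.Q e hee) y := by
      have h5 := mem_cmm (U := U.Q e hee) (x := y) (UEnv.siegel_mem_Q (U := U) (hu := hee) hν)
      have h6 : U.el (siegel hF e (d • w) ν hν) * y * (U.el (siegel hF e (d • w) ν hν))⁻¹ * y⁻¹ =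
          U.el (transv hF e hee (μ + μ) hμ') := by
        have h7 : U.el (siegel hF e (d • w) ν hν) * y * (U.el (siegel hF e (d • w) ν hν))⁻¹ * y⁻¹ =
          U.el (siegel hF e (d • w) ν hν) * (y * U.el (siegel hF e (d • w) ν hν) * y⁻¹)⁻¹ := by group
        rw [h7, h3, map_mul, map_inv]
        have h8 := congrArg U.el (transv_comm hF hν hμ')
        rw [map_mul, map_mul] at h8
        rw [_root_.mul_inv_rev, inv_inv, ← mul_assoc, mul_inv_cancel, one_mul]
      rwa [h6] at h5
    exact not_cov_one U.env (U := U.Q e hee) hcov' (fun y hy => UEnv.Q_comm hμ' hy)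
      (U.el_transv_ne hee he0 hμ' hμ'0) h4
  push Not at hii
  have hfix : ∀ w : Fin n → F, hermForm n F q w e = 0 → u w = w := by
    intro w hw
    obtain ⟨a, ha⟩ := hi' w hw
    rw [hii w a hw ha, zero_smul, add_zero] at ha
    exact ha
  -- `u` is a transvection
  obtain ⟨z', hz'⟩ := exists_herm_ne_zero hF he0
  have hz'' : hermForm n F q z' e ≠ 0 := fun h0 => hz' (herm_eq_zero_swap hF h0)
  obtain ⟨b, hb⟩ : ∃ b, b = (hermForm n F q z' e)⁻¹ • z' := ⟨_, rfl⟩
  have hbe : hermForm n F q b e = 1 := by rw [hb, herm_smul_left, inv_mul_cancel₀ hz'']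
  have hv : ∀ v, δ v = hermForm n F q v e • δ b := by
    intro v
    have h3 : δ (v - hermForm n F q v e • b) = 0 := by
      rw [hδ, sub_eq_zero]
      apply hfix
      rw [herm_sub_left, herm_smul_left, hbe, mul_one, sub_self]
    have h4 : v = (v - hermForm n F q v e • b) + hermForm n F q v e • b := by abel
    conv_lhs => rw [h4, hδadd, h3, zero_add, hδlin]
  obtain ⟨ν, hν⟩ : ∃ ν : F, δ b = ν • e := by
    by_contra hcon
    push Not at hcon
    obtain ⟨w, hw1, hw2⟩ := exists_perp_eq hF hcon 1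
    have h3 := hherm w b
    rw [hfix w hw1] at h3
    have h4 : u b = δ b + b := by rw [hδ]; abel
    rw [h4, herm_add_right hF, hw2, add_eq_right] at h3
    exact one_ne_zero h3
  have hv' : ∀ v, u v = v + (ν * hermForm n F q v e) • e := by
    intro v
    have h3 := hv v
    rw [hν, hδ, smul_smul, mul_comm] at h3
    rw [← h3]
    abel
  have hν1 : ν ^ q = ν := by
    have h3 := hc b
    rw [hv', hv', hT.add, hT.smul, hTe, hbe, mul_one] at h3
    have h4 : hermForm n F q (T b) e = 1 := by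
      rw [← hTe, hT.herm, hbe, one_pow]
    rw [h4, mul_one] at h3
    have h5 : (ν - ν ^ q) • e = 0 := by
      rw [sub_smul, sub_eq_zero]
      exact add_left_cancel h3
    exact (sub_eq_zero.1 ((smul_eq_zero.1 h5).resolve_right he0)).symm
  have hν2 : ν + ν ^ q = 0 := by
    have h3 := hherm b b
    have h4 : hermForm n F q e b = 1 := by rw [herm_swap hF, hbe, one_pow]
    rw [hv', hbe, mul_one, herm_add_left, herm_add_right hF, herm_add_right hF, herm_smul_left, herm_smul_left,
      herm_smul_right, herm_smul_right, hbe, h4, hee] at h3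
    linear_combination h3
  have hν0 : ν = 0 := by
    rw [hν1, ← two_mul] at hν2
    exact (mul_eq_zero.1 hν2).resolve_left hp2
  apply hy
  rw [h2.eq_one_iff]
  refine ⟨1, fun v => ?_⟩
  rw [hv', hν0, zero_mul, zero_smul, add_zero, one_smul]

end env

theorem symZero : SymZero := by
  intro G Ω _ _ _ _ _ N F _ _ n q U ι _ x f r i₀ T hG hq hcov hv hnc
  have hT := symT_of hG hv
  have hpf := hG.fam.pf
  by_cases hex : ∃ j, j ≠ i₀
  · obtain ⟨j, hj⟩ := hex
    have hall : ∀ i, i = i₀ ∨ i = j := by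
      intro i
      by_cases hi : i = i₀
      · exact Or.inl hi
      right
      apply hpf.inj
      obtain ⟨p, k, hp, -, hk, -⟩ := exists_prime_pow U.hF
      have key : ∀ l, l ≠ i₀ → r l = p := by
        intro l hl
        have h1 := hnc l hl
        rw [(hpf.prime l).coprime_iff_not_dvd, not_not, hk] at h1
        exact (Nat.prime_dvd_prime_iff_eq (hpf.prime l) hp).1 ((hpf.prime l).dvd_of_dvd_pow h1)
      rw [key i hi, key j hj]
    have h1 := hnc j hj
    rw [(hpf.prime j).coprime_iff_not_dvd, not_not] at h1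
    obtain ⟨k, hk⟩ := hG.fam.ord j
    refine zero_pair U hq hT (lft_T hG hT) (hG.fam.lft j) (hG.lin j hj) (hG.comm j hj) (hpf.ne j) (hpf.prime j) h1
      hk fun ω => ?_
    obtain ⟨i, hi⟩ := hcov ω
    rcases hall i with rfl | rfl
    · exact Or.inl hi
    · exact Or.inr hi
  · push Not at hex
    apply hpf.ne i₀
    refine U.env.single fun ω => ?_
    obtain ⟨i, hi⟩ := hcov ω
    rwa [hex i] at hi

end Cfsg.Agent.H438.RC
end

-- part: H438/RC/SymAlpha
section
/-!
# S3510, E13, part (1a) (helper438)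

* `three_le` : a `T`-stable nondegenerate subspace on which a unipotent isometry commuting with `T` acts nontrivially
  has dimension at least 3;
* `sym_alpha` : (1a) from `DecStmt`, `SmallStmt`, `SymThree`, `SymFour`.
-/

set_option autoImplicit false

namespace Cfsg.Agent.H438.RC

open Matrix Cfsg Cfsg.Agent.LieClassical.HermBasic Cfsg.Agent.LieClassical.HermSiegel
  Cfsg.Agent.LieClassical.HermGen Cfsg.Agent.LieClassical.SUBasic Cfsg.Agent.ClassicalGeometry.PSUAutBasic
  Cfsg.Agent.ClassicalGeometry.PSUAutCount Cfsg.Agent.LieClassical.FieldTransfer Cfsg.Agent.ClassicalGeometry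
  Cfsg.Agent.H380.RC

section geo

variable {F : Type*} [Field F] [Fintype F] {n q : ℕ} {T : (Fin n → F) → (Fin n → F)}

theorem three_le (hF : Fintype.card F = q ^ 2) (h2 : (2 : F) ≠ 0) (hT : SymT q T) {C : Submodule F (Fin n → F)}
    (hC : NDeg q C) (hTC : Stab T C) {u : (Fin n → F) → (Fin n → F)} (hadd : ∀ v w, u (v + w) = u v + u w)
    (hlin : Lin u) (hherm : ∀ v w, hermForm n F q (u v) (u w) = hermForm n F q v w) (hc : ∀ v, u (T v) = T (u v))
    (hu : Stab u C) {M : ℕ} (hM : ∀ v, (fun v => u v - v)^[M] v = 0) (hne : ∃ v ∈ C, u v ≠ v) :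
    3 ≤ Module.finrank F C := by
  have hu0 : u 0 = 0 := by
    have h1 := hlin 0 0
    rwa [zero_smul, zero_smul] at h1
  set δ : (Fin n → F) → (Fin n → F) := fun v => u v - v with hδdef
  have hδ : ∀ v, δ v = u v - v := fun v => rfl
  have hδ0 : δ 0 = 0 := by rw [hδ, hu0, sub_self]
  have hδadd : ∀ v w, δ (v + w) = δ v + δ w := by
    intro v w
    rw [hδ, hδ, hδ, hadd]
    abel
  have hδlin : Lin δ := by
    intro c v
    rw [hδ, hδ, hlin, smul_sub]
  have hδT : ∀ v, δ (T v) = T (δ v) := by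
    intro v
    rw [hδ, hδ, hc, hT.sub]
  have hδC : ∀ v ∈ C, δ v ∈ C := fun v hv => C.sub_mem (hu v hv) hv
  obtain ⟨w, hwC, hTw, hw⟩ : ∃ w ∈ C, T w = w ∧ δ w ≠ 0 := by
    by_contra hcon
    push Not at hcon
    obtain ⟨v, hv, hne⟩ := hne
    apply hne
    have h3 := hT.span hF (A := C) hTC hδadd hδlin hcon v hv
    rw [hδ] at h3
    exact sub_eq_zero.1 h3
  obtain ⟨m, hm1, hm2⟩ := exists_last (hM w) hδ0 hw
  have h3 : ∀ m, T (δ^[m] w) = δ^[m] w ∧ δ^[m] w ∈ C := by
    intro m
    induction m with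
    | zero => exact ⟨hTw, hwC⟩
    | succ m ih =>
      rw [Function.iterate_succ_apply', ← hδT, ih.1]
      exact ⟨rfl, hδC _ ih.2⟩
  obtain ⟨hTz, hzC⟩ := h3 m
  set z := δ^[m] w with hz
  obtain ⟨e, he⟩ : ∃ e, e = δ z := ⟨_, rfl⟩
  have he0 : e ≠ 0 := by rw [he]; exact hm1
  have heC : e ∈ C := by rw [he]; exact hδC _ hzC
  have hue : u e = e := by
    rw [← he] at hm2
    rw [hδ] at hm2
    exact sub_eq_zero.1 hm2
  have hTe : T e = e := by rw [he, ← hδT, hTz]
  have huz : u z = z + e := by rw [he, hδ]; abel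
  have hee : hermForm n F q e e = 0 := by
    nth_rewrite 1 [he]
    rw [hδ, herm_sub_left]
    nth_rewrite 1 [← hue]
    rw [hherm, sub_self]
  have hze : hermForm n F q z e = 0 := by
    have h4 := hherm z z
    rw [huz, herm_add_left, herm_add_right hF, herm_add_right hF, hee] at h4
    have h5 := hT.herm z e
    rw [hTz, hTe] at h5
    rw [herm_swap hF z e, ← h5] at h4
    have h6 : 2 * hermForm n F q z e = 0 := by linear_combination h4
    exact (mul_eq_zero.1 h6).resolve_left h2
  by_contra hcon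
  push Not at hcon
  -- `e`, `z` span `C`
  have hind : LinearIndependent F ![z, e] := by
    rw [LinearIndependent.pair_iff]
    intro a b hab
    have h4 := congrArg δ hab
    have he2 : δ e = 0 := by rw [hδ, hue, sub_self]
    rw [hδadd, hδlin, hδlin, ← he, he2, smul_zero, add_zero, hδ0] at h4
    have ha := (smul_eq_zero.1 h4).resolve_right he0
    rw [ha, zero_smul, zero_add] at hab
    exact ⟨ha, (smul_eq_zero.1 hab).resolve_right he0⟩
  have hspan : Submodule.span F (Set.range ![z, e]) = C := by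
    apply Submodule.eq_of_le_of_finrank_le
    · rw [Submodule.span_le]
      rintro _ ⟨i, rfl⟩
      fin_cases i
      · exact hzC
      · exact heC
    · rw [finrank_span_eq_card hind, Fintype.card_fin]
      omega
  apply he0
  apply hC e heC
  intro v hv
  rw [← hspan, Matrix.range_cons, Matrix.range_cons, Matrix.range_empty, Set.union_empty, Set.singleton_union,
    Submodule.mem_span_pair] at hv
  obtain ⟨a, b, rfl⟩ := hv
  rw [herm_add_right hF, herm_smul_right, herm_smul_right, hee, herm_eq_zero_swap hF hze, mul_zero, mul_zero, add_zero]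

end geo

section env

theorem two_ne {F : Type*} [Field F] [Fintype F] {q : ℕ} (hF : Fintype.card F = q ^ 2) (hq : Odd q) :
    (2 : F) ≠ 0 := by
  have h1 := UEnv.natCast_ne_zero hF Nat.prime_two (Nat.coprime_two_left.2 hq)
  exact_mod_cast h1

theorem sym_alpha (hDec : DecStmt) (hS : SmallStmt) (h3 : SymThree) (h4 : SymFour)
    {G Ω : Type} [Group G] [Finite G] [Finite Ω] [Nonempty Ω] [MulAction G Ω] {N : Subgroup G} {F : Type} [Field F]
    [Fintype F] {n q : ℕ} (U : UEnv G Ω N F n q) {ι : Type} [Finite ι] (x : ι → G)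
    (f : ι → (Fin n → F) → (Fin n → F)) (r : ι → ℕ) (i₀ : ι) (T g : (Fin n → F) → (Fin n → F))
    (hY : Sym U x f r i₀ T g) (hIH : H106.RC.IH (Nat.card (PSU n F q)))
    (A B : Submodule F (Fin n → F)) (hA : NDeg q A) (hB : NDeg q B) (hAB : IsCompl A B) (hA0 : A ≠ ⊥) (hB0 : B ≠ ⊥)
    (hort : ∀ v ∈ A, ∀ w ∈ B, hermForm n F q v w = 0) (hTA : Stab T A) (hTB : Stab T B)
    (hst : ∀ u, Cg g u → Stab u A ∧ Stab u B) : False := by
  have hF := U.hF
  have hfam := hY.gf.fam
  have hpf := hfam.pf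
  have h2F := two_ne hF hY.odd
  obtain ⟨b, hb0, hb⟩ := hY.gf.eq
  -- all members stabilise `A` and `B`
  have hstT : ∀ C : Submodule F (Fin n → F), Stab T C → Stab (f i₀) C := by
    intro C hC v hv
    have h5 := C.smul_mem b⁻¹ (hC v hv)
    rwa [hb, smul_smul, inv_mul_cancel₀ hb0, one_smul] at h5
  have hstab : ∀ i, Stab (f i) A ∧ Stab (f i) B := by
    intro i
    by_cases hi : i = i₀
    · subst hi
      exact ⟨hstT A hTA, hstT B hTB⟩
    · exact hst _ (hY.cg i hi)
  have hneT : A ≠ ⊤ ∧ B ≠ ⊤ := by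
    constructor
    · rintro rfl
      exact hB0 (by simpa only [_root_.le_top, _root_.inf_of_le_right] using hAB.inf_eq_bot)
    · rintro rfl
      exact hA0 (by simpa only [_root_.le_top, _root_.inf_of_le_left] using hAB.inf_eq_bot)
  have hlt : ∀ C : Submodule F (Fin n → F), C ≠ ⊤ → Module.finrank F C < n := by
    intro C hC
    have h5 := Submodule.finrank_lt hC
    rwa [Module.finrank_fin_fun] at h5
  have hsm := hS hF U.hn U.h32 hIH
  have hq2 : q ≠ 2 := by
    rintro rfl
    exact absurd hY.odd (by decide)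
  -- DEC
  have hdec : ∀ C : Submodule F (Fin n → F), NDeg q C → C ≠ ⊤ → (∀ i, Stab (f i) C) → 3 ≤ Module.finrank F C →
      (∀ i, ScalOn (f i) C → (r i).Coprime q) → False := by
    intro C hC hCt hCs hC3 hCr
    refine hDec U x f r hfam hY.cov ⟨C, hC, hCt, hC3, fun h => hq2 h.2, hCs, hCr, ?_⟩
    exact hsm.1 _ hC3 (hlt C hCt) (fun h => hq2 h.2)
  by_cases hu : ∃ j, j ≠ i₀ ∧ ¬ (r j).Coprime q
  · obtain ⟨j, hj0, hjq⟩ := hu
    obtain ⟨p, k, hp, hchar, hk, hk0⟩ := exists_prime_pow U.hF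
    have hpF := Fact.mk hp
    have hrp : ∀ i, ¬ (r i).Coprime q → r i = p := by
      intro i hi
      rw [(hpf.prime i).coprime_iff_not_dvd, not_not, hk] at hi
      exact (Nat.prime_dvd_prime_iff_eq (hpf.prime i) hp).1 ((hpf.prime i).dvd_of_dvd_pow hi)
    obtain ⟨l, hl⟩ := hfam.ord j
    rw [hrp j hjq] at hl
    have hL := hfam.lft j
    have hlin := hY.gf.lin j hj0
    have hun := unip (Ind.map_add hL) hlin hl
    have hone : ∀ C : Submodule F (Fin n → F), NDeg q C → C ≠ ⊤ → Stab T C → (∀ i, Stab (f i) C) →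
        (∃ v ∈ C, f j v ≠ v) → False := by
      intro C hC hCt hTC hCs hne
      refine hdec C hC hCt hCs ?_ ?_
      · exact three_le hF h2F hY.symT hC hTC (Ind.map_add hL) hlin (herm_lin hL hlin) (hY.gf.comm j hj0) (hCs j)
          hun hne
      · intro i hi
        by_contra hiq
        have hij : i = j := hpf.inj ((hrp i hiq).trans (hrp j hjq).symm)
        subst hij
        obtain ⟨c, hc⟩ := hi
        obtain ⟨v, hv, hvne⟩ := hne
        have hv0 : v ≠ 0 := by
          rintro rfl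
          exact hvne (Ind.map_zero hL)
        -- `c ^ (p ^ l) = 1`
        have h5 : ∀ m, (f i)^[m] v = c ^ m • v := by
          intro m
          induction m with
          | zero => simp
          | succ m ih =>
            rw [Function.iterate_succ_apply', ih, hlin, hc v hv, smul_smul, pow_succ]
        have h6 := h5 (p ^ l)
        rw [hl] at h6
        have h7 : (c ^ p ^ l - 1) • v = 0 := by rw [sub_smul, one_smul, ← h6, sub_self]
        have h8 := sub_eq_zero.1 ((smul_eq_zero.1 h7).resolve_right hv0)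
        have h9 : (c - 1) ^ p ^ l = 0 := by rw [sub_pow_char_pow, h8, one_pow, sub_self]
        have h10 : c = 1 := sub_eq_zero.1 (pow_eq_zero_iff (pow_ne_zero _ hp.ne_zero) |>.1 h9)
        apply hvne
        rw [hc v hv, h10, one_smul]
    by_cases hneA : ∃ v ∈ A, f j v ≠ v
    · exact hone A hA hneT.1 hTA (fun i => (hstab i).1) hneA
    by_cases hneB : ∃ v ∈ B, f j v ≠ v
    · exact hone B hB hneT.2 hTB (fun i => (hstab i).2) hneB
    push Not at hneA hneB
    apply hpf.ne j
    rw [hL.eq_one_iff]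
    refine ⟨1, fun v => ?_⟩
    have h5 : v ∈ A ⊔ B := by rw [hAB.sup_eq_top]; exact Submodule.mem_top
    obtain ⟨a, ha, c, hc, rfl⟩ := Submodule.mem_sup.1 h5
    rw [Ind.map_add hL, hneA a ha, hneB c hc, one_smul]
  · push Not at hu
    have hall : ∀ i, (r i).Coprime q := by
      intro i
      by_cases hi : i = i₀
      · rw [hi, hY.gf.r2]
        exact Nat.coprime_two_left.2 hY.odd
      · exact hu i hi
    by_cases hA3 : 3 ≤ Module.finrank F A
    · exact hdec A hA hneT.1 (fun i => (hstab i).1) hA3 fun i _ => hall i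
    by_cases hB3 : 3 ≤ Module.finrank F B
    · exact hdec B hB hneT.2 (fun i => (hstab i).2) hB3 fun i _ => hall i
    have hsum := Submodule.finrank_add_eq_of_isCompl hAB
    rw [Module.finrank_fin_fun] at hsum
    have hn := U.hn
    have hort' : ∀ v ∈ B, ∀ w ∈ A, hermForm n F q v w = 0 := fun v hv w hw => herm_eq_zero_swap hF (hort w hw v hv)
    by_cases hA2 : Module.finrank F A = 2
    · by_cases hB2 : Module.finrank F B = 2
      · exact h4 U x f r i₀ T g hY hIH hall (by omega) A B hA hB hAB hA2 hB2 hort hTA hTB hst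
      · exact h3 U x f r i₀ T g hY hIH hall (by omega) A B hA hB hAB hA2 (by omega) hort hTA hTB hst
    · exact h3 U x f r i₀ T g hY hIH hall (by omega) B A hB hA hAB.symm (by omega) (by omega) hort' hTB hTA
        fun u hu => (hst u hu).symm

end env

end Cfsg.Agent.H438.RC
end

-- part: H438/RC/SymGen
section
/-!
# S3510, E13: one generator of the `p'`-part of the linear members (helper438)
-/

set_option autoImplicit false

namespace Cfsg.Agent.H438.RC

open Matrix Cfsg Cfsg.Agent.LieClassical.HermBasic Cfsg.Agent.LieClassical.HermSiegel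
  Cfsg.Agent.LieClassical.HermGen Cfsg.Agent.LieClassical.SUBasic Cfsg.Agent.ClassicalGeometry.PSUAutBasic
  Cfsg.Agent.ClassicalGeometry.PSUAutCount Cfsg.Agent.LieClassical.FieldTransfer Cfsg.Agent.ClassicalGeometry
  Cfsg.Agent.H380.RC

theorem iter_mod {V : Type*} {g : V → V} {m a b : ℕ} (h : ∀ v, g^[m] v = v) (hab : a ≡ b [MOD m]) (v : V) :
    g^[a] v = g^[b] v := by
  have h1 : Function.IsPeriodicPt g m v := h v
  rw [← h1.iterate_mod_apply a, ← h1.iterate_mod_apply b]
  rw [hab]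

section env

variable {G Ω : Type*} [Group G] [MulAction G Ω] {N : Subgroup G} {F : Type*} [Field F] [Fintype F] {n q : ℕ}
  {U : UEnv G Ω N F n q} {ι : Type*} {x : ι → G} {f : ι → (Fin n → F) → (Fin n → F)} {r : ι → ℕ} {i₀ : ι}
  {T : (Fin n → F) → (Fin n → F)}

theorem exists_gen_aux (h : GForm U x f r i₀ T) (s : Finset ι)
    (hs : ∀ j ∈ s, j ≠ i₀ ∧ (r j).Coprime q) :
    ∃ (g : (Fin n → F) → (Fin n → F)) (m : ℕ), (∀ v w, g (v + w) = g v + g w) ∧ Lin g ∧
      (∀ u v, hermForm n F q (g u) (g v) = hermForm n F q u v) ∧ (∀ v, g (T v) = T (g v)) ∧ (∀ v, g^[m] v = v) ∧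
      (∀ l : ℕ, l.Prime → l ∣ m → ∃ j ∈ s, r j = l) ∧ m ≠ 0 ∧ (∀ j, j ≠ i₀ → ∀ v, f j (g v) = g (f j v)) ∧
      ∀ j ∈ s, ∃ k, ∀ v, f j v = g^[k] v := by
  classical
  have hpf := h.fam.pf
  induction s using Finset.induction_on with
  | empty =>
    refine ⟨fun v => v, 1, fun v w => rfl, fun c v => rfl, fun u v => rfl, fun v => rfl, fun v => rfl, ?_, one_ne_zero,
      fun j _ v => rfl, ?_⟩
    · intro l hl h1
      exact absurd (Nat.dvd_one.1 h1) hl.one_lt.ne'
    · intro j hj
      simp at hj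
  | insert j s hj ih =>
    obtain ⟨g, m, h1, h2, h3, h4, h5, h6, h0, h7, h8⟩ := ih fun i hi => hs i (Finset.mem_insert_of_mem hi)
    obtain ⟨hj0, hjq⟩ := hs j (Finset.mem_insert_self j s)
    obtain ⟨k, hk⟩ := h.fam.ord j
    have hL := h.fam.lft j
    have hlin := h.lin j hj0
    have hco : m.Coprime (r j ^ k) := by
      apply Nat.Coprime.pow_right
      rw [Nat.coprime_comm, (hpf.prime j).coprime_iff_not_dvd]
      intro h9
      obtain ⟨i, hi, hij⟩ := h6 _ (hpf.prime j) h9
      rw [hpf.inj hij] at hi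
      exact hj hi
    have hcomm : Function.Commute g (f j) := fun v => (h7 j hj0 v).symm
    have hit : ∀ t v, (fun v => g (f j v))^[t] v = g^[t] ((f j)^[t] v) := by
      intro t v
      exact congrFun (hcomm.comp_iterate t) v
    obtain ⟨a, ha1, ha2⟩ := Nat.chineseRemainder hco 1 0
    obtain ⟨b, hb1, hb2⟩ := Nat.chineseRemainder hco 0 1
    have hga : ∀ v, (fun v => g (f j v))^[a] v = g v := by
      intro v
      rw [hit, iter_mod h5 ha1, iter_mod hk ha2]
      rfl
    have hgb : ∀ v, (fun v => g (f j v))^[b] v = f j v := by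
      intro v
      rw [hit, iter_mod h5 hb1, iter_mod hk hb2]
      rfl
    refine ⟨fun v => g (f j v), m * r j ^ k, ?_, ?_, ?_, ?_, ?_, ?_, ?_, ?_, ?_⟩
    · intro v w
      change g (f j (v + w)) = g (f j v) + g (f j w)
      rw [Ind.map_add hL, h1]
    · intro c v
      change g (f j (c • v)) = c • g (f j v)
      rw [hlin, h2]
    · intro v w
      change hermForm n F q (g (f j v)) (g (f j w)) = _
      rw [h3, herm_lin hL hlin]
    · intro v
      change g (f j (T v)) = T (g (f j v))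
      rw [h.comm j hj0, h4]
    · intro v
      rw [hit, iter_mod (b := 0) h5 (by simp [Nat.ModEq]), iter_mod (b := 0) hk (by simp [Nat.ModEq])]
      rfl
    · intro l hl h9
      rcases (hl.dvd_mul).1 h9 with h10 | h10
      · obtain ⟨i, hi, hil⟩ := h6 l hl h10
        exact ⟨i, Finset.mem_insert_of_mem hi, hil⟩
      · refine ⟨j, Finset.mem_insert_self j s, ?_⟩
        exact ((Nat.prime_dvd_prime_iff_eq hl (hpf.prime j)).1 (hl.dvd_of_dvd_pow h10)).symm
    · exact mul_ne_zero h0 (pow_ne_zero _ (hpf.prime j).ne_zero)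
    · intro i hi v
      change f i (g (f j v)) = g (f j (f i v))
      rw [h7 i hi, h.fam.comm i j]
    · intro i hi
      rcases Finset.mem_insert.1 hi with rfl | hi'
      · exact ⟨b, fun v => (hgb v).symm⟩
      · obtain ⟨c, hc⟩ := h8 i hi'
        refine ⟨a * c, fun v => ?_⟩
        rw [hc, Function.iterate_mul]
        have h9 : (fun v => g (f j v))^[a] = g := funext hga
        rw [h9]

/-- one generator -/
theorem exists_gen [Finite ι] (h : GForm U x f r i₀ T) :
    ∃ g : (Fin n → F) → (Fin n → F), SymG q T g ∧ (∀ j, j ≠ i₀ → Cg g (f j)) ∧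
      (∀ j, j ≠ i₀ → (r j).Coprime q → ∃ k, ∀ v, f j v = g^[k] v) := by
  classical
  have := Fintype.ofFinite ι
  have hpf := h.fam.pf
  obtain ⟨g, m, h1, h2, h3, h4, h5, h6, h0, h7, h8⟩ := exists_gen_aux h
    (Finset.univ.filter fun j => j ≠ i₀ ∧ (r j).Coprime q) (by intro j hj; simpa only [_root_.ne_eq, _root_.Finset.mem_filter, _root_.Finset.mem_univ, _root_.true_and] using hj)
  have hcop : ∀ l : ℕ, l.Prime → l ∣ m → l.Coprime (2 * q) := by
    intro l hl h9
    obtain ⟨j, hj, rfl⟩ := h6 l hl h9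
    rw [Finset.mem_filter] at hj
    obtain ⟨-, hj1, hj2⟩ := hj
    apply Nat.Coprime.mul_right _ hj2
    rw [Nat.coprime_primes (hpf.prime j) Nat.prime_two]
    intro h10
    exact hj1 (hpf.inj (h10.trans h.r2.symm))
  have hm : m.Coprime (2 * q) := by
    by_contra hcon
    obtain ⟨l, hl, h9, h10⟩ := Nat.Prime.not_coprime_iff_dvd.1 hcon
    exact hl.one_lt.ne' (Nat.eq_one_of_dvd_coprimes (hcop l hl h9) dvd_rfl h10)
  refine ⟨g, ⟨h1, h2, h3, h4, m, ?_, hm.coprime_mul_left_right, h5⟩, fun j hj => ⟨Ind.map_add (h.fam.lft j),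
    h.lin j hj, h7 j hj⟩, fun j hj hjq =>
    h8 j (Finset.mem_filter.2 ⟨Finset.mem_univ _, hj, hjq⟩)⟩
  rw [← Nat.not_even_iff_odd, even_iff_two_dvd]
  intro h9
  have h10 := hm.coprime_mul_right_right
  exact absurd (Nat.eq_one_of_dvd_coprimes h10 h9 dvd_rfl) (by norm_num)

end env

end Cfsg.Agent.H438.RC
end

-- part: H438/RC/SymStmtC
section
/-!
# S3510, family E, box E13 (`GraphSym`): the case (d) with the dimension (helper438)

The same as `StrTStmt`, `SymDelta`, with `3 ≤ finrank F V₁` in the second alternative of (d).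
-/

set_option autoImplicit false

namespace Cfsg.Agent.H438.RC

open Matrix Cfsg Cfsg.Agent.LieClassical.HermBasic Cfsg.Agent.LieClassical.HermSiegel
  Cfsg.Agent.ClassicalGeometry.PSUAutBasic Cfsg.Agent.ClassicalGeometry.PSUAutCount Cfsg.Agent.H380.RC

/-- STR-T (helper398) : the case split -/
def StrTStmtB : Prop :=
  ∀ {F : Type} [Field F] [Fintype F] {n q : ℕ} (_ : Fintype.card F = q ^ 2) (_ : Odd q)
    (T g : (Fin n → F) → (Fin n → F)), SymT q T → SymG q T g → (∃ v, g v ≠ v) →
    -- (a)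
    (∃ A B : Submodule F (Fin n → F), NDeg q A ∧ NDeg q B ∧ IsCompl A B ∧ A ≠ ⊥ ∧ B ≠ ⊥ ∧
      (∀ v ∈ A, ∀ w ∈ B, hermForm n F q v w = 0) ∧ Stab T A ∧ Stab T B ∧ ∀ u, Cg g u → Stab u A ∧ Stab u B) ∨
    -- (b)
    (∃ W W' : Submodule F (Fin n → F), TS q W ∧ TS q W' ∧ IsCompl W W' ∧ Stab T W ∧ Stab T W' ∧
      ∀ u, Cg g u → Stab u W ∧ Stab u W') ∨
    -- (c)
    (∃ W W' : Submodule F (Fin n → F), TS q W ∧ TS q W' ∧ IsCompl W W' ∧ (∀ v ∈ W, T v ∈ W') ∧ (∀ v ∈ W', T v ∈ W) ∧
      ∀ u, Cg g u → Stab u W ∧ Stab u W') ∨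
    -- (d)
    (∃ V₁ V₂ : Submodule F (Fin n → F), NDeg q V₁ ∧ NDeg q V₂ ∧ IsCompl V₁ V₂ ∧
      (∀ v ∈ V₁, ∀ w ∈ V₂, hermForm n F q v w = 0) ∧ (∀ v ∈ V₁, T v ∈ V₂) ∧ (∀ v ∈ V₂, T v ∈ V₁) ∧
      (∀ u, Cg g u → Stab u V₁ ∧ Stab u V₂) ∧
      (ScalOn g V₁ ∨ 3 ≤ Module.finrank F V₁ ∧ ∃ (s : SU n F q) (g₀ : (Fin n → F) → (Fin n → F)),
        (∀ v ∈ V₂, act s v = v) ∧
        (∀ u, Cg g u → ∀ v, act s (u v) = u (act s v)) ∧ ¬ ScalOn (act s) V₁ ∧
        (∀ v w, g₀ (v + w) = g₀ v + g₀ w) ∧ Lin g₀ ∧ Stab g₀ V₁ ∧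
        (∀ v ∈ V₁, ∀ w ∈ V₁, hermForm n F q (g₀ v) (g₀ w) = hermForm n F q v w) ∧
        ∃ k l : ℕ, ∀ v ∈ V₁, g v = g₀^[k] v ∧ act s v = g₀^[l] v))

/-- (1d) : `V = V₁ ⟂ V₂`, `T` interchanges `V₁` and `V₂` -/
def SymDeltaB : Prop :=
  ∀ {G Ω : Type} [Group G] [Finite G] [Finite Ω] [Nonempty Ω] [MulAction G Ω] {N : Subgroup G} {F : Type} [Field F]
    [Fintype F] {n q : ℕ} (U : UEnv G Ω N F n q) {ι : Type} [Finite ι] (x : ι → G)
    (f : ι → (Fin n → F) → (Fin n → F)) (r : ι → ℕ) (i₀ : ι) (T g : (Fin n → F) → (Fin n → F)),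
    Sym U x f r i₀ T g → H106.RC.IH (Nat.card (PSU n F q)) →
    ∀ V₁ V₂ : Submodule F (Fin n → F), NDeg q V₁ → NDeg q V₂ → IsCompl V₁ V₂ →
      (∀ v ∈ V₁, ∀ w ∈ V₂, hermForm n F q v w = 0) → (∀ v ∈ V₁, T v ∈ V₂) → (∀ v ∈ V₂, T v ∈ V₁) →
      (∀ u, Cg g u → Stab u V₁ ∧ Stab u V₂) →
      (ScalOn g V₁ ∨ 3 ≤ Module.finrank F V₁ ∧ ∃ (s : SU n F q) (g₀ : (Fin n → F) → (Fin n → F)),
        (∀ v ∈ V₂, act s v = v) ∧
        (∀ u, Cg g u → ∀ v, act s (u v) = u (act s v)) ∧ ¬ ScalOn (act s) V₁ ∧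
        (∀ v w, g₀ (v + w) = g₀ v + g₀ w) ∧ Lin g₀ ∧ Stab g₀ V₁ ∧
        (∀ v ∈ V₁, ∀ w ∈ V₁, hermForm n F q (g₀ v) (g₀ w) = hermForm n F q v w) ∧
        ∃ k l : ℕ, ∀ v ∈ V₁, g v = g₀^[k] v ∧ act s v = g₀^[l] v) → False

end Cfsg.Agent.H438.RC
end

-- part: H398/RC/SymPlane
section
/-!
# S3510, family E, box E13: planes with a conjugation `T` and an isometry `g` of odd order (helper398)
-/

set_option autoImplicit false
set_option linter.unusedSectionVars false

namespace Cfsg.Agent.H398.RC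

open Module Cfsg Cfsg.Agent.LieClassical.HermBasic Cfsg.Agent.H380.RC Cfsg.Agent.H438.RC

variable {F : Type} [Field F] [Fintype F] {n q : ℕ}

theorem eq_one_of_odd {a : F} (h2 : a * a = 1) {N : ℕ} (hN : Odd N) (ha : a ^ N = 1) : a = 1 := by
  obtain ⟨k, hk⟩ := hN
  rwa [hk, pow_succ, pow_mul, sq, h2, one_pow, one_mul] at ha

theorem pair_span {A : Submodule F (Fin n → F)} (h2 : finrank F A = 2) {w w' : Fin n → F} (hw : w ∈ A)
    (hw' : w' ∈ A) (hw0 : w ≠ 0) (hne : ∀ c : F, w' ≠ c • w) : ∀ x ∈ A, ∃ a b : F, x = a • w + b • w' := by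
  have hli : LinearIndependent F ![w, w'] := by
    rw [LinearIndependent.pair_iff]
    intro s t hst
    by_cases ht : t = 0
    · rw [ht, zero_smul, add_zero] at hst
      exact ⟨(smul_eq_zero.1 hst).resolve_right hw0, ht⟩
    · exfalso
      apply hne (-(t⁻¹ * s))
      have h1 : t • w' = -(s • w) := by rw [eq_neg_iff_add_eq_zero, add_comm, hst]
      rw [neg_smul, mul_smul, ← smul_neg, ← h1, smul_smul, inv_mul_cancel₀ ht, one_smul]
  have hle : Submodule.span F (Set.range ![w, w']) ≤ A := by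
    rw [Submodule.span_le]
    rintro _ ⟨i, rfl⟩
    fin_cases i
    · exact hw
    · exact hw'
  have heq : Submodule.span F (Set.range ![w, w']) = A := by
    apply Submodule.eq_of_le_of_finrank_eq hle
    rw [finrank_span_eq_card hli, h2, Fintype.card_fin]
  intro x hx
  rw [← heq, Matrix.range_cons, Matrix.range_cons, Matrix.range_empty, Set.union_empty, Set.singleton_union,
    Submodule.mem_span_pair] at hx
  obtain ⟨a, b, hab⟩ := hx
  exact ⟨a, b, hab.symm⟩

variable {T g : (Fin n → F) → (Fin n → F)}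

theorem iter_eig (hgl : Lin g) {w : Fin n → F} {a : F} (hw : g w = a • w) (k : ℕ) : g^[k] w = a ^ k • w := by
  induction k with
  | zero => rw [pow_zero, one_smul]; rfl
  | succ k ih =>
    rw [Function.iterate_succ_apply', ih, hgl, hw, smul_smul, pow_succ]

theorem eig_odd (hg : SymG q T g) {w : Fin n → F} (hw0 : w ≠ 0) {a : F} (hw : g w = a • w) :
    ∃ m : ℕ, Odd m ∧ m.Coprime q ∧ a ^ m = 1 := by
  obtain ⟨m, h1, h2, h3⟩ := hg.ord
  refine ⟨m, h1, h2, ?_⟩
  have h4 := h3 w
  rw [iter_eig hg.lin hw] at h4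
  have h5 : (a ^ m - 1) • w = 0 := by rw [sub_smul, one_smul, h4, sub_self]
  exact sub_eq_zero.1 ((smul_eq_zero.1 h5).resolve_right hw0)

theorem one_of_line (hT : SymT q T) (hg : SymG q T g) {w : Fin n → F}
    (hw : hermForm n F q w w ≠ 0) {a c : F} (hgw : g w = a • w) (hTw : T w = c • w) : g w = w := by
  have hw0 : w ≠ 0 := by
    rintro rfl
    exact hw (herm_zero_left _)
  have hc0 : c ≠ 0 := by
    rintro rfl
    rw [zero_smul, ← hT.zero] at hTw
    exact hw0 (hT.inj hTw)
  obtain ⟨m, h1, -, h3⟩ := eig_odd hg hw0 hgw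
  have haq : a ^ q = a := by
    have h4 := hg.comm w
    rw [hTw, hg.lin, hgw, hT.smul, hTw, smul_smul, smul_smul] at h4
    have h5 : (c * a - a ^ q * c) • w = 0 := by rw [sub_smul, h4, sub_self]
    have h6 := (smul_eq_zero.1 h5).resolve_right hw0
    have h7 : c * (a - a ^ q) = 0 := by linear_combination h6
    exact (sub_eq_zero.1 ((mul_eq_zero.1 h7).resolve_left hc0)).symm
  have haa : a * a = 1 := by
    have h4 := hg.herm w w
    rw [hgw, herm_smul_left, herm_smul_right, haq] at h4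
    have h5 : (a * a - 1) * hermForm n F q w w = 0 := by linear_combination h4
    exact sub_eq_zero.1 ((mul_eq_zero.1 h5).resolve_right hw)
  rw [hgw, eq_one_of_odd haa h1 h3, one_smul]

/-- the three types of planes -/
theorem plane_tri (hF : Fintype.card F = q ^ 2) (hT : SymT q T) (hg : SymG q T g) {A : Submodule F (Fin n → F)}
    (hA : NDeg q A) (h2 : finrank F A = 2) (hTA : Stab T A) (hgA : Stab g A) :
    (∀ v ∈ A, g v = v) ∨
    (∃ e ∈ A, e ≠ 0 ∧ hermForm n F q e e = 0 ∧ (∃ c : F, g e = c • e) ∧ ∃ c : F, T e = c • e) ∨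
    (∃ w ∈ A, ∃ a : F, hermForm n F q w w ≠ 0 ∧ hermForm n F q w (T w) = 0 ∧ g w = a • w ∧ a * a ^ q = 1 ∧
      a * a ≠ 1 ∧ (∀ x ∈ A, ∃ s t : F, x = s • w + t • T w) ∧ ∃ m : ℕ, Odd m ∧ m.Coprime q ∧ a ^ m = 1) := by
  obtain ⟨w, hwA, hw0, a, hgw⟩ := Cfsg.Agent.H743.RC.exists_eig hF hA h2 hg.lin hg.add hg.herm hgA
  obtain ⟨m, hm1, hm2, hm3⟩ := eig_odd hg hw0 hgw
  have hgT : g (T w) = a ^ q • T w := by rw [hg.comm, hgw, hT.smul]
  by_cases hdep : ∃ c : F, T w = c • w
  · obtain ⟨c, hTw⟩ := hdep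
    by_cases hs : hermForm n F q w w = 0
    · exact Or.inr (Or.inl ⟨w, hwA, hw0, hs, ⟨a, hgw⟩, c, hTw⟩)
    · left
      have hgw1 := one_of_line hT hg hs hgw hTw
      -- a second vector
      obtain ⟨v, hvA, hv⟩ : ∃ v ∈ A, ∀ c : F, v ≠ c • w := by
        by_contra hcon
        push Not at hcon
        have h3 : A ≤ Submodule.span F {w} := by
          intro x hx
          obtain ⟨c, hc⟩ := hcon x hx
          rw [hc]
          exact Submodule.smul_mem _ _ (Submodule.mem_span_singleton_self w)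
        have h4 := Submodule.finrank_mono h3
        rw [h2, finrank_span_singleton hw0] at h4
        omega
      obtain ⟨w₂, hw₂⟩ : ∃ w₂, w₂ = v - (hermForm n F q v w / hermForm n F q w w) • w := ⟨_, rfl⟩
      have hw₂A : w₂ ∈ A := by rw [hw₂]; exact A.sub_mem hvA (A.smul_mem _ hwA)
      have horth : hermForm n F q w₂ w = 0 := by
        rw [hw₂, herm_sub_left, herm_smul_left, div_mul_cancel₀ _ hs, sub_self]
      have hne : ∀ c : F, w₂ ≠ c • w := by
        intro c hc
        apply hv (c + hermForm n F q v w / hermForm n F q w w)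
        rw [add_smul, ← hc, hw₂, sub_add_cancel]
      have hspan := pair_span h2 hwA hw₂A hw0 hne
      have hw₂0 : w₂ ≠ 0 := by
        intro h0
        exact hne 0 (by rw [h0, zero_smul])
      have hs₂ : hermForm n F q w₂ w₂ ≠ 0 := by
        intro h0
        apply hw₂0
        apply hA _ hw₂A
        intro x hx
        obtain ⟨s, t, rfl⟩ := hspan x hx
        rw [herm_add_right hF, herm_smul_right, herm_smul_right, horth, h0, mul_zero, mul_zero, add_zero]
      obtain ⟨s, t, hst⟩ := hspan _ (hTA _ hw₂A)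
      have hs0 : s = 0 := by
        have h3 : hermForm n F q (T w₂) w = 0 := by
          rw [hT.herm' hF, hTw, herm_smul_right, horth, mul_zero, zero_pow_q hF]
        rw [hst, herm_add_left, herm_smul_left, herm_smul_left, horth, mul_zero, add_zero] at h3
        exact (mul_eq_zero.1 h3).resolve_right hs
      rw [hs0, zero_smul, zero_add] at hst
      obtain ⟨s', t', hst'⟩ := hspan _ (hgA _ hw₂A)
      have hs0' : s' = 0 := by
        have h3 : hermForm n F q (g w₂) (g w) = 0 := by rw [hg.herm, horth]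
        rw [hgw1, hst', herm_add_left, herm_smul_left, herm_smul_left, horth, mul_zero, add_zero] at h3
        exact (mul_eq_zero.1 h3).resolve_right hs
      rw [hs0', zero_smul, zero_add] at hst'
      have hgw2 := one_of_line hT hg hs₂ hst' hst
      intro x hx
      obtain ⟨s, t, rfl⟩ := hspan x hx
      rw [hg.add, hg.lin, hg.lin, hgw1, hgw2]
  · push Not at hdep
    have hspan := pair_span h2 hwA (hTA _ hwA) hw0 hdep
    by_cases ha1 : a = 1
    · left
      intro x hx
      obtain ⟨s, t, rfl⟩ := hspan x hx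
      rw [hg.add, hg.lin, hg.lin, hgT, hgw, ha1, one_pow, one_smul, one_smul]
    · right; right
      have haa : a * a ≠ 1 := fun h => ha1 (eq_one_of_odd h hm1 hm3)
      have h0 : hermForm n F q w (T w) = 0 := by
        have h3 := hg.herm w (T w)
        rw [hgT, hgw, herm_smul_left, herm_smul_right, pow_q_pow_q hF] at h3
        have h4 : (a * a - 1) * hermForm n F q w (T w) = 0 := by linear_combination h3
        exact (mul_eq_zero.1 h4).resolve_left (sub_ne_zero.2 haa)
      have hs : hermForm n F q w w ≠ 0 := by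
        intro hs
        apply hw0
        apply hA _ hwA
        intro x hx
        obtain ⟨s, t, rfl⟩ := hspan x hx
        rw [herm_add_right hF, herm_smul_right, herm_smul_right, h0, hs, mul_zero, mul_zero, add_zero]
      refine ⟨w, hwA, a, hs, h0, hgw, ?_, haa, hspan, m, hm1, hm2, hm3⟩
      have h3 := hg.herm w w
      rw [hgw, herm_smul_left, herm_smul_right] at h3
      have h4 : (a * a ^ q - 1) * hermForm n F q w w = 0 := by linear_combination h3
      exact sub_eq_zero.1 ((mul_eq_zero.1 h4).resolve_right hs)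

end Cfsg.Agent.H398.RC
end

-- part: H398/RC/SymFinish
section
/-!
# S3510, family E, box E13: `SymThree`, `SymFour` (helper398)
-/

set_option autoImplicit false
set_option linter.unusedSectionVars false

namespace Cfsg.Agent.H398.RC

open Module Cfsg Cfsg.Agent.LieClassical.HermBasic Cfsg.Agent.LieClassical.HermSiegel Cfsg.Agent.H380.RC
  Cfsg.Agent.H438.RC Cfsg.Agent.ClassicalGeometry.HermOrtho Cfsg.Agent.LieClassical.HermGen
  Cfsg.Agent.LieClassical.SUBasic Cfsg.Agent.ClassicalGeometry.PSUAutBasic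
  Cfsg.Agent.ClassicalGeometry.PSUAutCount

section diag

variable {F : Type} [Field F] [Fintype F] {n q : ℕ}

/-- expansion in an orthonormal basis -/
theorem expand_all {b : Fin n → (Fin n → F)} (hb : ∀ i j, hermForm n F q (b i) (b j) = if i = j then 1 else 0)
    (v : Fin n → F) : v = ∑ i, hermForm n F q v (b i) • b i :=
  eq_sum_of_orthonormal ⊤ (by rw [finrank_top, finrank_fin_fun, Fintype.card_fin]) (fun _ => trivial) hb trivial

theorem ext_on {b : Fin n → (Fin n → F)} (hb : ∀ i j, hermForm n F q (b i) (b j) = if i = j then 1 else 0)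
    {f f' : Module.End F (Fin n → F)} (h : ∀ i, f (b i) = f' (b i)) (v : Fin n → F) : f v = f' v := by
  rw [expand_all hb v, map_sum, map_sum]
  refine Finset.sum_congr rfl fun i _ => ?_
  rw [map_smul, map_smul, h]

/-- a diagonal element of `SU` -/
theorem exists_diag (hF : Fintype.card F = q ^ 2) {b : Fin n → (Fin n → F)}
    (hb : ∀ i j, hermForm n F q (b i) (b j) = if i = j then 1 else 0) {d : Fin n → F}
    (hd : ∀ i, d i * d i ^ q = 1) (hdet : ∏ i, d i = 1) : ∃ s : SU n F q, ∀ i, act s (b i) = d i • b i := by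
  classical
  have hli := linearIndependent_of_orthonormal hb
  let B : Module.Basis (Fin n) F (Fin n → F) := Module.Basis.mk hli (by
    rw [span_eq_of_orthonormal ⊤ (by rw [finrank_top, finrank_fin_fun, Fintype.card_fin]) (fun _ => trivial) hb])
  have hB : ∀ i, B i = b i := fun i => Module.Basis.mk_apply hli _ i
  let c : Module.End F (Fin n → F) := B.constr F fun i => d i • b i
  have hc : ∀ i, c (b i) = d i • b i := by
    intro i
    rw [← hB i]
    change (B.constr F fun i => d i • b i) (B i) = _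
    rw [Module.Basis.constr_basis, hB]
  have hcv : ∀ v, c v = ∑ i, (hermForm n F q v (b i) * d i) • b i := by
    intro v
    conv_lhs => rw [expand_all hb v]
    rw [map_sum]
    refine Finset.sum_congr rfl fun i _ => ?_
    rw [map_smul, hc, smul_smul]
  have hcb : ∀ v j, hermForm n F q (c v) (b j) = hermForm n F q v (b j) * d j := by
    intro v j
    rw [hcv, herm_sum_smul_left hb]
  have hform : ∀ v w, hermForm n F q v w = ∑ i, hermForm n F q v (b i) * hermForm n F q w (b i) ^ q := by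
    intro v w
    conv_lhs => rw [expand_all hb w]
    rw [herm_sum_right hF]
    refine Finset.sum_congr rfl fun i _ => ?_
    rw [herm_smul_right, mul_comm]
  have hiso : ∀ v w, hermForm n F q (c v) (c w) = hermForm n F q v w := by
    intro v w
    rw [hform, hform v w]
    refine Finset.sum_congr rfl fun i _ => ?_
    rw [hcb, hcb, mul_pow]
    calc hermForm n F q v (b i) * d i * (hermForm n F q w (b i) ^ q * d i ^ q) =
          hermForm n F q v (b i) * hermForm n F q w (b i) ^ q * (d i * d i ^ q) := by ring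
      _ = _ := by rw [hd, mul_one]
  have hdetc : LinearMap.det c = 1 := by
    rw [← LinearMap.det_toMatrix B]
    have h1 : LinearMap.toMatrix B B c = Matrix.diagonal d := by
      ext i j
      rw [LinearMap.toMatrix_apply, hB, hc, ← hB, map_smul, Module.Basis.repr_self, Finsupp.smul_apply,
        Finsupp.single_apply, Matrix.diagonal_apply]
      by_cases hij : i = j
      · subst hij
        simp
      · rw [if_neg (Ne.symm hij), if_neg hij, smul_zero]
    rw [h1, Matrix.det_diagonal, hdet]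
  obtain ⟨s, hs⟩ := exists_su hiso hdetc
  exact ⟨s, fun i => by rw [hs, hc]⟩

variable {T g : (Fin n → F) → (Fin n → F)}

/-- the commutator on an elliptic plane -/
theorem t_act (hT : SymT q T) {s s' : SU n F q} (hs : ∀ v, T (act s (T v)) = act s' v) {w : Fin n → F} {a : F}
    (ha : a * a ^ q = 1) (h1 : act s w = a • w) (h2 : act s (T w) = T w) :
    act (s * s'⁻¹) w = a • w ∧ act (s * s'⁻¹) (T w) = a • T w := by
  have key : ∀ v, act (s * s'⁻¹) (act s' v) = act s v := by
    intro v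
    rw [← act_mul, inv_mul_cancel_right]
  have ha0 : a ^ q ≠ 0 := by
    intro h0
    rw [h0, mul_zero] at ha
    exact zero_ne_one ha
  constructor
  · have h3 : act s' w = w := by rw [← hs, h2, hT.TT]
    have h4 := key w
    rwa [h3, h1] at h4
  · have h3 : act s' (T w) = a ^ q • T w := by rw [← hs, hT.TT, h1, hT.smul]
    have h4 := key (T w)
    rw [h3, h2, act_smul] at h4
    have h5 : a • T w = a • a ^ q • act (s * s'⁻¹) (T w) := by rw [h4]
    rw [h5, smul_smul, ha, one_smul]

end diag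

section fin

variable {G Ω : Type} [Group G] [Finite G] [Finite Ω] [Nonempty Ω] [MulAction G Ω] {N : Subgroup G} {F : Type} [Field F]
    [Fintype F] {n q : ℕ} (U : UEnv G Ω N F n q) {ι : Type} [Finite ι] {x : ι → G}
    {f : ι → (Fin n → F) → (Fin n → F)} {r : ι → ℕ} {i₀ : ι} {T g : (Fin n → F) → (Fin n → F)}

/-- the eigenvalue on an elliptic plane -/
theorem ell_q (hF : Fintype.card F = q ^ 2) (hq : Odd q) {a : F} (ha : a * a ^ q = 1) (ha1 : a * a ≠ 1) {m : ℕ}
    (hm : Odd m) (ham : a ^ m = 1) : 3 < q ∧ (q = 5 → a ^ 3 = 1) ∧ (q = 9 → a ^ 5 = 1) := by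
  have key : ∀ k : ℕ, q + 1 = 2 * k → a ^ k = 1 := by
    intro k hk
    have h1 : a ^ k * a ^ k = 1 := by
      rw [← pow_add, ← two_mul, ← hk, pow_succ, mul_comm, ha]
    refine eq_one_of_odd h1 hm ?_
    rw [← pow_mul, mul_comm, pow_mul, ham, one_pow]
  have hq2 := two_le hF
  refine ⟨?_, fun h => key 3 (by omega), fun h => key 5 (by omega)⟩
  by_contra hcon
  have hq3 : q = 3 := by
    obtain ⟨k, hk⟩ := hq
    omega
  apply ha1
  have h2 := key 2 (by omega)
  rwa [sq] at h2

/-- `x i₀` has been replaced by an element acting as scalars on `A` and `B` -/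
theorem finish (hG : GDecStmt) (hS : SmallStmt) (h : _root_.Cfsg.Agent.H438.RC.Sym U x f r i₀ T g) (hIH : H106.RC.IH (Nat.card (PSU n F q)))
    (hcop : ∀ i, (r i).Coprime q) {A B : Submodule F (Fin n → F)} (hA : NDeg q A) (hB : NDeg q B) (hAB : IsCompl A B)
    (hA2 : finrank F A = 2) (hn4 : A ≠ ⊤) (hB0 : B ≠ ⊥) (hCg : ∀ u, H438.RC.Cg g u → Stab u A ∧ Stab u B)
    {s s' : SU n F q} (hs : ∀ v, T (act s (T v)) = act s' v) (hsg : ∀ v, g (act s v) = act s (g v)) {α β : F}
    (htA : ∀ v ∈ A, act (s * s'⁻¹) v = α • v) (htB : ∀ v ∈ B, act (s * s'⁻¹) v = β • v) (hαβ : α ≠ β)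
    {ρ : ℕ} (hρ : ρ.Prime) (hρq : ρ.Coprime q) (hαρ : α ^ ρ = 1) (hβρ : β ^ ρ = 1)
    {w : Fin n → F} (hwA : w ∈ A) {a : F} (hw0 : w ≠ 0) (hgw : g w = a • w) (haa : a * a ^ q = 1) (ha1 : a * a ≠ 1)
    (hspan : ∀ x ∈ A, ∃ s t : F, x = s • w + t • T w) {m : ℕ} (hm : Odd m) (ham : a ^ m = 1) : False := by
  classical
  have hF := U.hF
  have hq := h.odd
  obtain ⟨hq3, hq5, hq9⟩ := ell_q hF hq haa ha1 hm ham
  obtain ⟨t, ht⟩ : ∃ t, t = s * s'⁻¹ := ⟨_, rfl⟩
  rw [← ht] at htA htB
  -- the new cover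
  have hpow : ∀ j, j ≠ i₀ → ∃ k, ∀ v, f j v = g^[k] v := fun j hj => h.pow j hj (hcop j)
  have hgk : ∀ (k : ℕ) v, g^[k] (act s v) = act s (g^[k] v) := by
    intro k
    induction k with
    | zero => intro v; rfl
    | succ k ih => intro v; rw [Function.iterate_succ_apply, hsg, ih, Function.iterate_succ_apply]
  have hcomm : ∀ j, j ≠ i₀ → U.el s * x j = x j * U.el s := by
    intro j hj
    obtain ⟨k, hk⟩ := hpow j hj
    refine comm_el (h.gf.fam.lft j) fun v => ?_
    rw [hk, hk, hgk]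
  have hcov := h.cov.mv_comm i₀ hcomm
  rw [comm_T h.gf h.symT hs, ← ht] at hcov
  have hdec : ∀ v : Fin n → F, ∃ a ∈ A, ∃ b ∈ B, v = a + b := by
    intro v
    have h1 : v ∈ A ⊔ B := by rw [hAB.sup_eq_top]; trivial
    obtain ⟨a, ha, b, hb, hab⟩ := Submodule.mem_sup.1 h1
    exact ⟨a, ha, b, hb, hab.symm⟩
  have hact_add : ∀ (u : SU n F q) v w, act u (v + w) = act u v + act u w := fun u v w => act_add u v w
  -- `t` is not a scalar
  have ht1 : U.el t ≠ 1 := by
    intro h1
    obtain ⟨c, hc⟩ := ((U.lft_el t).eq_one_iff).1 h1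
    obtain ⟨b, hb, hb0⟩ := B.ne_bot_iff.1 hB0
    have e1 : (α - c) • w = 0 := by rw [sub_smul, ← htA w hwA, hc, sub_self]
    have e2 : (β - c) • b = 0 := by rw [sub_smul, ← htB b hb, hc, sub_self]
    have e3 := sub_eq_zero.1 ((smul_eq_zero.1 e1).resolve_right hw0)
    have e4 := sub_eq_zero.1 ((smul_eq_zero.1 e2).resolve_right hb0)
    exact hαβ (e3.trans e4.symm)
  have htρ : U.el t ^ ρ = 1 := by
    rw [← map_pow]
    have h2 : t ^ ρ = 1 := by
      apply ext_act
      intro v
      have h3 : ∀ (k : ℕ), (∀ v ∈ A, act (t ^ k) v = α ^ k • v) ∧ ∀ v ∈ B, act (t ^ k) v = β ^ k • v := by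
        intro k
        induction k with
        | zero => exact ⟨fun v _ => by rw [pow_zero, pow_zero, act_one, one_smul],
            fun v _ => by rw [pow_zero, pow_zero, act_one, one_smul]⟩
        | succ k ih =>
          constructor
          · intro v hv
            rw [pow_succ, act_mul, htA v hv, act_smul, ih.1 v hv, smul_smul, pow_succ']
          · intro v hv
            rw [pow_succ, act_mul, htB v hv, act_smul, ih.2 v hv, smul_smul, pow_succ']
      obtain ⟨a, ha, b, hb, rfl⟩ := hdec v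
      rw [hact_add, (h3 ρ).1 a ha, (h3 ρ).2 b hb, hαρ, hβρ, one_smul, one_smul, act_one]
    rw [h2, map_one]
  -- the new lifts
  obtain ⟨f', hf'⟩ : ∃ f', f' = Function.update f i₀ (act t) := ⟨_, rfl⟩
  obtain ⟨x', hx'⟩ : ∃ x', x' = Function.update x i₀ (U.el t) := ⟨_, rfl⟩
  have hf0 : f' i₀ = act t := by rw [hf', Function.update_self]
  have hfj : ∀ j, j ≠ i₀ → f' j = f j := fun j hj => by rw [hf', Function.update_of_ne hj]
  have hx0 : x' i₀ = U.el t := by rw [hx', Function.update_self]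
  have hxj : ∀ j, j ≠ i₀ → x' j = x j := fun j hj => by rw [hx', Function.update_of_ne hj]
  have hct : ∀ j, j ≠ i₀ → ∀ v, act t (f j v) = f j (act t v) := by
    intro j hj v
    have hcg := h.cg j hj
    obtain ⟨a, ha, b, hb, rfl⟩ := hdec v
    rw [hcg.add, hact_add, hact_add, htA _ ((hCg _ hcg).1 a ha), htB _ ((hCg _ hcg).2 b hb), htA a ha, htB b hb,
      hcg.add, hcg.lin, hcg.lin]
  have hfam : GFam U x' f' := by
    refine ⟨fun i => ?_, fun i => ?_, fun i j v => ?_⟩
    · by_cases hi : i = i₀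
      · rw [hi, hx0]; exact ht1
      · rw [hxj i hi]; exact h.gf.fam.pf.ne i
    · by_cases hi : i = i₀
      · rw [hi, hx0, hf0]; exact U.lft_el t
      · rw [hxj i hi, hfj i hi]; exact h.gf.fam.lft i
    · by_cases hi : i = i₀
      · by_cases hj : j = i₀
        · rw [hi, hj]
        · rw [hi, hf0, hfj j hj, hct j hj]
      · by_cases hj : j = i₀
        · rw [hj, hf0, hfj i hi, hct i hi]
        · rw [hfj i hi, hfj j hj, h.gf.fam.comm]
  rw [← hx'] at hcov
  have hgA : Stab g A := (hCg g ⟨h.symG.add, h.symG.lin, fun _ => rfl⟩).1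
  refine hG U x' f' hfam hcov A g hA hn4 (by omega) (by omega) (by omega) ?_ ?_ h.symG.add h.symG.lin hgA
    (fun v _ w _ => h.symG.herm v w) ?_ ?_
  · intro i
    by_cases hi : i = i₀
    · rw [hi, hf0]
      exact ⟨fun c v => act_smul t c v, fun v hv => by rw [htA v hv]; exact A.smul_mem _ hv⟩
    · rw [hfj i hi]
      exact ⟨(h.cg i hi).lin, (hCg _ (h.cg i hi)).1⟩
  · intro i _
    by_cases hi : i = i₀
    · rw [hi, hx0]
      exact ⟨ρ, hρ, hρq, htρ⟩
    · rw [hxj i hi]
      exact ⟨r i, h.gf.fam.pf.prime i, hcop i, h.gf.fam.pf.pow i⟩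
  · intro i
    by_cases hi : i = i₀
    · refine ⟨0, α, fun v hv => ?_⟩
      rw [hi, hf0, htA v hv]
      rfl
    · obtain ⟨k, hk⟩ := hpow i hi
      refine ⟨k, 1, fun v _ => ?_⟩
      rw [hfj i hi, hk, one_smul]
  · -- the alternatives
    have hprime : ∀ k : ℕ, a ^ k = 1 → ∀ v ∈ A, g^[k] v = (1 : F) • v := by
      intro k hk v hv
      have h1 : g^[k] w = w := by rw [iter_eig h.symG.lin hgw, hk, one_smul]
      have hgT : g (T w) = a ^ q • T w := by rw [h.symG.comm, hgw, h.symT.smul]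
      have h2 : g^[k] (T w) = T w := by
        rw [iter_eig h.symG.lin hgT, ← pow_mul, mul_comm, pow_mul, hk, one_pow, one_smul]
      obtain ⟨c, d, rfl⟩ := hspan v hv
      have hadd : ∀ (k : ℕ) v w, g^[k] (v + w) = g^[k] v + g^[k] w := by
        intro k
        induction k with
        | zero => intro v w; rfl
        | succ k ih => intro v w; rw [Function.iterate_succ_apply, h.symG.add, ih, Function.iterate_succ_apply,
            Function.iterate_succ_apply]
      have hlin : ∀ (k : ℕ) (c : F) v, g^[k] (c • v) = c • g^[k] v := by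
        intro k
        induction k with
        | zero => intro c v; rfl
        | succ k ih => intro c v; rw [Function.iterate_succ_apply, h.symG.lin, ih, Function.iterate_succ_apply]
      rw [hadd, hlin, hlin, h1, h2, one_smul]
    by_cases h5 : q = 5
    · right; right
      exact ⟨3, 1, Nat.prime_three, 1, by rw [pow_one]; exact hprime 3 (hq5 h5)⟩
    by_cases h9 : q = 9
    · right; right
      exact ⟨5, 1, Nat.prime_five, 1, by rw [pow_one]; exact hprime 5 (hq9 h9)⟩
    right; left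
    refine ⟨hA2, fun K _ _ hK => ?_⟩
    obtain ⟨-, -, -, -, -, he, -⟩ := hS (F := F) (n := n) (q := q) hF U.hn U.h32 hIH
    refine he K hK (by omega) ?_ h5 h9
    rintro rfl
    exact absurd hq (by decide)

end fin

end Cfsg.Agent.H398.RC
end

-- part: H398/RC/SymThree
section
/-!
# S3510, family E, box E13: `SymThree`, `SymFour` (helper398)
-/

set_option autoImplicit false
set_option linter.unusedSectionVars false

namespace Cfsg.Agent.H398.RC

open Module Cfsg Cfsg.Agent.LieClassical.HermBasic Cfsg.Agent.LieClassical.HermSiegel Cfsg.Agent.H380.RC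
  Cfsg.Agent.H438.RC Cfsg.Agent.ClassicalGeometry.HermOrtho Cfsg.Agent.LieClassical.HermGen
  Cfsg.Agent.LieClassical.SUBasic Cfsg.Agent.ClassicalGeometry.PSUAutBasic
  Cfsg.Agent.ClassicalGeometry.PSUAutCount

section geo

variable {F : Type} [Field F] [Fintype F] {n q : ℕ} {T g : (Fin n → F) → (Fin n → F)}

theorem neg_one_ne (hF : Fintype.card F = q ^ 2) (hq : Odd q) : (-1 : F) ≠ 1 := by
  apply Ring.neg_one_ne_one_of_char_ne_two
  intro h
  have h1 := FiniteField.even_card_iff_char_two.1 h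
  rw [hF] at h1
  have h2 : Odd (q ^ 2) := hq.pow
  rw [Nat.odd_iff] at h2
  omega

/-- normalisation of the vector of an elliptic plane -/
theorem ell_norm (hF : Fintype.card F = q ^ 2) (hT : SymT q T) (hgl : Lin g) {A : Submodule F (Fin n → F)}
    {w : Fin n → F} (hwA : w ∈ A) {a : F} (hw : hermForm n F q w w ≠ 0) (hwT : hermForm n F q w (T w) = 0)
    (hgw : g w = a • w) (hspan : ∀ x ∈ A, ∃ s t : F, x = s • w + t • T w) :
    ∃ w ∈ A, hermForm n F q w w = 1 ∧ hermForm n F q w (T w) = 0 ∧ g w = a • w ∧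
      ∀ x ∈ A, ∃ s t : F, x = s • w + t • T w := by
  have hη : (hermForm n F q w w)⁻¹ ^ q = (hermForm n F q w w)⁻¹ := by rw [inv_pow, herm_self_pow hF]
  obtain ⟨t, ht0, ht⟩ := exists_norm_eq_ne hF hη (inv_ne_zero hw)
  have htq : t ^ q ≠ 0 := by
    intro h0
    rw [h0, mul_zero] at ht
    exact inv_ne_zero hw ht.symm
  refine ⟨t • w, A.smul_mem _ hwA, ?_, ?_, ?_, fun x hx => ?_⟩
  · rw [herm_smul_left, herm_smul_right, ← mul_assoc, ht, inv_mul_cancel₀ hw]
  · rw [hT.smul, herm_smul_left, herm_smul_right, hwT, mul_zero, mul_zero]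
  · rw [hgl, hgw, smul_smul, smul_smul, mul_comm]
  · obtain ⟨c, d, hcd⟩ := hspan x hx
    refine ⟨c * t⁻¹, d * (t ^ q)⁻¹, ?_⟩
    rw [hT.smul, smul_smul, smul_smul, inv_mul_cancel_right₀ ht0, inv_mul_cancel_right₀ htq, hcd]

/-- a fixed nonsingular vector -/
theorem exists_fix (hF : Fintype.card F = q ^ 2) (hq : Odd q) (hT : SymT q T) {B : Submodule F (Fin n → F)}
    (hB : NDeg q B) (hB0 : B ≠ ⊥) (hTB : Stab T B) : ∃ e ∈ B, T e = e ∧ hermForm n F q e e ≠ 0 := by
  by_contra hcon
  push Not at hcon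
  have h2 : (2 : F) ≠ 0 := by
    intro h0
    apply neg_one_ne hF hq
    have : (2 : F) = 1 + 1 := by norm_num
    rw [this] at h0
    exact (eq_neg_of_add_eq_zero_left h0).symm
  obtain ⟨b, hb, hb0⟩ := B.ne_bot_iff.1 hB0
  have hfix : ∀ v ∈ B, T v = v → ∀ w ∈ B, T w = w → hermForm n F q v w = 0 := by
    intro v hv hTv w hw hTw
    have h3 := hcon (v + w) (B.add_mem hv hw) (by rw [hT.add, hTv, hTw])
    rw [herm_add_left, herm_add_right hF, herm_add_right hF, hcon v hv hTv, hcon w hw hTw] at h3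
    have h4 : hermForm n F q w v = hermForm n F q v w := by
      rw [herm_swap hF, ← hT.herm, hTv, hTw]
    rw [h4] at h3
    have h5 : 2 * hermForm n F q v w = 0 := by linear_combination h3
    exact (mul_eq_zero.1 h5).resolve_left h2
  have h1 : ∀ w ∈ B, T w = w → ∀ v ∈ B, hermForm n F q v w = 0 := by
    intro w hw hTw v hv
    have h3 := hT.span hF hTB (δ := fun v => hermForm n F q v w • b) (fun v v' => by rw [herm_add_left, add_smul])
      (fun c v => by change hermForm n F q (c • v) w • b = c • (hermForm n F q v w • b)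
                     rw [herm_smul_left, mul_smul]) (fun v hv hTv => by
        rw [hfix v hv hTv w hw hTw, zero_smul]) v hv
    exact (smul_eq_zero.1 h3).resolve_right hb0
  have h3 : ∀ v ∈ B, ∀ w ∈ B, hermForm n F q w v = 0 := by
    intro v hv w hw
    have h4 := hT.span hF hTB (δ := fun w => hermForm n F q w v • b) (fun v v' => by rw [herm_add_left, add_smul])
      (fun c w => by change hermForm n F q (c • w) v • b = c • (hermForm n F q w v • b)
                     rw [herm_smul_left, mul_smul]) (fun w hw hTw => by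
        rw [herm_eq_zero_swap hF (h1 w hw hTw v hv), zero_smul]) w hw
    exact (smul_eq_zero.1 h4).resolve_right hb0
  exact hb0 (hB b hb fun w hw => h3 w hw b hb)

end geo

section fin

variable {G Ω : Type} [Group G] [Finite G] [Finite Ω] [Nonempty Ω] [MulAction G Ω] {N : Subgroup G} {F : Type} [Field F]
    [Fintype F] {n q : ℕ} (U : UEnv G Ω N F n q) {ι : Type} [Finite ι] {x : ι → G}
    {f : ι → (Fin n → F) → (Fin n → F)} {r : ι → ℕ} {i₀ : ι} {T g : (Fin n → F) → (Fin n → F)}

/-- a common singular eigenvector -/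
theorem sym_point (h : _root_.Cfsg.Agent.H438.RC.Sym U x f r i₀ T g) (hcop : ∀ i, (r i).Coprime q) {e : Fin n → F} (he0 : e ≠ 0)
    (he : hermForm n F q e e = 0) (hg : ∃ c : F, g e = c • e) (hT : ∃ c : F, T e = c • e) : False := by
  have hfam := h.gf.fam
  refine U.point hfam.pf.prime hcop hfam.pf.pow hfam.pf.ne hfam.pf.comm hfam.lft h.cov he0 he fun i => ?_
  by_cases hi : i = i₀
  · obtain ⟨b, hb0, hb⟩ := h.gf.eq
    obtain ⟨c, hc⟩ := hT
    refine ⟨b⁻¹ * c, ?_⟩
    rw [hi, mul_smul, ← hc, hb, smul_smul, inv_mul_cancel₀ hb0, one_smul]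
  · obtain ⟨k, hk⟩ := h.pow i hi (hcop i)
    obtain ⟨c, hc⟩ := hg
    exact ⟨c ^ k, by rw [hk, iter_eig h.symG.lin hc]⟩

/-- `g = 1` on a nondegenerate `T`-stable subspace, `n = 4` -/
theorem sym_deg (hDec : DecStmt) (hS : SmallStmt) (h : _root_.Cfsg.Agent.H438.RC.Sym U x f r i₀ T g)
    (hIH : H106.RC.IH (Nat.card (PSU n F q))) (hcop : ∀ i, (r i).Coprime q) (hn : n = 4)
    {B : Submodule F (Fin n → F)} (hB : NDeg q B) (hB0 : B ≠ ⊥) (hTB : Stab T B) (hg1 : ∀ v ∈ B, g v = v) : False := by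
  have hF := U.hF
  have hq := h.odd
  obtain ⟨e, heB, hTe, he⟩ := exists_fix hF hq h.symT hB hB0 hTB
  have he0 : e ≠ 0 := by
    rintro rfl
    exact he (herm_zero_left _)
  have hq2 : q ≠ 2 := by
    rintro rfl
    exact absurd hq (by decide)
  have hW : ∀ u ∈ Submodule.span F {e}, (∀ v ∈ Submodule.span F {e}, hermForm n F q u v = 0) → u = 0 := by
    intro u hu h0
    obtain ⟨c, rfl⟩ := Submodule.mem_span_singleton.1 hu
    have h1 := h0 e (Submodule.mem_span_singleton_self e)
    rw [herm_smul_left] at h1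
    rw [(mul_eq_zero.1 h1).resolve_right he, zero_smul]
  have hfr := finrank_hermPerp_of_nondeg hF (Submodule.span F {e}) hW
  rw [finrank_span_singleton he0] at hfr
  have hmem : ∀ v, v ∈ (hermPerp q (Submodule.span F {e} : Set (Fin n → F)) : Submodule F (Fin n → F)) ↔
      hermForm n F q v e = 0 := by
    intro v
    rw [mem_hermPerp]
    constructor
    · intro h1
      exact h1 e (Submodule.mem_span_singleton_self e)
    · intro h1 w hw
      obtain ⟨c, rfl⟩ := Submodule.mem_span_singleton.1 hw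
      rw [herm_smul_right, h1, mul_zero]
  have hrank : finrank F (hermPerp q (Submodule.span F {e} : Set (Fin n → F)) : Submodule F (Fin n → F)) = 3 := by
    omega
  have hge := hg1 e heB
  refine hDec U x f r h.gf.fam h.cov ⟨hermPerp q (Submodule.span F {e} : Set (Fin n → F)),
    hermPerp_nondeg hF _ hW, ?_, by rw [hrank], by rw [hrank]; exact fun h => hq2 h.2, fun i v hv => ?_, fun i _ => hcop i, ?_⟩
  · intro htop
    rw [htop, finrank_top, finrank_fin_fun] at hrank
    omega
  · rw [hmem] at hv ⊢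
    by_cases hi : i = i₀
    · obtain ⟨b, hb0, hb⟩ := h.gf.eq
      have h1 : f i v = b⁻¹ • T v := by rw [hi, hb, smul_smul, inv_mul_cancel₀ hb0, one_smul]
      rw [h1, herm_smul_left]
      nth_rewrite 1 [← hTe]
      rw [h.symT.herm, hv, zero_pow_q hF, mul_zero]
    · obtain ⟨k, hk⟩ := h.pow i hi (hcop i)
      have h1 : ∀ k v, hermForm n F q (g^[k] v) e = hermForm n F q v e := by
        intro k
        induction k with
        | zero => intro v; rfl
        | succ k ih =>
          intro v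
          rw [Function.iterate_succ_apply, ih]
          nth_rewrite 1 [← hge]
          rw [h.symG.herm]
      rw [hk, h1, hv]
  · have key : ∀ d, d = 3 → H106.RC.RC (PSU d F q) := by
      rintro d rfl
      obtain ⟨ha, -⟩ := hS (F := F) (n := n) (q := q) hF U.hn U.h32 hIH
      exact ha 3 le_rfl (by omega) (fun h => hq2 h.2)
    exact key _ hrank

end fin

section thm

theorem sym_three (hG : GDecStmt) (hS : SmallStmt) : SymThree := by
  intro G Ω _ _ _ _ _ N F _ _ n q U ι _ x f r i₀ T g h hIH hcop hn A B hA hB hAB hA2 hB1 horth hTA hTB hCg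
  have hF := U.hF
  have hT := h.symT
  have hg := h.symG
  have hgC : H438.RC.Cg g g := ⟨hg.add, hg.lin, fun _ => rfl⟩
  have hgA := (hCg g hgC).1
  have hgB := (hCg g hgC).2
  obtain ⟨b0, hb0B, hb0⟩ := exists_orthonormal hF B hB hB1
  obtain ⟨e, he⟩ : ∃ e, e = b0 0 := ⟨_, rfl⟩
  have heB : e ∈ B := by rw [he]; exact hb0B 0
  have hee : hermForm n F q e e = 1 := by rw [he, hb0]; rfl
  have hexpB : ∀ v ∈ B, v = hermForm n F q v e • e := by
    intro v hv
    conv_lhs => rw [eq_sum_of_orthonormal B (by simpa using hB1) hb0B hb0 hv]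
    rw [Fin.sum_univ_one, he]
  have he0 : e ≠ 0 := by
    rintro h0
    rw [h0, herm_zero_left] at hee
    exact zero_ne_one hee
  have hge : g e = e := one_of_line hT hg (by rw [hee]; exact one_ne_zero) (hexpB _ (hgB e heB)) (hexpB _ (hTB e heB))
  have hg1B : ∀ v ∈ B, g v = v := by
    intro v hv
    rw [hexpB v hv, hg.lin, hge]
  rcases plane_tri hF hT hg hA hA2 hTA hgA with h1 | ⟨e', -, he'0, he', hge', hTe'⟩ |
    ⟨w, hwA, a, hw, hwT, hgw, haa, ha1, hspan, m, hm1, hm2, ham⟩
  · obtain ⟨v, hv⟩ := h.ne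
    apply hv
    have h2 : v ∈ A ⊔ B := by rw [hAB.sup_eq_top]; trivial
    obtain ⟨a, ha, b, hb, rfl⟩ := Submodule.mem_sup.1 h2
    rw [hg.add, h1 a ha, hg1B b hb]
  · exact sym_point U h hcop he'0 he' hge' hTe'
  · obtain ⟨w, hwA, hw, hwT, hgw, hspan⟩ := ell_norm hF hT hg.lin hwA hw hwT hgw hspan
    have hTwA := hTA w hwA
    subst hn
    have hTT : hermForm 3 F q (T w) (T w) = 1 := by rw [hT.herm, hw, one_pow]
    have hTw : hermForm 3 F q (T w) w = 0 := herm_eq_zero_swap hF hwT
    have hb : ∀ i j, hermForm 3 F q ((![w, T w, e] : Fin 3 → (Fin 3 → F)) i) ((![w, T w, e] : Fin 3 → (Fin 3 → F)) j) =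
        if i = j then 1 else 0 := by
      intro i j
      have e1 := horth w hwA e heB
      have e2 := horth _ hTwA e heB
      have e3 := herm_eq_zero_swap hF e1
      have e4 := herm_eq_zero_swap hF e2
      (revert i j; simp only [hw, hwT, hTT, hTw, e1, e2, e3, e4, hee, _root_.Fin.forall_fin_succ, _root_.Nat.succ_eq_add_one, Nat.reduceAdd, Fin.isValue, _root_.Matrix.cons_val_zero, _root_.Matrix.cons_val_succ, _root_.Fin.succ_zero_eq_one, _root_.Matrix.cons_val_fin_one, _root_.Fin.succ_one_eq_two, _root_.IsEmpty.forall_iff, _root_.and_true, ↓reduceIte, _root_.zero_ne_one, Fin.reduceEq, _root_.and_self, _root_.Fin.succ_ne_zero, _root_.right_eq_ite_iff, _root_.imp_false, _root_.ne_eq, _root_.left_eq_ite_iff, _root_.one_ne_zero, _root_.Decidable.not_not, _root_.true_and, _root_.not_false_eq_true])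
    have hm1q : (-1 : F) * (-1) ^ q = 1 := by rw [neg_pow_q hF, one_pow]; ring
    obtain ⟨s, hs⟩ := exists_diag hF hb (d := ![-1, 1, -1]) (by
      intro i
      fin_cases i
      · exact hm1q
      · simp
      · exact hm1q) (by simp [Fin.prod_univ_three])
    have hs0 : act s w = (-1 : F) • w := hs 0
    have hs1 : act s (T w) = T w := by
      have := hs 1
      change act s (T w) = (1 : F) • T w at this
      rwa [one_smul] at this
    have hs2 : act s e = (-1 : F) • e := hs 2
    obtain ⟨s', hs'⟩ := (lft_T h.gf hT).exists_conj s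
    have hss : ∀ v, T (act s (T v)) = act s' v := by
      intro v
      rw [hs', hT.TT]
    have hgT : g (T w) = a ^ q • T w := by rw [hg.comm, hgw, hT.smul]
    have hsg : ∀ v, g (act s v) = act s (g v) := by
      let Ge : Module.End F (Fin 3 → F) := { toFun := g, map_add' := hg.add, map_smul' := fun c v => hg.lin c v }
      let Se : Module.End F (Fin 3 → F) :=
        { toFun := act s, map_add' := fun v w => act_add s v w, map_smul' := fun c v => act_smul s c v }
      have key := ext_on hb (f := Ge * Se) (f' := Se * Ge) (by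
        intro i
        change g (act s _) = act s (g _)
        fin_cases i
        · change g (act s w) = act s (g w)
          rw [hs0, hgw, hg.lin, hgw, act_smul, hs0, smul_smul, smul_smul, mul_comm]
        · change g (act s (T w)) = act s (g (T w))
          rw [hs1, hgT, act_smul, hs1]
        · change g (act s e) = act s (g e)
          rw [hs2, hg.lin, hge, hs2])
      exact key
    obtain ⟨ht0, ht1⟩ := t_act hT hss hm1q hs0 hs1
    have hte : act (s * s'⁻¹) e = (1 : F) • e := by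
      obtain ⟨κ, hκ⟩ : ∃ κ : F, T e = κ • e := ⟨_, hexpB _ (hTB e heB)⟩
      have hse : act s' e = (-1 : F) • e := by
        rw [← hss, hκ, act_smul, hs2, smul_smul, mul_comm, ← smul_smul, ← hκ, hT.smul, hT.TT]
        congr 1
        rw [neg_pow_q hF, one_pow]
      have key : act (s * s'⁻¹) (act s' e) = act s e := by
        rw [← act_mul, inv_mul_cancel_right]
      rw [hse, hs2, act_smul] at key
      rw [one_smul]
      have h3 := congrArg (fun v => (-1 : F) • v) key
      simp only [smul_smul, neg_mul, one_mul, neg_neg, one_smul] at h3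
      exact h3
    refine finish U hG hS h hIH hcop hA hB hAB hA2 ?_ ?_ hCg hss hsg (α := -1) (β := 1) ?_ ?_ (neg_one_ne hF h.odd)
      Nat.prime_two ?_ (by norm_num) (by norm_num) hwA ?_ hgw haa ha1 hspan hm1 ham
    · intro htop
      rw [htop, finrank_top, finrank_fin_fun] at hA2
      omega
    · intro h0
      rw [h0, finrank_bot] at hB1
      omega
    · intro v hv
      obtain ⟨c, d, rfl⟩ := hspan v hv
      rw [act_add, act_smul, act_smul, ht0, ht1, smul_add, smul_comm c, smul_comm d]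
    · intro v hv
      rw [hexpB v hv, act_smul, hte, one_smul, one_smul]
    · exact (Nat.coprime_two_left).2 h.odd
    · rintro rfl
      rw [herm_zero_left] at hw
      exact zero_ne_one hw

/-- an element of odd prime order among the powers -/
theorem exists_alpha {F : Type} [Field F] [Fintype F] {q : ℕ} {a : F} (haa : a * a ^ q = 1) (ha1 : a * a ≠ 1) {m : ℕ}
    (hm : Odd m) (hmq : m.Coprime q) (ham : a ^ m = 1) :
    ∃ (α : F) (ρ : ℕ), ρ.Prime ∧ ρ.Coprime q ∧ α ^ ρ = 1 ∧ α * α ^ q = 1 ∧ α ≠ α⁻¹ := by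
  have h1 : a ≠ 1 := by
    rintro rfl
    exact ha1 (one_mul 1)
  obtain ⟨ρ, hρ, hρd⟩ := Nat.exists_prime_and_dvd (n := orderOf a) (fun h => h1 (orderOf_eq_one_iff.1 h))
  have hord : orderOf a ∣ m := orderOf_dvd_of_pow_eq_one ham
  have hpos : 0 < orderOf a := Nat.pos_of_dvd_of_pos hord hm.pos
  obtain ⟨k, hk⟩ := hρd
  have hodd : Odd ρ := hm.of_dvd_nat ((Dvd.intro _ hk.symm).trans hord)
  have hαρ : (a ^ k) ^ ρ = 1 := by
    rw [← pow_mul, mul_comm, ← hk, pow_orderOf_eq_one]
  have hα1 : a ^ k ≠ 1 := by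
    intro h0
    have h2 : orderOf a ∣ k := orderOf_dvd_of_pow_eq_one h0
    have hk0 : 0 < k := by
      rcases Nat.eq_zero_or_pos k with h | h
      · rw [h, mul_zero] at hk
        omega
      · exact h
    have h3 := Nat.le_of_dvd hk0 h2
    rw [hk] at h3
    have h4 := hρ.two_le
    nlinarith only [hk0, h3, h4]
  refine ⟨a ^ k, ρ, hρ, Nat.Coprime.coprime_dvd_left ((Dvd.intro _ hk.symm).trans hord) hmq, hαρ, ?_, ?_⟩
  · rw [← pow_mul, mul_comm k q, pow_mul, ← mul_pow, haa, one_pow]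
  · intro h0
    apply hα1
    have hk0 : a ^ k ≠ 0 := by
      intro h2
      rw [h2, zero_pow hρ.ne_zero] at hαρ
      exact zero_ne_one hαρ
    refine eq_one_of_odd ?_ hodd hαρ
    nth_rewrite 1 [h0]
    exact inv_mul_cancel₀ hk0

theorem sym_four (hDec : DecStmt) (hG : GDecStmt) (hS : SmallStmt) : SymFour := by
  intro G Ω _ _ _ _ _ N F _ _ n q U ι _ x f r i₀ T g h hIH hcop hn A B hA hB hAB hA2 hB2 horth hTA hTB hCg
  have hF := U.hF
  have hT := h.symT
  have hg := h.symG
  have hgC : H438.RC.Cg g g := ⟨hg.add, hg.lin, fun _ => rfl⟩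
  have hgA := (hCg g hgC).1
  have hgB := (hCg g hgC).2
  have hA0 : A ≠ ⊥ := by
    intro h0
    rw [h0, finrank_bot] at hA2
    omega
  have hB0 : B ≠ ⊥ := by
    intro h0
    rw [h0, finrank_bot] at hB2
    omega
  rcases plane_tri hF hT hg hA hA2 hTA hgA with h1 | ⟨e', -, he'0, he', hge', hTe'⟩ |
    ⟨w, hwA, a, hw, hwT, hgw, haa, ha1, hspan, m, hm1, hm2, ham⟩
  · exact sym_deg U hDec hS h hIH hcop hn hA hA0 hTA h1
  · exact sym_point U h hcop he'0 he' hge' hTe'
  rcases plane_tri hF hT hg hB hB2 hTB hgB with h1 | ⟨e', -, he'0, he', hge', hTe'⟩ |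
    ⟨w', hwB, a', hw', hwT', hgw', haa', ha1', hspan', m', hm1', hm2', ham'⟩
  · exact sym_deg U hDec hS h hIH hcop hn hB hB0 hTB h1
  · exact sym_point U h hcop he'0 he' hge' hTe'
  obtain ⟨w, hwA, hw, hwT, hgw, hspan⟩ := ell_norm hF hT hg.lin hwA hw hwT hgw hspan
  obtain ⟨w', hwB, hw', hwT', hgw', hspan'⟩ := ell_norm hF hT hg.lin hwB hw' hwT' hgw' hspan'
  obtain ⟨α, ρ, hρ, hρq, hαρ, hαα, hα1⟩ := exists_alpha haa ha1 hm1 hm2 ham
  have hTwA := hTA w hwA
  have hTwB := hTB w' hwB
  subst hn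
  have hTT : hermForm 4 F q (T w) (T w) = 1 := by rw [hT.herm, hw, one_pow]
  have hTw : hermForm 4 F q (T w) w = 0 := herm_eq_zero_swap hF hwT
  have hTT' : hermForm 4 F q (T w') (T w') = 1 := by rw [hT.herm, hw', one_pow]
  have hTw' : hermForm 4 F q (T w') w' = 0 := herm_eq_zero_swap hF hwT'
  have hb : ∀ i j, hermForm 4 F q ((![w, T w, w', T w'] : Fin 4 → (Fin 4 → F)) i)
      ((![w, T w, w', T w'] : Fin 4 → (Fin 4 → F)) j) = if i = j then 1 else 0 := by
    intro i j
    have e1 := horth w hwA w' hwB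
    have e2 := horth _ hTwA w' hwB
    have e3 := horth w hwA _ hTwB
    have e4 := horth _ hTwA _ hTwB
    have e1' := herm_eq_zero_swap hF e1
    have e2' := herm_eq_zero_swap hF e2
    have e3' := herm_eq_zero_swap hF e3
    have e4' := herm_eq_zero_swap hF e4
    (revert i j; simp only [hw, hwT, hTT, hTw, hw', hwT', hTT', hTw', e1, e2, e3, e4, e1', e2', e3', e4', _root_.Fin.forall_fin_succ, _root_.Nat.succ_eq_add_one, Nat.reduceAdd, Fin.isValue, _root_.Matrix.cons_val_zero, _root_.Matrix.cons_val_succ, _root_.Fin.succ_zero_eq_one, _root_.Fin.succ_one_eq_two, _root_.Matrix.cons_val_fin_one, Fin.reduceSucc, _root_.IsEmpty.forall_iff, _root_.and_true, ↓reduceIte, _root_.zero_ne_one, Fin.reduceEq, _root_.and_self, _root_.Fin.succ_ne_zero, _root_.right_eq_ite_iff, _root_.imp_false, _root_.ne_eq, _root_.left_eq_ite_iff, _root_.one_ne_zero, _root_.Decidable.not_not, _root_.true_and, _root_.not_false_eq_true])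
  have hα0 : α ≠ 0 := by
    rintro rfl
    rw [zero_mul] at hαα
    exact zero_ne_one hαα
  have hαi : α⁻¹ * α⁻¹ ^ q = 1 := by
    rw [inv_pow, ← mul_inv, hαα, inv_one]
  obtain ⟨s, hs⟩ := exists_diag hF hb (d := ![α, 1, α⁻¹, 1]) (by
    intro i
    fin_cases i
    · exact hαα
    · simp
    · exact hαi
    · simp) (by simp [Fin.prod_univ_four, hα0])
  have hs0 : act s w = α • w := hs 0
  have hs1 : act s (T w) = T w := by
    have := hs 1
    change act s (T w) = (1 : F) • T w at this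
    rwa [one_smul] at this
  have hs2 : act s w' = α⁻¹ • w' := hs 2
  have hs3 : act s (T w') = T w' := by
    have := hs 3
    change act s (T w') = (1 : F) • T w' at this
    rwa [one_smul] at this
  obtain ⟨s', hs'⟩ := (lft_T h.gf hT).exists_conj s
  have hss : ∀ v, T (act s (T v)) = act s' v := by
    intro v
    rw [hs', hT.TT]
  have hgT : g (T w) = a ^ q • T w := by rw [hg.comm, hgw, hT.smul]
  have hgT' : g (T w') = a' ^ q • T w' := by rw [hg.comm, hgw', hT.smul]
  have hsg : ∀ v, g (act s v) = act s (g v) := by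
    let Ge : Module.End F (Fin 4 → F) := { toFun := g, map_add' := hg.add, map_smul' := fun c v => hg.lin c v }
    let Se : Module.End F (Fin 4 → F) :=
      { toFun := act s, map_add' := fun v w => act_add s v w, map_smul' := fun c v => act_smul s c v }
    have key := ext_on hb (f := Ge * Se) (f' := Se * Ge) (by
      intro i
      change g (act s _) = act s (g _)
      fin_cases i
      · change g (act s w) = act s (g w)
        rw [hs0, hgw, hg.lin, hgw, act_smul, hs0, smul_smul, smul_smul, mul_comm]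
      · change g (act s (T w)) = act s (g (T w))
        rw [hs1, hgT, act_smul, hs1]
      · change g (act s w') = act s (g w')
        rw [hs2, hgw', hg.lin, hgw', act_smul, hs2, smul_smul, smul_smul, mul_comm]
      · change g (act s (T w')) = act s (g (T w'))
        rw [hs3, hgT', act_smul, hs3])
    exact key
  obtain ⟨ht0, ht1⟩ := t_act hT hss hαα hs0 hs1
  obtain ⟨ht2, ht3⟩ := t_act hT hss hαi hs2 hs3
  refine finish U hG hS h hIH hcop hA hB hAB hA2 ?_ hB0 hCg hss hsg (α := α) (β := α⁻¹) ?_ ?_ hα1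
    hρ hρq hαρ (by rw [inv_pow, hαρ, inv_one]) hwA ?_ hgw haa ha1 hspan hm1 ham
  · intro htop
    rw [htop, finrank_top, finrank_fin_fun] at hA2
    omega
  · intro v hv
    obtain ⟨c, d, rfl⟩ := hspan v hv
    rw [act_add, act_smul, act_smul, ht0, ht1, smul_add, smul_comm c, smul_comm d]
  · intro v hv
    obtain ⟨c, d, rfl⟩ := hspan' v hv
    rw [act_add, act_smul, act_smul, ht2, ht3, smul_add, smul_comm c, smul_comm d]
  · rintro rfl
    rw [herm_zero_left] at hw
    exact zero_ne_one hw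

end thm

end Cfsg.Agent.H398.RC
end
end

-- part: H452/RC/DSwap
section
prune_inst 0x70040840020000180580512000000000042000400c00c402040008010000080100410900111002000081000100081100008002600000040004000001000010800000a048000002009e000000000000000000000000000000000000000000000000000
set_option linter.all false
open scoped Cfsg.Agent.FastGrp

-- part: H452/RC/SLW
section
/-!
# S3510, family E (unitary groups): `SL(W)` acting on `V = W ⊕ W'`, `W`, `W'` totally singular (helper452)

* `DB q b b'` : dual bases of `W`, `W'`; `exists_db`;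
* `kap hF hb : SL (Fin d) F →* SU n F q`; `act_kap`, `act_kap_W`, `act_kap_W'`.
-/

set_option autoImplicit false
set_option linter.unusedSectionVars false

namespace Cfsg.Agent.H452.RC

open Matrix Cfsg Module Cfsg.Agent.LieClassical.HermBasic Cfsg.Agent.LieClassical.HermSiegel
  Cfsg.Agent.LieClassical.HermGen Cfsg.Agent.LieClassical.SUBasic Cfsg.Agent.ClassicalGeometry.PSUAutBasic
  Cfsg.Agent.ClassicalGeometry.PSUAutCount Cfsg.Agent.LieClassical.FieldTransfer Cfsg.Agent.ClassicalGeometry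
open Cfsg.Agent.H380.RC
open Cfsg.Agent.H189.SN (Im Pm Im_mulVec Pm_mulVec)

section

variable {F : Type*} [Field F] {n d q : ℕ}

/-- dual bases of two complementary totally singular subspaces -/
structure DB (q : ℕ) (b b' : Fin d → (Fin n → F)) : Prop where
  bb : ∀ i j, hermForm n F q (b i) (b j) = 0
  bb' : ∀ i j, hermForm n F q (b' i) (b' j) = 0
  du : ∀ i j, hermForm n F q (b i) (b' j) = if i = j then 1 else 0
  du' : ∀ i j, hermForm n F q (b' i) (b j) = if i = j then 1 else 0
  span : ∀ v, ∃ c c' : Fin d → F, v = Im b *ᵥ c + Im b' *ᵥ c'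

theorem Pm_mul_Im (b b' : Fin d → (Fin n → F)) (i j : Fin d) : (Pm q b' * Im b) i j = hermForm n F q (b j) (b' i) := by
  have h1 : (Pm q b' * Im b) i j = (Pm q b' *ᵥ b j) i := rfl
  rw [h1, Pm_mulVec]

variable {b b' : Fin d → (Fin n → F)}

namespace DB

theorem m1 (h : DB q b b') : Pm q b' * Im b = 1 := by
  ext i j
  rw [Pm_mul_Im, h.du, Matrix.one_apply]
  simp only [eq_comm]

theorem m2 (h : DB q b b') : Pm q b' * Im b' = 0 := by
  ext i j
  rw [Pm_mul_Im, h.bb']
  rfl

theorem m3 (h : DB q b b') : Pm q b * Im b = 0 := by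
  ext i j
  rw [Pm_mul_Im, h.bb]
  rfl

theorem m4 (h : DB q b b') : Pm q b * Im b' = 1 := by
  ext i j
  rw [Pm_mul_Im, h.du', Matrix.one_apply]
  simp only [eq_comm]

theorem coord (h : DB q b b') (c c' : Fin d → F) : Pm q b' *ᵥ (Im b *ᵥ c + Im b' *ᵥ c') = c := by
  rw [mulVec_add, mulVec_mulVec, mulVec_mulVec, h.m1, h.m2, one_mulVec, zero_mulVec, add_zero]

theorem coord' (h : DB q b b') (c c' : Fin d → F) : Pm q b *ᵥ (Im b *ᵥ c + Im b' *ᵥ c') = c' := by
  rw [mulVec_add, mulVec_mulVec, mulVec_mulVec, h.m3, h.m4, one_mulVec, zero_mulVec, zero_add]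

theorem m5 (h : DB q b b') : Im b * Pm q b' + Im b' * Pm q b = 1 := by
  apply ext_of_mulVec_single
  intro i
  obtain ⟨c, c', hc⟩ := h.span (Pi.single i 1)
  rw [hc, add_mulVec, ← mulVec_mulVec, ← mulVec_mulVec, h.coord, h.coord', one_mulVec]

theorem inj (h : DB q b b') {c c' e e' : Fin d → F} (he : Im b *ᵥ c + Im b' *ᵥ c' = Im b *ᵥ e + Im b' *ᵥ e') :
    c = e ∧ c' = e' := by
  constructor
  · rw [← h.coord c c', he, h.coord]
  · rw [← h.coord' c c', he, h.coord']

end DB

variable [Fintype F]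

/-- the form in coordinates -/
theorem DB.herm (hF : Fintype.card F = q ^ 2) (h : DB q b b') (c c' e e' : Fin d → F) :
    hermForm n F q (Im b *ᵥ c + Im b' *ᵥ c') (Im b *ᵥ e + Im b' *ᵥ e') =
      c ⬝ᵥ (fun i => conj hF (e' i)) + c' ⬝ᵥ (fun i => conj hF (e i)) := by
  have k : ∀ (u : Fin d → (Fin n → F)) (e : Fin d → F) (v : Fin n → F),
      hermForm n F q v (Im u *ᵥ e) = ∑ i, conj hF (e i) * hermForm n F q v (u i) := by
    intro u e v
    rw [Im_mulVec, herm_sum_right hF]
    exact Finset.sum_congr rfl fun i _ => by rw [herm_smul_right, conj_apply]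
  have k' : ∀ (u : Fin d → (Fin n → F)) (e : Fin d → F) (v : Fin n → F),
      hermForm n F q (Im u *ᵥ e) v = ∑ i, e i * hermForm n F q (u i) v := by
    intro u e v
    rw [Im_mulVec, herm_sum_left]
    exact Finset.sum_congr rfl fun i _ => by rw [herm_smul_left]
  have e1 : ∀ i, hermForm n F q (Im b *ᵥ c) (b i) = 0 := fun i => by
    rw [k']
    exact Finset.sum_eq_zero fun j _ => by rw [h.bb, mul_zero]
  have e2 : ∀ i, hermForm n F q (Im b' *ᵥ c') (b' i) = 0 := fun i => by
    rw [k']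
    exact Finset.sum_eq_zero fun j _ => by rw [h.bb', mul_zero]
  have e3 : ∀ i, hermForm n F q (Im b *ᵥ c) (b' i) = c i := fun i => by
    rw [k']
    simp only [h.du, mul_ite, mul_one, mul_zero]
    rw [Finset.sum_ite_eq' Finset.univ i c, if_pos (Finset.mem_univ i)]
  have e4 : ∀ i, hermForm n F q (Im b' *ᵥ c') (b i) = c' i := fun i => by
    rw [k']
    simp only [h.du', mul_ite, mul_one, mul_zero]
    rw [Finset.sum_ite_eq' Finset.univ i c', if_pos (Finset.mem_univ i)]
  rw [herm_add_left, herm_add_right hF, herm_add_right hF, k, k, k, k]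
  simp only [e1, e2, e3, e4, mul_zero, Finset.sum_const_zero, zero_add, add_zero]
  congr 1
  · exact Finset.sum_congr rfl fun i _ => mul_comm _ _
  · exact Finset.sum_congr rfl fun i _ => mul_comm _ _

/-- the adjoint inverse -/
def ai (hF : Fintype.card F = q ^ 2) (a : Matrix.SpecialLinearGroup (Fin d) F) : Matrix (Fin d) (Fin d) F :=
  ((a⁻¹ : Matrix.SpecialLinearGroup (Fin d) F).1.map (conj hF))ᵀ

theorem ai_one (hF : Fintype.card F = q ^ 2) : ai hF (1 : Matrix.SpecialLinearGroup (Fin d) F) = 1 := by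
  unfold ai
  rw [inv_one, Matrix.SpecialLinearGroup.coe_one, Matrix.map_one _ (map_zero _) (map_one _), Matrix.transpose_one]

theorem ai_mul (hF : Fintype.card F = q ^ 2) (a c : Matrix.SpecialLinearGroup (Fin d) F) :
    ai hF (a * c) = ai hF a * ai hF c := by
  unfold ai
  rw [_root_.mul_inv_rev, Matrix.SpecialLinearGroup.coe_mul, Matrix.map_mul, Matrix.transpose_mul]

theorem det_ai (hF : Fintype.card F = q ^ 2) (a : Matrix.SpecialLinearGroup (Fin d) F) : (ai hF a).det = 1 := by
  unfold ai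
  rw [Matrix.det_transpose]
  have h1 := RingHom.map_det (conj hF : F →+* F) (a⁻¹ : Matrix.SpecialLinearGroup (Fin d) F).1
  rw [Matrix.SpecialLinearGroup.det_coe, map_one] at h1
  exact h1.symm

theorem ai_dot (hF : Fintype.card F = q ^ 2) (a : Matrix.SpecialLinearGroup (Fin d) F) (c e : Fin d → F) :
    (a.1 *ᵥ c) ⬝ᵥ (fun i => conj hF ((ai hF a *ᵥ e) i)) = c ⬝ᵥ (fun i => conj hF (e i)) := by
  have h1 : (fun i => conj hF ((ai hF a *ᵥ e) i)) =
      ((a⁻¹ : Matrix.SpecialLinearGroup (Fin d) F).1)ᵀ *ᵥ (fun i => conj hF (e i)) := by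
    funext i
    rw [Matrix.mulVec, Matrix.mulVec, dotProduct, dotProduct, map_sum]
    refine Finset.sum_congr rfl fun j _ => ?_
    rw [map_mul]
    congr 1
    unfold ai
    rw [Matrix.transpose_apply, Matrix.map_apply, Matrix.transpose_apply, conj_apply, conj_apply, pow_q_pow_q hF]
  rw [h1, Matrix.dotProduct_mulVec, ← Matrix.mulVec_transpose, Matrix.transpose_transpose, mulVec_mulVec]
  have h2 : (a⁻¹ : Matrix.SpecialLinearGroup (Fin d) F).1 * a.1 = 1 := by
    rw [← Matrix.SpecialLinearGroup.coe_mul, inv_mul_cancel, Matrix.SpecialLinearGroup.coe_one]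
  rw [h2, one_mulVec]

theorem ai_dot' (hF : Fintype.card F = q ^ 2) (a : Matrix.SpecialLinearGroup (Fin d) F) (c e : Fin d → F) :
    (ai hF a *ᵥ c) ⬝ᵥ (fun i => conj hF ((a.1 *ᵥ e) i)) = c ⬝ᵥ (fun i => conj hF (e i)) := by
  have h1 := ai_dot hF a e c
  have h2 : ∀ u v : Fin d → F, conj hF (u ⬝ᵥ fun i => conj hF (v i)) = v ⬝ᵥ fun i => conj hF (u i) := by
    intro u v
    rw [dotProduct, map_sum]
    refine Finset.sum_congr rfl fun i _ => ?_
    rw [map_mul, mul_comm]
    congr 1
    rw [conj_apply, conj_apply, pow_q_pow_q hF]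
  rw [← h2, h1, h2]

/-- the matrix of `kap a` -/
def kM (hF : Fintype.card F = q ^ 2) (b b' : Fin d → (Fin n → F)) (a : Matrix.SpecialLinearGroup (Fin d) F) :
    Matrix (Fin n) (Fin n) F :=
  Matrix.fromCols (Im b) (Im b') * Matrix.fromBlocks a.1 0 0 (ai hF a) * Matrix.fromRows (Pm q b') (Pm q b)

theorem kM_mulVec (hF : Fintype.card F = q ^ 2) (h : DB q b b') (a : Matrix.SpecialLinearGroup (Fin d) F)
    (c c' : Fin d → F) :
    kM hF b b' a *ᵥ (Im b *ᵥ c + Im b' *ᵥ c') = Im b *ᵥ (a.1 *ᵥ c) + Im b' *ᵥ (ai hF a *ᵥ c') := by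
  unfold kM
  rw [← mulVec_mulVec, ← mulVec_mulVec, Matrix.fromRows_mulVec, h.coord, h.coord', Matrix.fromBlocks_mulVec,
    Matrix.fromCols_mulVec]
  simp

theorem kM_det (hF : Fintype.card F = q ^ 2) (h : DB q b b') (a : Matrix.SpecialLinearGroup (Fin d) F) :
    (kM hF b b' a).det = 1 := by
  unfold kM
  rw [Matrix.det_conj_of_mul_eq_one, Matrix.det_fromBlocks_zero₂₁, Matrix.SpecialLinearGroup.det_coe, det_ai, mul_one]
  · rw [Matrix.fromCols_mul_fromRows, h.m5]
  · rw [Matrix.fromRows_mul_fromCols, h.m1, h.m2, h.m3, h.m4, Matrix.fromBlocks_one]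

theorem kM_iso (hF : Fintype.card F = q ^ 2) (h : DB q b b') (a : Matrix.SpecialLinearGroup (Fin d) F) (u v : Fin n → F) :
    hermForm n F q (kM hF b b' a *ᵥ u) (kM hF b b' a *ᵥ v) = hermForm n F q u v := by
  obtain ⟨c, c', rfl⟩ := h.span u
  obtain ⟨e, e', rfl⟩ := h.span v
  rw [kM_mulVec hF h, kM_mulVec hF h, h.herm hF, h.herm hF, ai_dot, ai_dot']

/-- `SL(W) → SU(V)` -/
def kap (hF : Fintype.card F = q ^ 2) (h : DB q b b') : Matrix.SpecialLinearGroup (Fin d) F →* SU n F q where
  toFun a := mkSU (kM hF b b' a) (kM_det hF h a) (kM_iso hF h a)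
  map_one' := by
    apply ext_act
    intro v
    show kM hF b b' 1 *ᵥ v = _
    obtain ⟨c, c', rfl⟩ := h.span v
    rw [kM_mulVec hF h, ai_one, Matrix.SpecialLinearGroup.coe_one, one_mulVec, one_mulVec, act_one]
  map_mul' a a' := by
    apply ext_act
    intro v
    rw [act_mul]
    show kM hF b b' (a * a') *ᵥ v = kM hF b b' a *ᵥ (kM hF b b' a' *ᵥ v)
    obtain ⟨c, c', rfl⟩ := h.span v
    rw [kM_mulVec hF h, kM_mulVec hF h, kM_mulVec hF h, ai_mul, Matrix.SpecialLinearGroup.coe_mul]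
    simp only [mulVec_mulVec, Matrix.mul_assoc]

theorem act_kap (hF : Fintype.card F = q ^ 2) (h : DB q b b') (a : Matrix.SpecialLinearGroup (Fin d) F) (c c' : Fin d → F) :
    act (kap hF h a) (Im b *ᵥ c + Im b' *ᵥ c') = Im b *ᵥ (a.1 *ᵥ c) + Im b' *ᵥ (ai hF a *ᵥ c') := kM_mulVec hF h a c c'

theorem act_kap_W (hF : Fintype.card F = q ^ 2) (h : DB q b b') (a : Matrix.SpecialLinearGroup (Fin d) F) (c : Fin d → F) :
    act (kap hF h a) (Im b *ᵥ c) = Im b *ᵥ (a.1 *ᵥ c) := by
  have h1 := act_kap hF h a c 0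
  rwa [mulVec_zero, mulVec_zero, mulVec_zero, add_zero, add_zero] at h1

theorem act_kap_W' (hF : Fintype.card F = q ^ 2) (h : DB q b b') (a : Matrix.SpecialLinearGroup (Fin d) F) (c : Fin d → F) :
    act (kap hF h a) (Im b' *ᵥ c) = Im b' *ᵥ (ai hF a *ᵥ c) := by
  have h1 := act_kap hF h a 0 c
  rwa [mulVec_zero, mulVec_zero, mulVec_zero, zero_add, zero_add] at h1

end

end Cfsg.Agent.H452.RC
end

-- part: H452/RC/SLWDb
section
/-!
# Dual bases of complementary totally singular subspaces (helper452)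

* `decomp_ts` : `V = W ⊕ W'`; `exists_db`.
-/

set_option autoImplicit false
set_option linter.unusedSectionVars false

namespace Cfsg.Agent.H452.RC

open Matrix Cfsg Module Cfsg.Agent.LieClassical.HermBasic Cfsg.Agent.LieClassical.HermSiegel
open Cfsg.Agent.H380.RC
open Cfsg.Agent.H189.SN (Im Pm Im_mulVec Pm_mulVec)

variable {F : Type*} [Field F] [Fintype F] {n d q : ℕ}

theorem eq_sum_compl {W W' : Submodule F (Fin n → F)} (hc : IsCompl W W') (v : Fin n → F) :
    ∃ w ∈ W, ∃ w' ∈ W', v = w + w' := by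
  have h1 : v ∈ W ⊔ W' := by rw [hc.sup_eq_top]; trivial
  obtain ⟨w, hw, w', hw', h⟩ := Submodule.mem_sup.1 h1
  exact ⟨w, hw, w', hw', h.symm⟩

/-- a vector of `W'` orthogonal to `W` is zero -/
theorem eq_zero_of_perp (hF : Fintype.card F = q ^ 2) {W W' : Submodule F (Fin n → F)} (hW' : TS q W')
    (hc : IsCompl W W') {u : Fin n → F} (hu : u ∈ W') (h : ∀ w ∈ W, hermForm n F q u w = 0) : u = 0 := by
  apply herm_nondeg hF
  intro v
  obtain ⟨w, hw, w', hw', rfl⟩ := eq_sum_compl hc v
  rw [herm_add_right hF, h w hw, hW' u hu w' hw', add_zero]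

theorem exists_db (hF : Fintype.card F = q ^ 2) {W W' : Submodule F (Fin n → F)} (hW : TS q W) (hW' : TS q W')
    (hc : IsCompl W W') (hd : finrank F W = d) :
    ∃ b b' : Fin d → (Fin n → F), DB q b b' ∧ (∀ c, Im b *ᵥ c ∈ W) ∧ (∀ v ∈ W, ∃ c, v = Im b *ᵥ c) ∧
      (∀ c, Im b' *ᵥ c ∈ W') ∧ ∀ v ∈ W', ∃ c, v = Im b' *ᵥ c := by
  classical
  let B : Basis (Fin d) F W := finBasisOfFinrankEq F W hd
  let b : Fin d → (Fin n → F) := fun i => (B i : Fin n → F)
  let L : Fin d → ((Fin n → F) →ₗ[F] F) := fun j => (B.coord j) ∘ₗ (Submodule.projectionOnto W W' hc)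
  have hL1 : ∀ j, ∀ w' ∈ W', L j w' = 0 := by
    intro j w' hw'
    show B.coord j (Submodule.projectionOnto W W' hc w') = 0
    rw [(Submodule.projectionOnto_apply_eq_zero_iff hc).2 hw', map_zero]
  have hL2 : ∀ i j, L j (b i) = if i = j then 1 else 0 := by
    intro i j
    show B.coord j (Submodule.projectionOnto W W' hc (B i : Fin n → F)) = _
    rw [Submodule.projectionOnto_apply_left, Basis.coord_apply, Basis.repr_self, Finsupp.single_apply]
  choose b' hb' using fun j => exists_rep hF (L j)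
  have hmem : ∀ j, b' j ∈ W' := by
    intro j
    obtain ⟨u, hu, u', hu', h⟩ := eq_sum_compl hc (b' j)
    have h1 : u = 0 := by
      refine eq_zero_of_perp hF hW hc.symm hu fun w' hw' => ?_
      apply herm_eq_zero_swap hF
      have h2 := hb' j w'
      rw [hL1 j w' hw', h, herm_add_right hF, hW' w' hw' u' hu', add_zero] at h2
      exact h2
    rw [h, h1, zero_add]
    exact hu'
  have hbm : ∀ i, b i ∈ W := fun i => (B i).2
  have hspanW : ∀ v ∈ W, ∃ c, v = Im b *ᵥ c := by
    intro v hv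
    refine ⟨fun i => B.repr ⟨v, hv⟩ i, ?_⟩
    rw [Im_mulVec]
    have h1 := congrArg Subtype.val (B.sum_repr ⟨v, hv⟩)
    rw [Submodule.coe_sum] at h1
    exact h1.symm
  have hmemW : ∀ c, Im b *ᵥ c ∈ W := fun c => by
    rw [Im_mulVec]
    exact W.sum_mem fun i _ => W.smul_mem _ (hbm i)
  have hmemW' : ∀ c, Im b' *ᵥ c ∈ W' := fun c => by
    rw [Im_mulVec]
    exact W'.sum_mem fun i _ => W'.smul_mem _ (hmem i)
  have hdu : ∀ i j, hermForm n F q (b i) (b' j) = if i = j then 1 else 0 := fun i j => by rw [hb', hL2]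
  have hdu' : ∀ i j, hermForm n F q (b' i) (b j) = if i = j then 1 else 0 := by
    intro i j
    rw [herm_swap hF, hdu]
    by_cases h : i = j
    · rw [if_pos h.symm, if_pos h, one_pow]
    · rw [if_neg fun h1 => h h1.symm, if_neg h, zero_pow_q hF]
  have hspanW' : ∀ v ∈ W', ∃ c, v = Im b' *ᵥ c := by
    intro v hv
    refine ⟨fun j => hermForm n F q v (b j), ?_⟩
    rw [← sub_eq_zero]
    refine eq_zero_of_perp hF hW' hc (W'.sub_mem hv (hmemW' _)) fun w hw => ?_
    obtain ⟨c, rfl⟩ := hspanW w hw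
    rw [Im_mulVec b c, herm_sum_right hF]
    refine Finset.sum_eq_zero fun i _ => ?_
    rw [herm_smul_right, herm_sub_left, Im_mulVec, herm_sum_left]
    simp only [herm_smul_left, hdu', mul_ite, mul_one, mul_zero]
    rw [Finset.sum_ite_eq' Finset.univ i, if_pos (Finset.mem_univ i), sub_self, mul_zero]
  refine ⟨b, b', ⟨fun i j => hW _ (hbm i) _ (hbm j), fun i j => hW' _ (hmem i) _ (hmem j), hdu, hdu', fun v => ?_⟩,
    hmemW, hspanW, hmemW', hspanW'⟩
  obtain ⟨w, hw, w', hw', rfl⟩ := eq_sum_compl hc v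
  obtain ⟨c, rfl⟩ := hspanW w hw
  obtain ⟨c', rfl⟩ := hspanW' w' hw'
  exact ⟨c, c', rfl⟩

end Cfsg.Agent.H452.RC
end

-- part: H452/RC/LiftComm
section
/-!
# S3510, family E: conjugates of a homomorphism `P →* SU`; commuting modulo the centre (helper452)

* `exists_conj_hom` : `f (act (κ p) v) = act (S p) (f v)` with a homomorphism `S`;
* `lift_comm` : `P` perfect, `x` commutes with all `el (κ p)` : the lift `f` commutes with all `act (κ p)`.
-/

set_option autoImplicit false
set_option linter.unusedSectionVars false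

namespace Cfsg.Agent.H452.RC

open Matrix Cfsg Module Cfsg.Agent.LieClassical.HermBasic Cfsg.Agent.LieClassical.HermSiegel
open Cfsg.Agent.H380.RC
open scoped commutatorElement

theorem comm_central {H : Type*} [Group H] {z w : H} (hz : z ∈ Subgroup.center H) (hw : w ∈ Subgroup.center H)
    (u v : H) : ⁅z * u, w * v⁆ = ⁅u, v⁆ := by
  rw [Subgroup.mem_center_iff] at hz hw
  rw [commutatorElement_def, commutatorElement_def]
  calc z * u * (w * v) * (z * u)⁻¹ * (w * v)⁻¹ = z * (u * w) * v * u⁻¹ * z⁻¹ * v⁻¹ * w⁻¹ := by group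
    _ = z * (w * u) * v * u⁻¹ * z⁻¹ * v⁻¹ * w⁻¹ := by rw [hw u]
    _ = (z * (w * (u * v * u⁻¹))) * z⁻¹ * v⁻¹ * w⁻¹ := by group
    _ = ((w * (u * v * u⁻¹)) * z) * z⁻¹ * v⁻¹ * w⁻¹ := by rw [hz (w * (u * v * u⁻¹))]
    _ = (w * (u * v * u⁻¹ * v⁻¹)) * w⁻¹ := by group
    _ = ((u * v * u⁻¹ * v⁻¹) * w) * w⁻¹ := by rw [hw (u * v * u⁻¹ * v⁻¹)]
    _ = u * v * u⁻¹ * v⁻¹ := by group

variable {G Ω : Type*} [Group G] [MulAction G Ω] {N : Subgroup G} {F : Type*} [Field F] [Fintype F] {n q : ℕ}
  {U : UEnv G Ω N F n q} {P : Type*} [Group P]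

/-- the conjugate of a homomorphism to `SU` -/
theorem exists_conj_hom (κ : P →* SU n F q) {x : G} {f : (Fin n → F) → (Fin n → F)} (hx : U.Lft x f) :
    ∃ S : P →* SU n F q, ∀ p v, f (act (κ p) v) = act (S p) (f v) := by
  choose s hs using fun p => hx.exists_conj (κ p)
  have hsur := Ind.surjective hx
  refine ⟨{ toFun := s, map_one' := ?_, map_mul' := ?_ }, hs⟩
  · apply ext_act
    intro v
    obtain ⟨w, rfl⟩ := hsur v
    rw [← hs, map_one, act_one, act_one]
  · intro p p'
    apply ext_act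
    intro v
    obtain ⟨w, rfl⟩ := hsur v
    rw [← hs, map_mul, act_mul, act_mul, ← hs p', ← hs p]

/-- an element commuting with the image of a perfect group modulo scalars commutes with it -/
theorem lift_comm (hP : ⁅(⊤ : Subgroup P), (⊤ : Subgroup P)⁆ = ⊤) (κ : P →* SU n F q) {x : G}
    {f : (Fin n → F) → (Fin n → F)} (hx : U.Lft x f) (hc : ∀ p, x * U.el (κ p) = U.el (κ p) * x) (p : P)
    (v : Fin n → F) : f (act (κ p) v) = act (κ p) (f v) := by
  obtain ⟨S, hS⟩ := exists_conj_hom κ hx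
  have h1 : ∀ p, ∃ z ∈ Subgroup.center (SU n F q), S p = z * κ p := by
    intro p
    have h2 := hx.conj_el (hS p)
    rw [hc, mul_inv_cancel_right] at h2
    refine ⟨S p * (κ p)⁻¹, ?_, by group⟩
    rw [← U.el_eq_one, map_mul, map_inv, ← h2, mul_inv_cancel]
  have h3 : (⊤ : Subgroup P) ≤ MonoidHom.eqLocus S κ := by
    rw [← hP, Subgroup.commutator_le]
    intro a _ b _
    obtain ⟨z, hz, hza⟩ := h1 a
    obtain ⟨w, hw, hwb⟩ := h1 b
    show S ⁅a, b⁆ = κ ⁅a, b⁆
    rw [map_commutatorElement, map_commutatorElement, hza, hwb]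
    exact comm_central hz hw _ _
  have h4 : S p = κ p := h3 (Subgroup.mem_top p)
  have h5 := hS p v
  rwa [h4] at h5

end Cfsg.Agent.H452.RC
end

-- part: H452/RC/SLTr
section
/-!
# Transitivity of `SL_d(F)`, `d ≥ 2` (helper452)

* `exists_phi` : values of a functional at two independent vectors; `tv u φ` : the transvection `1 + u φᵀ`, `φ u = 0`;
* `exists_sl_map` : independent vectors are conjugate; `exists_sl_move` : `a c = c`, `a e = e + c`;
* `sl_perf` : `SL_d(F)` is perfect, `d ≥ 2`, `|F| ≥ 4`; `det_hom_eq_one`.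
-/

set_option autoImplicit false
set_option linter.unusedSectionVars false

namespace Cfsg.Agent.H452.RC

open Matrix Cfsg Module

variable {F : Type*} [Field F] {d : ℕ}

theorem exists_phi0 {c e : Fin d → F} (h : ∀ a : F, e ≠ a • c) : ∃ φ : Fin d → F, φ ⬝ᵥ c = 0 ∧ φ ⬝ᵥ e = 1 := by
  have h1 : e ∉ Submodule.span F {c} := by
    rw [Submodule.mem_span_singleton]
    rintro ⟨a, ha⟩
    exact h a ha.symm
  obtain ⟨L, hL, hLc⟩ := Submodule.exists_le_ker_of_notMem h1
  have hrep : ∀ v : Fin d → F, (fun i => L (Pi.single i 1)) ⬝ᵥ v = L v := by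
    intro v
    have h2 : v = ∑ i, v i • (Pi.single i 1 : Fin d → F) := by
      funext j
      rw [Finset.sum_apply, Finset.sum_eq_single j]
      · simp
      · intro b _ hb
        simp [hb.symm]
      · simp only [_root_.Finset.mem_univ, _root_.not_true_eq_false, _root_.Pi.smul_apply, _root_.Pi.single_eq_same, _root_.smul_eq_mul, _root_.mul_one, _root_.IsEmpty.forall_iff]
    conv_rhs => rw [h2]
    rw [map_sum]
    exact Finset.sum_congr rfl fun i _ => by rw [map_smul, smul_eq_mul, mul_comm]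
  have hc : L c = 0 := hLc (Submodule.mem_span_singleton_self c)
  refine ⟨(L e)⁻¹ • fun i => L (Pi.single i 1), ?_, ?_⟩
  · rw [smul_dotProduct, hrep, hc, smul_zero]
  · rw [smul_dotProduct, hrep, smul_eq_mul, inv_mul_cancel₀ hL]

theorem indep_symm {c e : Fin d → F} (hc : c ≠ 0) (h : ∀ a : F, e ≠ a • c) (a : F) : c ≠ a • e := by
  intro h1
  by_cases ha : a = 0
  · exact hc (by rw [h1, ha, zero_smul])
  · apply h a⁻¹
    rw [h1, smul_smul, inv_mul_cancel₀ ha, one_smul]

/-- a functional with given values at two independent vectors -/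
theorem exists_phi {c e : Fin d → F} (hc : c ≠ 0) (h : ∀ a : F, e ≠ a • c) (α β : F) :
    ∃ φ : Fin d → F, φ ⬝ᵥ c = α ∧ φ ⬝ᵥ e = β := by
  obtain ⟨φ, h1, h2⟩ := exists_phi0 h
  obtain ⟨ψ, h3, h4⟩ := exists_phi0 (indep_symm hc h)
  refine ⟨α • ψ + β • φ, ?_, ?_⟩
  · rw [add_dotProduct, smul_dotProduct, smul_dotProduct, h1, h4, smul_zero, add_zero, smul_eq_mul, mul_one]
  · rw [add_dotProduct, smul_dotProduct, smul_dotProduct, h2, h3, smul_zero, zero_add, smul_eq_mul, mul_one]

/-- transvection -/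
def tv (u φ : Fin d → F) (h : φ ⬝ᵥ u = 0) : Matrix.SpecialLinearGroup (Fin d) F :=
  ⟨1 + Matrix.replicateCol Unit u * Matrix.replicateRow Unit φ, by
    rw [Matrix.det_one_add_replicateCol_mul_replicateRow, h, add_zero]⟩

theorem tv_mulVec (u φ : Fin d → F) (h : φ ⬝ᵥ u = 0) (v : Fin d → F) : (tv u φ h).1 *ᵥ v = v + (φ ⬝ᵥ v) • u := by
  show (1 + Matrix.replicateCol Unit u * Matrix.replicateRow Unit φ) *ᵥ v = _
  rw [add_mulVec, one_mulVec, ← mulVec_mulVec]
  congr 1
  funext i
  simp only [Matrix.mulVec, dotProduct, mul_comm, _root_.Finset.univ_unique, _root_.PUnit.default_eq_unit, _root_.Matrix.replicateCol_apply, _root_.Matrix.replicateRow_apply, _root_.Finset.sum_const, _root_.Finset.card_singleton, _root_.one_smul, _root_.Pi.smul_apply, _root_.smul_eq_mul]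

theorem exists_sl_map {c e : Fin d → F} (hc : c ≠ 0) (h : ∀ a : F, e ≠ a • c) :
    ∃ a : Matrix.SpecialLinearGroup (Fin d) F, a.1 *ᵥ c = e := by
  obtain ⟨φ, h1, h2⟩ := exists_phi hc h 1 1
  refine ⟨tv (e - c) φ (by rw [dotProduct_sub, h1, h2, sub_self]), ?_⟩
  rw [tv_mulVec, h1, one_smul, add_sub_cancel]

theorem exists_sl_move {c e : Fin d → F} (h : ∀ a : F, e ≠ a • c) :
    ∃ a : Matrix.SpecialLinearGroup (Fin d) F, a.1 *ᵥ c = c ∧ a.1 *ᵥ e = e + c := by
  obtain ⟨φ, h1, h2⟩ := exists_phi0 h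
  refine ⟨tv c φ h1, ?_, ?_⟩
  · rw [tv_mulVec, h1, zero_smul, add_zero]
  · rw [tv_mulVec, h2, one_smul]

/-- `SL_d(F)` is perfect -/
theorem sl_perf [Fintype F] (hd : 2 ≤ d) (hF : 4 ≤ Fintype.card F) :
    ⁅(⊤ : Subgroup (Matrix.SpecialLinearGroup (Fin d) F)), (⊤ : Subgroup (Matrix.SpecialLinearGroup (Fin d) F))⁆ = ⊤ := by
  rw [← commutator_def]
  rcases Nat.lt_or_ge 2 d with h | h
  · exact LieClassical.SLGen.commutator_eq_top (by rw [Fintype.card_fin]; exact h)
  · have h2 : d = 2 := by omega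
    subst h2
    exact sl_perfect hF

open scoped commutatorElement in
/-- a multiplicative function on a perfect group with values in a field is trivial -/
theorem hom_eq_one {P : Type*} [Group P] (hP : ⁅(⊤ : Subgroup P), (⊤ : Subgroup P)⁆ = ⊤) (δ : P →* F) (p : P) :
    δ p = 1 := by
  have h3 : (⊤ : Subgroup P) ≤ (δ.toHomUnits).ker := by
    rw [← hP, Subgroup.commutator_le]
    intro a _ b _
    rw [MonoidHom.mem_ker, map_commutatorElement]
    exact commutatorElement_eq_one_iff_mul_comm.2 (mul_comm _ _)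
  have h4 := h3 (Subgroup.mem_top p)
  rw [MonoidHom.mem_ker] at h4
  have h5 := congrArg Units.val h4
  exact h5

end Cfsg.Agent.H452.RC
end

-- part: H452/RC/DSwapA
section
/-!
# S3510, family E: semilinear isometries preserving `{W, W'}` and the group `SL(W)` (helper452)

* `eq_kap` : an element of `SU` preserving `W`, `W'`, of determinant one on `W`, is in `SL(W)`;
* `norm_kap` : elements preserving or interchanging `W`, `W'` normalise `SL(W)`;
* `scal_of_comm` : a semilinear map preserving `W` which commutes with `SL(W)` is a scalar on `W`;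
* `herm_eq_zero` : a semilinear map `f` which commutes with `SL(W)` satisfies `h(w, f w) = 0`, `w ∈ W`;
* `scal_dual`, `comm_of_scal`.
-/

set_option autoImplicit false
set_option linter.unusedSectionVars false

namespace Cfsg.Agent.H452.RC

open Matrix Cfsg Module Cfsg.Agent.LieClassical.HermBasic Cfsg.Agent.LieClassical.HermSiegel
open Cfsg.Agent.H380.RC
open Cfsg.Agent.H189.SN (Im Pm Im_mulVec Pm_mulVec)

section stab

variable {F : Type*} [Field F] {n d q : ℕ} {b b' : Fin d → (Fin n → F)}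

theorem DB.inj1 (h : DB q b b') {c e : Fin d → F} (he : Im b *ᵥ c = Im b *ᵥ e) : c = e := by
  refine (h.inj (c' := 0) (e' := 0) ?_).1
  rw [he]

theorem DB.inj2 (h : DB q b b') {c e : Fin d → F} (he : Im b' *ᵥ c = Im b' *ᵥ e) : c = e := by
  refine (h.inj (c := 0) (e := 0) ?_).2
  rw [he]

/-- the matrix of `s` on `W` -/
def Rm (b b' : Fin d → (Fin n → F)) (s : SU n F q) : Matrix (Fin d) (Fin d) F := Pm q b' * mat s * Im b

theorem act_Rm (h : DB q b b') {s : SU n F q} (hs : ∀ c, ∃ c₁, act s (Im b *ᵥ c) = Im b *ᵥ c₁) (c : Fin d → F) :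
    act s (Im b *ᵥ c) = Im b *ᵥ (Rm b b' s *ᵥ c) := by
  obtain ⟨c₁, hc₁⟩ := hs c
  have h1 : Rm b b' s *ᵥ c = c₁ := by
    have h2 : Rm b b' s *ᵥ c = Pm q b' *ᵥ act s (Im b *ᵥ c) := by
      unfold Rm
      rw [← mulVec_mulVec, ← mulVec_mulVec]
      rfl
    have h3 := h.coord c₁ 0
    rw [mulVec_zero, add_zero] at h3
    rw [h2, hc₁, h3]
  rw [h1, hc₁]

variable {P : Type*} [Group P]

/-- the restriction of a homomorphism -/
def rmHom (h : DB q b b') (S : P →* SU n F q) (hS : ∀ p c, ∃ c₁, act (S p) (Im b *ᵥ c) = Im b *ᵥ c₁) :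
    P →* Matrix (Fin d) (Fin d) F where
  toFun p := Rm b b' (S p)
  map_one' := by
    unfold Rm
    rw [map_one, mat_one, Matrix.mul_one, h.m1]
  map_mul' p p' := by
    apply ext_of_mulVec_single
    intro i
    apply h.inj1
    rw [← act_Rm h (hS _), map_mul, act_mul, act_Rm h (hS _), act_Rm h (hS _), mulVec_mulVec (Pi.single i 1)]

theorem det_Rm (hP : ⁅(⊤ : Subgroup P), (⊤ : Subgroup P)⁆ = ⊤) (h : DB q b b') (S : P →* SU n F q)
    (hS : ∀ p c, ∃ c₁, act (S p) (Im b *ᵥ c) = Im b *ᵥ c₁) (p : P) : (Rm b b' (S p)).det = 1 :=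
  hom_eq_one hP (Matrix.detMonoidHom.comp (rmHom h S hS)) p

variable [Fintype F]

/-- an element of `SU` preserving `W`, `W'`, of determinant one on `W`, is in `SL(W)` -/
theorem eq_kap (hF : Fintype.card F = q ^ 2) (h : DB q b b') {s : SU n F q}
    (h1 : ∀ c, ∃ c₁, act s (Im b *ᵥ c) = Im b *ᵥ c₁) (h2 : ∀ c, ∃ c₁, act s (Im b' *ᵥ c) = Im b' *ᵥ c₁)
    (hdet : (Rm b b' s).det = 1) : s = kap hF h ⟨Rm b b' s, hdet⟩ := by
  set a : Matrix.SpecialLinearGroup (Fin d) F := ⟨Rm b b' s, hdet⟩ with ha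
  have hW : ∀ c, act s (Im b *ᵥ c) = act (kap hF h a) (Im b *ᵥ c) := by
    intro c
    rw [act_Rm h h1, act_kap_W]
  have hW' : ∀ c, act s (Im b' *ᵥ c) = act (kap hF h a) (Im b' *ᵥ c) := by
    intro c
    obtain ⟨c₁, hc₁⟩ := h2 c
    rw [hc₁, act_kap_W']
    congr 1
    have h3 : ∀ e : Fin d → F, hermForm n F q (Im b' *ᵥ c₁) (Im b *ᵥ e) =
        hermForm n F q (Im b' *ᵥ (ai hF a *ᵥ c)) (Im b *ᵥ e) := by
      intro e
      have h4 : e = a.1 *ᵥ ((a⁻¹ : Matrix.SpecialLinearGroup (Fin d) F).1 *ᵥ e) := by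
        rw [mulVec_mulVec, ← Matrix.SpecialLinearGroup.coe_mul, mul_inv_cancel, Matrix.SpecialLinearGroup.coe_one,
          one_mulVec]
      rw [h4, ← act_kap_W hF h, ← act_kap_W' hF h, herm_act, ← hW, ← hc₁, herm_act]
    funext i
    have h5 := h3 (Pi.single i 1)
    have h6 := h.herm hF 0 c₁ (Pi.single i 1) 0
    have h7 := h.herm hF 0 (ai hF a *ᵥ c) (Pi.single i 1) 0
    simp only [mulVec_zero, zero_add, add_zero, zero_dotProduct, Pi.zero_apply, map_zero] at h6 h7
    rw [h6, h7] at h5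
    have h8 : (fun j => conj hF ((Pi.single i (1 : F) : Fin d → F) j)) = Pi.single i 1 := by
      funext j
      by_cases hij : j = i
      · subst hij
        rw [Pi.single_eq_same, map_one]
      · rw [Pi.single_eq_of_ne hij, map_zero]
    rw [h8, dotProduct_single, dotProduct_single, mul_one, mul_one] at h5
    exact h5
  apply ext_act
  intro v
  obtain ⟨c, c', rfl⟩ := h.span v
  rw [act_add, act_add, hW, hW']

end stab

section norm

variable {G Ω : Type*} [Group G] [MulAction G Ω] {N : Subgroup G} {F : Type*} [Field F] [Fintype F] {n d q : ℕ}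
  {U : UEnv G Ω N F n q} {b b' : Fin d → (Fin n → F)}

/-- an injective map between finite spaces -/
theorem exists_pre {u w : Fin d → (Fin n → F)} (hu : ∀ c e, Im u *ᵥ c = Im u *ᵥ e → c = e)
    {f : (Fin n → F) → (Fin n → F)} (hf : Function.Injective f) (hfu : ∀ c, ∃ c₁, f (Im u *ᵥ c) = Im w *ᵥ c₁)
    (c : Fin d → F) : ∃ e, f (Im u *ᵥ e) = Im w *ᵥ c := by
  choose g hg using hfu
  have h1 : Function.Injective g := by
    intro c e hce
    apply hu
    apply hf
    rw [hg, hg, hce]
  obtain ⟨e, he⟩ := (Finite.injective_iff_surjective.1 h1) c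
  exact ⟨e, by rw [hg, he]⟩

/-- elements preserving or interchanging `W`, `W'` normalise `SL(W)` -/
theorem norm_kap (hd : 2 ≤ d) (h : DB q b b') {x : G} {f : (Fin n → F) → (Fin n → F)} (hx : U.Lft x f)
    (hf : ((∀ c, ∃ c₁, f (Im b *ᵥ c) = Im b *ᵥ c₁) ∧ ∀ c, ∃ c₁, f (Im b' *ᵥ c) = Im b' *ᵥ c₁) ∨
      ((∀ c, ∃ c₁, f (Im b *ᵥ c) = Im b' *ᵥ c₁) ∧ ∀ c, ∃ c₁, f (Im b' *ᵥ c) = Im b *ᵥ c₁))
    (p : Matrix.SpecialLinearGroup (Fin d) F) :
    ∃ p', x * U.el (kap U.hF h p) * x⁻¹ = U.el (kap U.hF h p') := by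
  have hF4 : 4 ≤ Fintype.card F := by
    rw [U.hF]
    have := two_le U.hF
    nlinarith
  obtain ⟨S, hS⟩ := exists_conj_hom (kap U.hF h) hx
  have hinj := Ind.injective hx
  have key : ∀ u w : Fin d → (Fin n → F), (∀ c e, Im u *ᵥ c = Im u *ᵥ e → c = e) →
      (∀ c, ∃ c₁, f (Im u *ᵥ c) = Im w *ᵥ c₁) →
      (∀ p c, ∃ c₁, act (kap U.hF h p) (Im u *ᵥ c) = Im u *ᵥ c₁) →
      ∀ p c, ∃ c₁, act (S p) (Im w *ᵥ c) = Im w *ᵥ c₁ := by
    intro u w hu hfu hk p c
    obtain ⟨e, he⟩ := exists_pre hu hinj hfu c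
    obtain ⟨e', he'⟩ := hk p e
    rw [← he, ← hS, he']
    exact hfu e'
  have k1 : ∀ p c, ∃ c₁, act (kap U.hF h p) (Im b *ᵥ c) = Im b *ᵥ c₁ := fun p c => ⟨_, act_kap_W U.hF h p c⟩
  have k2 : ∀ p c, ∃ c₁, act (kap U.hF h p) (Im b' *ᵥ c) = Im b' *ᵥ c₁ := fun p c => ⟨_, act_kap_W' U.hF h p c⟩
  have hSW : (∀ p c, ∃ c₁, act (S p) (Im b *ᵥ c) = Im b *ᵥ c₁) ∧ ∀ p c, ∃ c₁, act (S p) (Im b' *ᵥ c) = Im b' *ᵥ c₁ := by
    rcases hf with ⟨h1, h2⟩ | ⟨h1, h2⟩
    · exact ⟨key b b (fun c e => h.inj1) h1 k1, key b' b' (fun c e => h.inj2) h2 k2⟩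
    · exact ⟨key b' b (fun c e => h.inj2) h2 k2, key b b' (fun c e => h.inj1) h1 k1⟩
  have hdet := det_Rm (sl_perf hd hF4) h S hSW.1 p
  refine ⟨⟨_, hdet⟩, ?_⟩
  rw [← eq_kap U.hF h (hSW.1 p) (hSW.2 p) hdet]
  exact hx.conj_el (hS p)

end norm

section comm

variable {F : Type*} [Field F] [Fintype F] {n d q : ℕ} {b b' : Fin d → (Fin n → F)} {f : (Fin n → F) → (Fin n → F)}

theorem exists_indep (hd : 2 ≤ d) (c : Fin d → F) : ∃ e : Fin d → F, ∀ a : F, e ≠ a • c := by
  let i : Fin d := ⟨0, by omega⟩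
  let j : Fin d := ⟨1, by omega⟩
  have hij : i ≠ j := by
    intro h
    have := congrArg Fin.val h
    simp [i, j] at this
  by_contra hcon
  push Not at hcon
  obtain ⟨a, ha⟩ := hcon (Pi.single i 1)
  obtain ⟨a', ha'⟩ := hcon (Pi.single j 1)
  have e1 := congrFun ha i
  have e2 := congrFun ha j
  have e3 := congrFun ha' i
  have e4 := congrFun ha' j
  rw [Pi.single_eq_same, Pi.smul_apply, smul_eq_mul] at e1 e4
  rw [Pi.single_eq_of_ne hij.symm, Pi.smul_apply, smul_eq_mul] at e2
  rcases mul_eq_zero.1 e2.symm with h | h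
  · rw [h, zero_mul] at e1
    exact one_ne_zero e1
  · rw [h, mul_zero] at e4
    exact one_ne_zero e4

/-- a semilinear map preserving `W` which commutes with `SL(W)` is a scalar on `W` -/
theorem scal_of_comm (hF : Fintype.card F = q ^ 2) (hd : 2 ≤ d) (h : DB q b b')
    (hadd : ∀ v w, f (v + w) = f v + f w)
    (hcomm : ∀ a v, f (act (kap hF h a) v) = act (kap hF h a) (f v)) (hst : ∀ c, ∃ c₁, f (Im b *ᵥ c) = Im b *ᵥ c₁) :
    ∃ l : F, ∀ c, f (Im b *ᵥ c) = l • (Im b *ᵥ c) := by
  have hf0 : f 0 = 0 := by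
    have := hadd 0 0
    rw [add_zero] at this
    simpa using this
  choose g hg using hst
  have hgadd : ∀ c e, g (c + e) = g c + g e := by
    intro c e
    apply h.inj1
    rw [← hg, mulVec_add, mulVec_add, hadd, hg, hg]
  have h1 : ∀ c, ∃ l : F, g c = l • c := by
    intro c
    by_contra hcon
    push Not at hcon
    obtain ⟨a, ha1, ha2⟩ := exists_sl_move hcon
    have h2 := hcomm a (Im b *ᵥ c)
    rw [act_kap_W, ha1, hg, act_kap_W, ha2] at h2
    have h3 := h.inj1 h2
    have h4 : c = 0 := by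
      have h5 : g c + 0 = g c + c := by rw [add_zero]; exact h3
      exact (add_left_cancel h5).symm
    apply hcon 0
    rw [zero_smul]
    apply h.inj1
    rw [← hg, h4, mulVec_zero, hf0]
  choose l hl using h1
  have h2 : ∀ c e : Fin d → F, c ≠ 0 → (∀ a : F, e ≠ a • c) → l c = l e := by
    intro c e hc hce
    have h3 := hgadd c e
    rw [hl, hl, hl, smul_add] at h3
    have h4 : (l (c + e) - l e) • e = (l c - l (c + e)) • c := by
      rw [sub_smul, sub_smul, sub_eq_sub_iff_add_eq_add, add_comm (l (c + e) • e), h3]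
    have h5 : l (c + e) - l e = 0 := by
      by_contra h6
      apply hce ((l (c + e) - l e)⁻¹ * (l c - l (c + e)))
      rw [mul_smul, ← h4, smul_smul, inv_mul_cancel₀ h6, one_smul]
    rw [h5, zero_smul] at h4
    rcases smul_eq_zero.1 h4.symm with h6 | h6
    · rw [← sub_eq_zero.1 h5, sub_eq_zero.1 h6]
    · exact absurd h6 hc
  obtain ⟨u, hu⟩ := exists_indep hd (0 : Fin d → F)
  have hu0 : u ≠ 0 := by
    have := hu 0
    rwa [zero_smul] at this
  obtain ⟨w, hw⟩ := exists_indep hd u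
  have hw0 : w ≠ 0 := by
    have := hw 0
    rwa [zero_smul] at this
  refine ⟨l u, fun c => ?_⟩
  rw [hg, hl, mulVec_smul]
  by_cases hc : c = 0
  · rw [hc, mulVec_zero, smul_zero, smul_zero]
  · congr 1
    by_cases h3 : ∀ a : F, c ≠ a • u
    · exact (h2 u c hu0 h3).symm
    · push Not at h3
      obtain ⟨a, ha⟩ := h3
      -- `c` is a multiple of `u`, so independent of `w`
      have h4 : ∀ a' : F, w ≠ a' • c := by
        intro a' h5
        apply hw (a' * a)
        rw [h5, ha, smul_smul]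
      rw [h2 c w hc h4, h2 u w hu0 hw]

/-- a semilinear map `f` which commutes with `SL(W)` satisfies `h(w, f w) = 0`, `w ∈ W` -/
theorem herm_eq_zero (hF : Fintype.card F = q ^ 2) (hd : 2 ≤ d) (h : DB q b b')
    (hadd : ∀ v w, f (v + w) = f v + f w)
    (hcomm : ∀ a v, f (act (kap hF h a) v) = act (kap hF h a) (f v)) (c : Fin d → F) :
    hermForm n F q (Im b *ᵥ c) (f (Im b *ᵥ c)) = 0 := by
  have hf0 : f 0 = 0 := by
    have := hadd 0 0
    rw [add_zero] at this
    simpa using this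
  set! Q : (Fin d → F) → F := fun c => hermForm n F q (Im b *ᵥ c) (f (Im b *ᵥ c)) with hQ
  show Q c = 0
  have h1 : ∀ (a : Matrix.SpecialLinearGroup (Fin d) F) c, Q (a.1 *ᵥ c) = Q c := by
    intro a c
    simp only [hQ]
    rw [← act_kap_W hF h, hcomm, herm_act]
  have h2 : ∀ c e : Fin d → F, c ≠ 0 → (∀ a : F, e ≠ a • c) → Q e = Q c := by
    intro c e hc hce
    obtain ⟨a, ha⟩ := exists_sl_map hc hce
    rw [← ha, h1]
  by_contra h0
  have hc0 : c ≠ 0 := by
    rintro rfl
    apply h0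
    simp only [hQ]
    rw [mulVec_zero, herm_zero_left]
  obtain ⟨w, hw⟩ := exists_indep hd c
  have hw0 : w ≠ 0 := by
    have := hw 0
    rwa [zero_smul] at this
  have h3 : ∀ e, e ≠ 0 → Q e = Q c := by
    intro e he
    by_cases h4 : ∀ a : F, e ≠ a • c
    · exact h2 c e hc0 h4
    · push Not at h4
      obtain ⟨a, ha⟩ := h4
      have h5 : ∀ a' : F, w ≠ a' • e := by
        intro a' h6
        apply hw (a' * a)
        rw [h6, ha, smul_smul]
      rw [← h2 e w he h5, h2 c w hc0 hw]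
  set! S : (Fin d → F) → F := fun u => hermForm n F q (Im b *ᵥ u) (f (Im b *ᵥ c)) +
    hermForm n F q (Im b *ᵥ c) (f (Im b *ᵥ u)) with hS
  have hSadd : ∀ u v, S (u + v) = S u + S v := by
    intro u v
    simp only [hS]
    rw [mulVec_add, hadd, herm_add_left, herm_add_right hF]
    ring
  have hSval : ∀ a : F, a ≠ 0 → S (a • w) = -Q c := by
    intro a ha
    have e1 : a • w ≠ 0 := smul_ne_zero ha hw0
    have e2 : a • w + c ≠ 0 := by
      intro h5
      apply hw (-a⁻¹)
      have h6 : a • w = -c := eq_neg_of_add_eq_zero_left h5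
      have h7 : a⁻¹ • (a • w) = a⁻¹ • (-c) := by rw [h6]
      rw [smul_smul, inv_mul_cancel₀ ha, one_smul] at h7
      rw [h7, smul_neg, neg_smul]
    have e3 : Q (a • w + c) = Q (a • w) + Q c + S (a • w) := by
      simp only [hQ, hS]
      rw [mulVec_add, hadd, herm_add_left, herm_add_right hF, herm_add_right hF]
      ring
    rw [h3 _ e2, h3 _ e1] at e3
    linear_combination -e3
  have hF4 : 4 ≤ Fintype.card F := by
    rw [hF]
    have := two_le hF
    nlinarith only [this]
  obtain ⟨μ, hμ0, hμ1⟩ : ∃ μ : F, μ ≠ 0 ∧ 1 + μ ≠ 0 := by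
    classical
    have h5 : ({0, -1} : Finset F).card < (Finset.univ : Finset F).card := by
      rw [Finset.card_univ]
      exact lt_of_le_of_lt Finset.card_le_two (by omega)
    obtain ⟨μ, hμ⟩ := Finset.exists_mem_notMem_of_card_lt_card h5
    have h6 := hμ.2
    simp only [Finset.mem_insert, Finset.mem_singleton, not_or] at h6
    exact ⟨μ, h6.1, fun h7 => h6.2 (by linear_combination h7)⟩
  have k1 := hSval 1 one_ne_zero
  have k2 := hSval μ hμ0
  have k3 := hSval (1 + μ) hμ1
  rw [add_smul, hSadd, k1, k2] at k3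
  apply h0
  linear_combination -k3

/-- a semilinear isometry which is a scalar on `W` and preserves `W'` is a scalar on `W'` -/
theorem scal_dual (hF : Fintype.card F = q ^ 2) (hd : 0 < d) (h : DB q b b') (hinj : Function.Injective f) {ρ : F ≃+* F}
    (hs : ∀ (a : F) v, f (a • v) = ρ a • f v) (hh : ∀ u v, hermForm n F q (f u) (f v) = ρ (hermForm n F q u v))
    {l : F} (hl : ∀ c, f (Im b *ᵥ c) = l • (Im b *ᵥ c)) (hst : ∀ c, ∃ c₁, f (Im b' *ᵥ c) = Im b' *ᵥ c₁) :
    ∃ l' : F, l * l' ^ q = 1 ∧ (∀ c, f (Im b' *ᵥ c) = l' • (Im b' *ᵥ c)) ∧ ∀ a, ρ a = a := by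
  have he0 : (Pi.single (⟨0, hd⟩ : Fin d) (1 : F) : Fin d → F) ≠ 0 := by
    intro h1
    have h2 := congrFun h1 ⟨0, hd⟩
    rw [Pi.single_eq_same] at h2
    exact one_ne_zero h2
  set e0 : Fin d → F := Pi.single ⟨0, hd⟩ 1
  have hf0 : f 0 = 0 := by
    have := hs 0 0
    rwa [zero_smul, map_zero, zero_smul] at this
  have hl0 : l ≠ 0 := by
    rintro rfl
    have h1 := hl e0
    rw [zero_smul, ← hf0] at h1
    apply he0
    apply h.inj1
    rw [hinj h1, mulVec_zero]
  have hρ : ∀ a, ρ a = a := by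
    intro a
    have h1 := hl (a • e0)
    rw [mulVec_smul, hs, hl, smul_smul, smul_smul, ← mulVec_smul, ← mulVec_smul] at h1
    have h2 := congrFun (h.inj1 h1) ⟨0, hd⟩
    simp only [e0, Pi.smul_apply, Pi.single_eq_same, smul_eq_mul, mul_one] at h2
    rw [mul_comm] at h2
    exact mul_left_cancel₀ hl0 h2
  refine ⟨(l⁻¹) ^ q, by rw [pow_q_pow_q hF, mul_inv_cancel₀ hl0], fun c => ?_, hρ⟩
  obtain ⟨c₁, hc₁⟩ := hst c
  rw [hc₁, ← mulVec_smul]
  congr 1
  funext i
  have h1 := hh (Im b *ᵥ Pi.single i 1) (Im b' *ᵥ c)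
  rw [hρ, hl, hc₁, herm_smul_left] at h1
  have h6 := h.herm hF (Pi.single i 1) 0 0 c₁
  have h7 := h.herm hF (Pi.single i 1) 0 0 c
  simp only [mulVec_zero, zero_add, add_zero, zero_dotProduct, single_dotProduct, one_mul] at h6 h7
  rw [h6, h7] at h1
  have h8 : conj hF (c₁ i) = l⁻¹ * conj hF (c i) := by
    rw [← h1, ← mul_assoc, inv_mul_cancel₀ hl0, one_mul]
  have h9 := congrArg (conj hF) h8
  rw [map_mul] at h9
  simp only [conj_apply, pow_q_pow_q hF] at h9
  rw [h9, Pi.smul_apply, smul_eq_mul]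

end comm

end Cfsg.Agent.H452.RC
end

-- part: H452/RC/DSwap
section
/-!
# S3510, family E (unitary groups): the rule D (helper452)

* `dg hij t` : diagonal elements of `SL_d`; `exists_y`;
* `dswap_main : DSwapStmt`, `d_main : DStmt`.
-/

set_option autoImplicit false
set_option linter.unusedSectionVars false

namespace Cfsg.Agent.H452.RC

open Matrix Cfsg Module Cfsg.Agent.LieClassical.HermBasic Cfsg.Agent.LieClassical.HermSiegel
  Cfsg.Agent.ClassicalGeometry.PSUAutBasic
open Cfsg.Agent.H380.RC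
open Cfsg.Agent.H189.SN (Im Pm Im_mulVec Pm_mulVec)

section dg

variable {F : Type*} [Field F] {d : ℕ}

/-- diagonal elements -/
noncomputable def dg {i j : Fin d} (hij : i ≠ j) : Fˣ →* Matrix.SpecialLinearGroup (Fin d) F where
  toFun t := Matrix.SpecialLinearGroup.diag2n hij (t : F) t.ne_zero
  map_one' := by
    apply Subtype.ext
    rw [Matrix.SpecialLinearGroup.diag2n_coe, Matrix.SpecialLinearGroup.coe_one, ← Matrix.diagonal_one]
    congr 1
    funext k
    simp
  map_mul' s t := by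
    apply Subtype.ext
    rw [Matrix.SpecialLinearGroup.coe_mul, Matrix.SpecialLinearGroup.diag2n_coe, Matrix.SpecialLinearGroup.diag2n_coe,
      Matrix.SpecialLinearGroup.diag2n_coe, Matrix.diagonal_mul_diagonal]
    congr 1
    funext k
    by_cases h1 : k = i
    · simp [h1]
    · by_cases h2 : k = j
      · simp [h2, hij.symm, mul_comm]
      · simp [h1, h2]

theorem dg_i {i j : Fin d} (hij : i ≠ j) (t : Fˣ) :
    (dg hij t).1 *ᵥ (Pi.single i 1 : Fin d → F) = (t : F) • (Pi.single i 1 : Fin d → F) := by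
  show (Matrix.SpecialLinearGroup.diag2n hij (t : F) t.ne_zero).1 *ᵥ _ = _
  rw [Matrix.SpecialLinearGroup.diag2n_coe]
  funext k
  rw [Matrix.mulVec_diagonal, Pi.smul_apply, smul_eq_mul]
  by_cases h1 : k = i
  · simp [h1]
  · rw [Pi.single_eq_of_ne h1, mul_zero, mul_zero]

theorem dg_j {i j : Fin d} (hij : i ≠ j) (t : Fˣ) :
    (dg hij t).1 *ᵥ (Pi.single j 1 : Fin d → F) = (t⁻¹ : F) • (Pi.single j 1 : Fin d → F) := by
  show (Matrix.SpecialLinearGroup.diag2n hij (t : F) t.ne_zero).1 *ᵥ _ = _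
  rw [Matrix.SpecialLinearGroup.diag2n_coe]
  funext k
  rw [Matrix.mulVec_diagonal, Pi.smul_apply, smul_eq_mul]
  by_cases h1 : k = j
  · simp [h1, hij.symm]
  · rw [Pi.single_eq_of_ne h1, mul_zero, mul_zero]

end dg

section main

variable {G Ω : Type*} [Group G] [MulAction G Ω] {N : Subgroup G} {F : Type*} [Field F] [Fintype F] {n d q : ℕ}
  {U : UEnv G Ω N F n q} {b b' : Fin d → (Fin n → F)}

/-- an element of prime order prime to `q` of `SL(W)` with an eigenvector in `W` -/
theorem exists_y [Finite G] (hd : 2 ≤ d) (h : DB q b b') : ∃ (a : Matrix.SpecialLinearGroup (Fin d) F) (r : ℕ)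
    (u : Fin d → F) (c : F), u ≠ 0 ∧ a.1 *ᵥ u = c • u ∧ r.Prime ∧ r.Coprime q ∧
      U.el (kap U.hF h a) ^ r = 1 ∧ U.el (kap U.hF h a) ≠ 1 := by
  classical
  have hF := U.hF
  have hF4 : 4 ≤ Fintype.card F := by
    rw [hF]
    have := two_le hF
    nlinarith only [this]
  let i : Fin d := ⟨0, by omega⟩
  let j : Fin d := ⟨1, by omega⟩
  have hij : i ≠ j := by
    intro h
    have := congrArg Fin.val h
    simp [i, j] at this
  obtain ⟨a, ha0, ha1, ha2⟩ : ∃ a : F, a ≠ 0 ∧ a ≠ 1 ∧ a ≠ -1 := by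
    have h1 : ({0, 1, -1} : Finset F).card < Fintype.card F :=
      lt_of_le_of_lt Finset.card_le_three (by omega)
    obtain ⟨a, ha⟩ := Finset.exists_mem_notMem_of_card_lt_card (s := ({0, 1, -1} : Finset F)) (t := Finset.univ)
      (by rwa [Finset.card_univ])
    have h2 := ha.2
    simp only [Finset.mem_insert, Finset.mem_singleton, not_or] at h2
    exact ⟨a, h2.1, h2.2.1, h2.2.2⟩
  let t : Fˣ := Units.mk0 a ha0
  set! κ : Matrix.SpecialLinearGroup (Fin d) F →* G := U.el.comp (kap U.hF h) with hκ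
  have hz1 : κ (dg hij t) ≠ 1 := by
    intro h1
    obtain ⟨c, hc⟩ := (U.lft_el (kap U.hF h (dg hij t))).eq_one_iff.1 h1
    have e1 := hc (Im b *ᵥ Pi.single i 1)
    have e2 := hc (Im b *ᵥ Pi.single j 1)
    rw [act_kap_W, dg_i, ← mulVec_smul] at e1
    rw [act_kap_W, dg_j, ← mulVec_smul] at e2
    have f1 := congrFun (h.inj1 e1) i
    have f2 := congrFun (h.inj1 e2) j
    simp only [Pi.smul_apply, Pi.single_eq_same, smul_eq_mul, mul_one] at f1 f2
    have f3 : a = c := f1
    have f4 : a⁻¹ = c := f2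
    have f5 : a * a = 1 := by
      nth_rewrite 2 [f3]
      rw [← f4, mul_inv_cancel₀ ha0]
    have f6 : (a - 1) * (a + 1) = 0 := by linear_combination f5
    rcases mul_eq_zero.1 f6 with h4 | h4
    · exact ha1 (sub_eq_zero.1 h4)
    · exact ha2 (eq_neg_of_add_eq_zero_left h4)
  set z := κ (dg hij t) with hz
  have ho1 : orderOf z ≠ 1 := fun h1 => hz1 (orderOf_eq_one_iff.1 h1)
  obtain ⟨r, hr, hrd⟩ := Nat.exists_prime_and_dvd ho1
  have hcard : z ^ (q ^ 2 - 1) = 1 := by
    rw [hz, ← map_pow, ← map_pow]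
    have h1 : t ^ (q ^ 2 - 1) = 1 := by
      have h2 : Fintype.card Fˣ = q ^ 2 - 1 := by rw [Fintype.card_units, hF]
      rw [← h2]
      exact pow_card_eq_one
    rw [h1, map_one, map_one]
  have hrq : r.Coprime q := by
    rw [Nat.Prime.coprime_iff_not_dvd hr]
    intro h1
    have h2 : r ∣ q ^ 2 - 1 := hrd.trans (orderOf_dvd_of_pow_eq_one hcard)
    have h3 : r ∣ q ^ 2 := dvd_pow h1 two_ne_zero
    have h4 : 1 ≤ q ^ 2 := Nat.one_le_pow _ _ (q_pos hF)
    have h5 : r ∣ q ^ 2 - (q ^ 2 - 1) := Nat.dvd_sub h3 h2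
    have h6 : q ^ 2 - (q ^ 2 - 1) = 1 := by omega
    rw [h6] at h5
    exact hr.one_lt.ne' (Nat.dvd_one.1 h5)
  have ho : orderOf (z ^ (orderOf z / r)) = r := orderOf_pow_orderOf_div (orderOf_pos z).ne' hrd
  have hzk : z ^ (orderOf z / r) = U.el (kap U.hF h (dg hij (t ^ (orderOf z / r)))) := by
    rw [hz, ← map_pow, ← map_pow]
    rfl
  refine ⟨dg hij (t ^ (orderOf z / r)), r, Pi.single i 1, ((t ^ (orderOf z / r) : Fˣ) : F), ?_, dg_i hij _, hr, hrq,
    ?_, ?_⟩
  · intro h1
    have h2 := congrFun h1 i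
    rw [Pi.single_eq_same] at h2
    exact one_ne_zero h2
  · rw [← hzk]
    nth_rewrite 2 [← ho]
    exact pow_orderOf_eq_one _
  · rw [← hzk]
    intro h1
    rw [h1, orderOf_one] at ho
    exact hr.one_lt.ne ho

theorem comm_of_scal (h : DB q b b') {x : G} {f : (Fin n → F) → (Fin n → F)} (hx : U.Lft x f) {l l' : F}
    (hl : ∀ c, f (Im b *ᵥ c) = l • (Im b *ᵥ c)) (hl' : ∀ c, f (Im b' *ᵥ c) = l' • (Im b' *ᵥ c))
    (p : Matrix.SpecialLinearGroup (Fin d) F) : x * U.el (kap U.hF h p) = U.el (kap U.hF h p) * x := by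
  have h1 : x * U.el (kap U.hF h p) * x⁻¹ = U.el (kap U.hF h p) := by
    apply hx.conj_el
    intro v
    obtain ⟨c, c', rfl⟩ := h.span v
    rw [act_kap, Ind.map_add hx, Ind.map_add hx, hl, hl', hl, hl', act_add, act_smul, act_smul, act_kap_W,
      act_kap_W']
  rw [mul_inv_eq_iff_eq_mul] at h1
  exact h1

end main

/-- **Box E5' (D with swaps)** -/
theorem dswap_main : DSwapStmt := by
  intro G Ω _ _ _ _ _ N F _ _ n q U ι _ x f r hfam hcov ⟨W, W', hW, hW', hc, hst, hRC⟩
  classical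
  have hF := U.hF
  have hF4 : 4 ≤ Fintype.card F := by
    rw [hF]
    have := two_le hF
    nlinarith
  obtain ⟨d, hd, hRC⟩ : ∃ d, finrank F W = d ∧
      (H106.RC.RC (Matrix.ProjectiveSpecialLinearGroup (Fin d) F) ∨
        ∀ i j : ι, ¬ ScalOn (f i) W → ¬ ScalOn (f j) W → i = j) := ⟨_, rfl, hRC⟩
  obtain ⟨b, b', h, hbW, hWb, hbW', hWb'⟩ := exists_db hF hW hW' hc hd
  have hd2 : 2 ≤ d := by
    have h1 := Submodule.finrank_add_eq_of_isCompl hc
    rw [finrank_fin_fun, hd] at h1
    have h2 : finrank F W' ≤ d := by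
      have h3 : W' ≤ LinearMap.range (Matrix.mulVecLin (Im b')) := by
        intro v hv
        obtain ⟨c, hc⟩ := hWb' v hv
        exact ⟨c, hc.symm⟩
      have h4 := Submodule.finrank_mono h3
      have h5 := LinearMap.finrank_range_le (Matrix.mulVecLin (Im b'))
      rw [finrank_fin_fun] at h5
      exact h4.trans h5
    have := U.hn
    omega
  have hdpos : 0 < d := by omega
  -- coordinates
  have hst1 : ∀ i, (Stab (f i) W ∧ Stab (f i) W') →
      (∀ c, ∃ c₁, f i (Im b *ᵥ c) = Im b *ᵥ c₁) ∧ ∀ c, ∃ c₁, f i (Im b' *ᵥ c) = Im b' *ᵥ c₁ := by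
    intro i hi
    exact ⟨fun c => hWb _ (hi.1 _ (hbW c)), fun c => hWb' _ (hi.2 _ (hbW' c))⟩
  have hst2 : ∀ i, ((∀ c, ∃ c₁, f i (Im b *ᵥ c) = Im b *ᵥ c₁) ∧ ∀ c, ∃ c₁, f i (Im b' *ᵥ c) = Im b' *ᵥ c₁) ∨
      ((∀ c, ∃ c₁, f i (Im b *ᵥ c) = Im b' *ᵥ c₁) ∧ ∀ c, ∃ c₁, f i (Im b' *ᵥ c) = Im b *ᵥ c₁) := by
    intro i
    rcases hst i with hi | ⟨h1, h2, -⟩
    · exact Or.inl (hst1 i hi)
    · exact Or.inr ⟨fun c => hWb' _ (h1 _ (hbW c)), fun c => hWb _ (h2 _ (hbW' c))⟩
  -- scalars on `W`
  have hscal : ∀ i, (∃ l : F, ∀ c, f i (Im b *ᵥ c) = l • (Im b *ᵥ c)) → (Stab (f i) W ∧ Stab (f i) W') →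
      ∃ l l' : F, l * l' ^ q = 1 ∧ (∀ c, f i (Im b *ᵥ c) = l • (Im b *ᵥ c)) ∧
        ∀ c, f i (Im b' *ᵥ c) = l' • (Im b' *ᵥ c) := by
    rintro i ⟨l, hl⟩ hi
    obtain ⟨ρ, hs, hh⟩ := Ind.exists_rho (hfam.lft i)
    obtain ⟨l', h1, h2, -⟩ := scal_dual hF hdpos h (Ind.injective (hfam.lft i)) hs hh hl (hst1 i hi).2
    exact ⟨l, l', h1, hl, h2⟩
  set! κ : Matrix.SpecialLinearGroup (Fin d) F →* G := U.el.comp (kap U.hF h) with hκ
  let π : Matrix.SpecialLinearGroup (Fin d) F →* Matrix.ProjectiveSpecialLinearGroup (Fin d) F :=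
    QuotientGroup.mk' (Subgroup.center (Matrix.SpecialLinearGroup (Fin d) F))
  have hπk : π.ker = Subgroup.center (Matrix.SpecialLinearGroup (Fin d) F) := QuotientGroup.ker_mk' _
  have hperf := sl_perf (F := F) hd2 hF4
  have hsimple : IsSimpleGroup (Matrix.ProjectiveSpecialLinearGroup (Fin d) F) := by
    have : Nontrivial (Fin d) := Fin.nontrivial_iff_two_le.2 hd2
    exact LieClassical.SLGen.psl_isSimpleGroup_of_perfect (by rw [commutator_def]; exact hperf)
  have hnc : ¬ IsMulCommutative (Matrix.ProjectiveSpecialLinearGroup (Fin d) F) := by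
    have : Nontrivial (Matrix.ProjectiveSpecialLinearGroup (Fin d) F) := hsimple.toNontrivial
    apply nc_of_perfect
    have hsur : Function.Surjective π := QuotientGroup.mk'_surjective _
    have h4 : Subgroup.map π ⊤ = ⊤ := Subgroup.map_top_of_surjective _ hsur
    rw [commutator_def, ← h4, ← Subgroup.map_commutator, hperf]
  have hk : κ.ker ≤ π.ker := by
    intro a ha
    rw [hπk, Subgroup.mem_center_iff]
    have h1 : U.el (kap U.hF h a) = 1 := ha
    rw [U.el_eq_one] at h1
    obtain ⟨c, -, -, hc⟩ := exists_scalar_of_mem_center hF U.hn h1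
    have h2 : ∀ e : Fin d → F, a.1 *ᵥ e = c • e := by
      intro e
      apply h.inj1
      rw [← act_kap_W hF h, hc, mulVec_smul]
    intro g
    apply Subtype.ext
    rw [Matrix.SpecialLinearGroup.coe_mul, Matrix.SpecialLinearGroup.coe_mul]
    apply ext_of_mulVec_single
    intro i
    rw [← mulVec_mulVec, ← mulVec_mulVec, h2, h2, mulVec_smul]
  -- the M-rule
  have hM : ∀ ω : Ω, (∀ p, κ p • ω = ω) ∨ ∃ j, (∀ p, x j * κ p = κ p * x j) ∧ x j • ω = ω := by
    intro ω
    refine mrule_hom_pf hsimple hnc κ hperf π (QuotientGroup.mk'_surjective _) hk hπk.le hfam.pf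
      (fun i p => norm_kap hd2 h (hfam.lft i) (hst2 i) p) ?_ hcov ω
    rcases hRC with hRC | hRC
    · exact Or.inl hRC
    · right
      have hcm : ∀ i, ScalOn (f i) W → ∀ p, x i * κ p = κ p * x i := by
        rintro i ⟨l, hl⟩ p
        have hi : Stab (f i) W ∧ Stab (f i) W' := by
          rcases hst i with hi | ⟨h1, h2, w, hw, hw1⟩
          · exact hi
          · exfalso
            apply hw1
            rw [hl w hw, herm_smul_right, hW w hw w hw, mul_zero]
        obtain ⟨l, l', -, h1, h2⟩ := hscal i ⟨l, fun c => hl _ (hbW c)⟩ hi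
        exact comm_of_scal h (hfam.lft i) h1 h2 p
      by_cases hex : ∃ i, ¬ ScalOn (f i) W
      · obtain ⟨i₀, hi₀⟩ := hex
        refine ⟨i₀, fun i hi p => hcm i ?_ p⟩
        by_contra hcon
        exact hi (hRC i i₀ hcon hi₀)
      · push Not at hex
        obtain ⟨i₀, -⟩ := hcov ω
        exact ⟨i₀, fun i _ p => hcm i (hex i) p⟩
  -- the members centralising `SL(W)`
  have hJ : ∀ j, (∀ p, x j * κ p = κ p * x j) → (r j).Coprime q ∧ ∃ l : F, ∀ c, f j (Im b *ᵥ c) = l • (Im b *ᵥ c) := by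
    intro j hj
    have hcomm : ∀ a v, f j (act (kap hF h a) v) = act (kap hF h a) (f j v) :=
      lift_comm hperf (kap hF h) (hfam.lft j) hj
    have hi : Stab (f j) W ∧ Stab (f j) W' := by
      rcases hst j with hi | ⟨h1, h2, w, hw, hw1⟩
      · exact hi
      · exfalso
        apply hw1
        obtain ⟨c, rfl⟩ := hWb w hw
        exact herm_eq_zero hF hd2 h (Ind.map_add (hfam.lft j)) hcomm c
    have h1 := scal_of_comm hF hd2 h (Ind.map_add (hfam.lft j)) hcomm (hst1 j hi).1
    refine ⟨?_, h1⟩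
    obtain ⟨l, l', h2, h3, h4⟩ := hscal j h1 hi
    by_contra hcop
    -- `r j` is the characteristic
    obtain ⟨p, k, hp, hchar, hk', hk0⟩ := exists_prime_pow hF
    have hrp : r j = p := by
      have h5 : r j ∣ q := by
        by_contra h6
        exact hcop ((Nat.Prime.coprime_iff_not_dvd (hfam.pf.prime j)).2 h6)
      rw [hk'] at h5
      exact (Nat.prime_dvd_prime_iff_eq (hfam.pf.prime j) hp).1 ((hfam.pf.prime j).dvd_of_dvd_pow h5)
    obtain ⟨m, hm⟩ := hfam.ord j
    have hiter : ∀ (s : ℕ) c, (f j)^[s] (Im b *ᵥ c) = l ^ s • (Im b *ᵥ c) := by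
      intro s
      induction s with
      | zero => intro c; rw [pow_zero, one_smul]; rfl
      | succ s ih =>
        intro c
        rw [Function.iterate_succ_apply, h3, ← mulVec_smul, ih, mulVec_smul, smul_smul, pow_succ]
    have hl1 : l = 1 := by
      have h5 := hm (Im b *ᵥ Pi.single ⟨0, hdpos⟩ 1)
      rw [hiter, ← mulVec_smul] at h5
      have h6 := congrFun (h.inj1 h5) ⟨0, hdpos⟩
      rw [Pi.smul_apply, Pi.single_eq_same, smul_eq_mul, mul_one, hrp] at h6
      have := Fact.mk hp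
      have h7 : (l - 1) ^ p ^ m = 0 := by rw [sub_pow_char_pow, h6, one_pow, sub_self]
      exact sub_eq_zero.1 (pow_eq_zero_iff (pow_pos hp.pos m).ne' |>.1 h7)
    have hl'1 : l' = 1 := by
      rw [hl1, one_mul] at h2
      apply (pow_q_inj hF).1
      rw [h2, one_pow]
    apply hfam.pf.ne j
    rw [(hfam.lft j).eq_one_iff]
    refine ⟨1, fun v => ?_⟩
    obtain ⟨c, c', rfl⟩ := h.span v
    rw [Ind.map_add (hfam.lft j), h3, h4, hl1, hl'1, one_smul, one_smul, one_smul]
  -- the new family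
  obtain ⟨a, ry, u, cy, hu0, hau, hry, hryq, hy1, hy2⟩ := exists_y (U := U) hd2 h
  have hau' : act (kap hF h a) (Im b *ᵥ u) = cy • (Im b *ᵥ u) := by rw [act_kap_W, hau, mulVec_smul]
  let J := {j : ι // ∀ p, x j * κ p = κ p * x j}
  refine U.point (ι := Option J) (x := fun o => o.elim (U.el (kap hF h a)) fun j => x j.1)
    (f := fun o => o.elim (act (kap hF h a)) fun j => f j.1) (r := fun o => o.elim ry fun j => r j.1)
    ?_ ?_ ?_ ?_ ?_ ?_ ?_ (u := Im b *ᵥ u) ?_ (hW _ (hbW u) _ (hbW u)) ?_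
  · rintro (_ | j)
    · exact hry
    · exact hfam.pf.prime j.1
  · rintro (_ | j)
    · exact hryq
    · exact (hJ j.1 j.2).1
  · rintro (_ | j)
    · exact hy1
    · exact hfam.pf.pow j.1
  · rintro (_ | j)
    · exact hy2
    · exact hfam.pf.ne j.1
  · rintro (_ | i) (_ | j)
    · rfl
    · exact (j.2 a).symm
    · exact i.2 a
    · exact hfam.pf.comm i.1 j.1
  · rintro (_ | j)
    · exact U.lft_el _
    · exact hfam.lft j.1
  · intro ω
    rcases hM ω with h1 | ⟨j, hj, h1⟩
    · exact ⟨none, h1 a⟩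
    · exact ⟨some ⟨j, hj⟩, h1⟩
  · intro h1
    apply hu0
    apply h.inj1
    rw [h1, mulVec_zero]
  · rintro (_ | j)
    · exact ⟨cy, hau'⟩
    · obtain ⟨-, l, hl⟩ := hJ j.1 j.2
      exact ⟨l, hl u⟩

/-- **Box E5 (D)** -/
theorem d_main : DStmt := by
  intro G Ω _ _ _ _ _ N F _ _ n q U ι _ x f r hfam hcov ⟨W, W', hW, hW', hc, hst, hRC⟩
  exact dswap_main U x f r hfam hcov ⟨W, W', hW, hW', hc, fun i => Or.inl (hst i), hRC⟩

end Cfsg.Agent.H452.RC
end

private theorem dce_b17bcc5a7a6f : _root_.True := by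
  try have : _root_.True := by simp only [_root_.Cfsg.Agent.H452.RC.ai.congr_simp]
  exact _root_.True.intro
end

-- part: H452/RC/GDecMain
section
prune_inst 0x10054000d6210000018059271201c42a200042200480c00c40201020481ec620d032861b92011100a0808450039006811000080426000000e0004000119008010800004a1480100220096000000000000000000000000000000000000010004000000000
set_option linter.all false
open scoped Cfsg.Agent.FastGrp

-- part: H452/RC/SubU
section
/-!
# S3510, family E (unitary groups): the subgroup `SU(A)` of an invariant nondegenerate subspace (helper452)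

`b` an orthonormal basis of `A`, `ph U hb : SU m F q →* G`, `MM U hb` its range.

* `MM_le`, `ph_injective`, `MM_perf`, `MM_ne` ;
* `pi` : `MM → PSU m F q`, `pi_surjective`, `pi_ker` ;
* `Rs U hb x B ρ` : `x` induces `(B, ρ)` on `A` ; `exists_rs`, `conj_ph`, `mem_normalizer`, `scalar_of_comm`.
-/

set_option autoImplicit false
set_option linter.unusedSectionVars false

namespace Cfsg.Agent.H452.RC

open Matrix Cfsg Module Cfsg.Agent.LieClassical.HermBasic Cfsg.Agent.LieClassical.HermSiegel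
  Cfsg.Agent.LieClassical.HermGen Cfsg.Agent.LieClassical.SUBasic Cfsg.Agent.ClassicalGeometry.PSUAutBasic
  Cfsg.Agent.ClassicalGeometry.PSUAutCount Cfsg.Agent.LieClassical.FieldTransfer Cfsg.Agent.ClassicalGeometry
open Cfsg.Agent.H380.RC
open Cfsg.Agent.H189.SN (ON phi Im phi_Im phi_perp phi_injective pr_phi_injective sm exists_B semiConj_phi decomp
  Im_mulVec Im_injective)

section

variable {G Ω : Type*} [Group G] [MulAction G Ω] {N : Subgroup G} {F : Type*} [Field F] [Fintype F] {n m q : ℕ}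
  (U : UEnv G Ω N F n q) {b : Fin m → (Fin n → F)} (hb : ON q b)

/-- `SU m → G` -/
noncomputable def ph : SU m F q →* G := U.el.comp (phi U.hF hb)

theorem ph_apply (a : SU m F q) : ph U hb a = U.el (phi U.hF hb a) := rfl

/-- the subgroup `SU(A)` of `G` -/
noncomputable def MM : Subgroup G := (ph U hb).range

theorem ph_mem (a : SU m F q) : ph U hb a ∈ MM U hb := ⟨a, rfl⟩

theorem ph_injective (hmn : m < n) : Function.Injective (ph U hb) := by
  rw [injective_iff_map_eq_one]
  intro a ha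
  rw [ph_apply, U.el_eq_one, ← pr_eq_one_iff] at ha
  apply pr_phi_injective U.hF U.hn hb hmn
  rw [map_one]
  exact ha

/-- `SU(A) → PSU(A)` -/
noncomputable def pi (hmn : m < n) : MM U hb →* PSU m F q :=
  (pr m F q).comp (MonoidHom.ofInjective (ph_injective U hb hmn)).symm.toMonoidHom

theorem pi_ph (hmn : m < n) (a : SU m F q) : pi U hb hmn ⟨ph U hb a, ph_mem U hb a⟩ = pr m F q a := by
  have h1 : (⟨ph U hb a, ph_mem U hb a⟩ : MM U hb) = MonoidHom.ofInjective (ph_injective U hb hmn) a := rfl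
  rw [h1]
  change pr m F q ((MonoidHom.ofInjective (ph_injective U hb hmn)).symm
    (MonoidHom.ofInjective (ph_injective U hb hmn) a)) = _
  rw [MulEquiv.symm_apply_apply]

theorem pi_surjective (hmn : m < n) : Function.Surjective (pi U hb hmn) := by
  intro s
  obtain ⟨a, rfl⟩ := pr_surjective s
  exact ⟨_, pi_ph U hb hmn a⟩

theorem pi_ker (hmn : m < n) : (pi U hb hmn).ker ≤ Subgroup.center (MM U hb) := by
  rintro ⟨_, a, rfl⟩ h
  rw [MonoidHom.mem_ker] at h
  have h1 : pr m F q a = 1 := (pi_ph U hb hmn a).symm.trans h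
  rw [pr_eq_one_iff, Subgroup.mem_center_iff] at h1
  rw [Subgroup.mem_center_iff]
  rintro ⟨_, c, rfl⟩
  apply Subtype.ext
  change ph U hb c * ph U hb a = ph U hb a * ph U hb c
  rw [← map_mul, ← map_mul, h1 c]

theorem MM_perf (h : commutator (SU m F q) = ⊤) : ⁅MM U hb, MM U hb⁆ = MM U hb := by
  have h1 : MM U hb = Subgroup.map (ph U hb) ⊤ := by rw [← MonoidHom.range_eq_map]; rfl
  rw [h1, ← Subgroup.map_commutator]
  congr 1

/-- `x` induces `(B, ρ)` on `A` -/
structure Rs (x : G) (f : (Fin n → F) → (Fin n → F)) (B : GU m F q) (ρ : F ≃+* F) : Prop where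
  lft : U.Lft x f
  eq : ∀ c, f (Im b *ᵥ c) = Im b *ᵥ sl B ρ c
  semi : ∀ a : SU m F q, x * ph U hb a * x⁻¹ = ph U hb (semiConj B ρ a)

theorem exists_rs {x : G} {f : (Fin n → F) → (Fin n → F)} (hx : U.Lft x f)
    (hA : ∀ i, ∃ c : Fin m → F, f (b i) = Im b *ᵥ c) : ∃ (B : GU m F q) (ρ : F ≃+* F), Rs U hb x f B ρ := by
  obtain ⟨A, ρ, rfl, h1⟩ := id hx
  obtain ⟨B, hB⟩ := exists_B U.hF hb (A := A) (ρ := ρ) hA
  refine ⟨B, ρ, hx, fun c => (hB c).symm, fun a => ?_⟩
  rw [ph_apply, ph_apply]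
  apply hx.conj_el
  intro v
  rw [← semiConj_phi U.hF hb hB, sl_def, sl_def, act_semiConj]

theorem mem_normalizer [Finite G] {x : G} {f : (Fin n → F) → (Fin n → F)} (hx : U.Lft x f)
    (hA : ∀ i, ∃ c : Fin m → F, f (b i) = Im b *ᵥ c) : x ∈ Subgroup.normalizer (MM U hb : Set G) := by
  obtain ⟨B, ρ, h⟩ := exists_rs U hb hx hA
  apply Subgroup.mem_normalizer_fintype
  rintro _ ⟨a, rfl⟩
  rw [h.semi]
  exact ph_mem U hb _

/-- an element commuting with `SU(A)`, `dim A ≥ 3`, is a scalar on `A` -/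
theorem scalar_of_comm (hm : 3 ≤ m) (hmn : m < n) {x : G} {f : (Fin n → F) → (Fin n → F)} (hx : U.Lft x f)
    (hA : ∀ i, ∃ c : Fin m → F, f (b i) = Im b *ᵥ c) (hc : ∀ y ∈ MM U hb, x * y = y * x) :
    ∃ c : F, ∀ d, f (Im b *ᵥ d) = c • (Im b *ᵥ d) := by
  obtain ⟨B, ρ, h⟩ := exists_rs U hb hx hA
  have h1 : ∀ a, semiConj B ρ a = a := by
    intro a
    apply ph_injective U hb hmn
    rw [← h.semi, hc _ (ph_mem U hb a), mul_inv_cancel_right]
  have h2 : toAut B ρ = toAut (1 : GU m F q) (1 : F ≃+* F) := by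
    rw [Cfsg.Agent.H189.SN.toAut_one]
    ext s
    obtain ⟨a, rfl⟩ := pr_surjective s
    rw [PSUAutMain.toAut_pr', h1]
    rfl
  obtain ⟨h3, c, hc, h4⟩ := eq_of_toAut_eq U.hF hm h2.symm
  refine ⟨c, fun d => ?_⟩
  rw [h.eq, ← mulVec_smul]
  congr 1
  rw [sl_def, h4, h3, smul_mulVec, gm_one, one_mulVec]
  rfl

end

end Cfsg.Agent.H452.RC
end

-- part: H452/RC/Dec
section
/-!
# S3510, family E (unitary groups): the rule DEC (helper452)

* `exists_basis`, `exists_sing` : orthonormal basis and singular vector of a nondegenerate subspace;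
* `RootStmt` : the root rule (helper380, `Point.lean`);
* `dec` : `DecStmt`.
-/

set_option autoImplicit false
set_option linter.unusedSectionVars false

namespace Cfsg.Agent.H452.RC

open Matrix Cfsg Module Cfsg.Agent.LieClassical.HermBasic Cfsg.Agent.LieClassical.HermSiegel
  Cfsg.Agent.LieClassical.HermGen Cfsg.Agent.LieClassical.SUBasic Cfsg.Agent.ClassicalGeometry.PSUAutBasic
  Cfsg.Agent.ClassicalGeometry.PSUAutCount Cfsg.Agent.LieClassical.FieldTransfer Cfsg.Agent.ClassicalGeometry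
open Cfsg.Agent.H380.RC
open Cfsg.Agent.H189.SN (ON phi Im Im_mulVec phi_Im phi_perp phi_injective pr_phi_injective herm_Im herm_Im_perp
  decomp Im_injective exists_perp)

section

variable {F : Type*} [Field F] [Fintype F] {n m q : ℕ}

/-- orthonormal basis of a nondegenerate subspace -/
theorem exists_basis (hF : Fintype.card F = q ^ 2) {A : Submodule F (Fin n → F)} (hA : NDeg q A)
    (hm : finrank F A = m) :
    ∃ b : Fin m → (Fin n → F), ON q b ∧ (∀ c, Im b *ᵥ c ∈ A) ∧ ∀ v ∈ A, ∃ c, v = Im b *ᵥ c := by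
  obtain ⟨b, hbA, hb⟩ := HermOrtho.exists_orthonormal hF A hA hm
  refine ⟨b, hb, fun c => ?_, fun v hv => ?_⟩
  · rw [Im_mulVec]
    exact A.sum_mem fun i _ => A.smul_mem _ (hbA i)
  · refine ⟨fun i => hermForm n F q v (b i), ?_⟩
    rw [Im_mulVec]
    exact HermOrtho.eq_sum_of_orthonormal A (by rw [hm, Fintype.card_fin]) hbA hb hv

/-- a singular vector -/
theorem exists_sing (hF : Fintype.card F = q ^ 2) (hm : 2 ≤ m) :
    ∃ e : Fin m → F, e ≠ 0 ∧ hermForm m F q e e = 0 := by
  obtain ⟨t, ht⟩ := _root_.Cfsg.Agent.LieClassical.HermBasic.exists_norm_eq hF (c := (-1 : F)) (by rw [neg_pow_q hF, one_pow])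
  let i : Fin m := ⟨0, by omega⟩
  let j : Fin m := ⟨1, by omega⟩
  have hij : i ≠ j := by
    intro h
    have := congrArg Fin.val h
    simp [i, j] at this
  refine ⟨Pi.single i 1 + Pi.single j t, ?_, ?_⟩
  · intro h
    have h1 := congrFun h i
    rw [Pi.add_apply, Pi.single_eq_same, Pi.single_eq_of_ne hij, add_zero, Pi.zero_apply] at h1
    exact one_ne_zero h1
  · rw [herm_add_left, herm_single_left, herm_single_left, Pi.add_apply, Pi.add_apply, Pi.single_eq_same,
      Pi.single_eq_same, Pi.single_eq_of_ne hij, Pi.single_eq_of_ne hij.symm, add_zero, zero_add, one_pow, ht]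
    ring

/-- image of a transvection -/
theorem phi_transv (hF : Fintype.card F = q ^ 2) {b : Fin m → (Fin n → F)} (hb : ON q b) {e : Fin m → F}
    (he : hermForm m F q e e = 0) (he' : hermForm n F q (Im b *ᵥ e) (Im b *ᵥ e) = 0) {μ : F} (hμ : μ + μ ^ q = 0) :
    phi hF hb (transv hF e he μ hμ) = transv hF (Im b *ᵥ e) he' μ hμ := by
  apply ext_act
  intro v
  obtain ⟨c, u, hu, rfl⟩ := decomp hb v
  rw [act_add, act_add, phi_Im, phi_perp hF hb _ hu, act_transv, act_transv, act_transv, mulVec_add, herm_Im hF hb,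
    mulVec_smul, herm_Im_perp hF b e hu, mul_zero, zero_smul, add_zero]

end

/-- the root rule -/
def RootStmt : Prop :=
  ∀ {G Ω : Type} [Group G] [Finite G] [Finite Ω] [Nonempty Ω] [MulAction G Ω] {N : Subgroup G} {F : Type} [Field F]
    [Fintype F] {n q : ℕ} (U : UEnv G Ω N F n q) {κ : Type} [Finite κ] (x : κ → G) (r : κ → ℕ)
    (f : κ → (Fin n → F) → (Fin n → F)),
    (∀ j, (r j).Prime) → (∀ j, (r j).Coprime q) → (∀ j, x j ^ r j = 1) → (∀ j, x j ≠ 1) →
    (∀ i j, x i * x j = x j * x i) → (∀ j, U.Lft (x j) (f j)) →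
    ∀ (e : Fin n → F) (_ : e ≠ 0) (he : hermForm n F q e e = 0), (∀ j, ∃ c : F, f j e = c • e) →
    ∀ (μ : F) (hμ : μ + μ ^ q = 0), μ ≠ 0 →
    (∀ ω : Ω, U.el (transv U.hF e he μ hμ) • ω = ω ∨ ∃ j, x j • ω = ω) → False

section

variable {G Ω : Type} [Group G] [Finite G] [Finite Ω] [Nonempty Ω] [MulAction G Ω] {N : Subgroup G} {F : Type} [Field F]
  [Fintype F] {n m q : ℕ}

/-- **DEC from the M-rule conclusion.** -/
theorem dec_of (hroot : RootStmt) (U : UEnv G Ω N F n q) {ι : Type} [Finite ι] (x : ι → G)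
    (f : ι → (Fin n → F) → (Fin n → F)) (hne : ∀ i, x i ≠ 1) (hlft : ∀ i, U.Lft (x i) (f i))
    (hcomm : ∀ i j, x i * x j = x j * x i) {b : Fin m → (Fin n → F)} (hb : ON q b) (hm : 2 ≤ m)
    (hS : ∀ i, (∀ y ∈ MM U hb, x i * y = y * x i) →
      (∃ c : F, ∀ d, f i (Im b *ᵥ d) = c • (Im b *ᵥ d)) ∧ ∃ r : ℕ, r.Prime ∧ r.Coprime q ∧ x i ^ r = 1)
    (hM : ∀ ω : Ω, MM U hb ≤ MulAction.stabilizer G ω ∨ ∃ j, (∀ y ∈ MM U hb, x j * y = y * x j) ∧ x j • ω = ω) :
    False := by
  classical
  obtain ⟨e, he0, he⟩ := exists_sing (F := F) (q := q) U.hF hm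
  obtain ⟨μ, hμ0, hμ⟩ := exists_trace_zero_ne (F := F) (q := q) U.hF
  have he' : hermForm n F q (Im b *ᵥ e) (Im b *ᵥ e) = 0 := by rw [herm_Im U.hF hb, he]
  have he1 : Im b *ᵥ e ≠ 0 := by
    intro h
    apply he0
    apply Im_injective hb
    change Im b *ᵥ e = Im b *ᵥ 0
    rw [h, mulVec_zero]
  have hS' : ∀ j : {i : ι // ∀ y ∈ MM U hb, x i * y = y * x i},
      ∃ r : ℕ, r.Prime ∧ r.Coprime q ∧ x j.1 ^ r = 1 := fun j => (hS j.1 j.2).2
  choose r hr1 hr2 hr3 using hS'
  refine hroot U (κ := {i : ι // ∀ y ∈ MM U hb, x i * y = y * x i}) (fun j => x j.1) r (fun j => f j.1) hr1 hr2 hr3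
    (fun j => hne _) (fun i j => hcomm _ _) (fun j => hlft _) (Im b *ᵥ e) he1 he' (fun j => ?_) μ hμ hμ0 (fun ω => ?_)
  · obtain ⟨⟨c, hc⟩, -⟩ := hS j.1 j.2
    exact ⟨c, hc e⟩
  · rcases hM ω with h | ⟨j, hj, h⟩
    · left
      apply h
      rw [← phi_transv U.hF hb he he' hμ]
      exact ph_mem U hb _
    · exact Or.inr ⟨⟨j, hj⟩, h⟩

end

/-- **DEC** -/
theorem dec (hroot : RootStmt) : DecStmt := by
  intro G Ω _ _ _ _ _ N F _ _ n q U ι _ x f r hfam hcov ⟨A, hA, hAtop, hA3, hA32, hst, hsc, hRC⟩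
  obtain ⟨b, hb, hbA, hAb⟩ := exists_basis U.hF hA rfl
  have hmn : finrank F A < n := by
    have h1 := Submodule.finrank_lt hAtop
    rwa [finrank_fin_fun] at h1
  have hinv : ∀ i j, ∃ c, f i (b j) = Im b *ᵥ c := by
    intro i j
    apply hAb
    apply hst i
    have h1 := hbA (Pi.single j 1)
    rwa [Im_mulVec, Finset.sum_eq_single j, Pi.single_eq_same, one_smul] at h1
    · intro k _ hk
      rw [Pi.single_eq_of_ne hk, zero_smul]
    · intro h
      exact absurd (Finset.mem_univ j) h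
  have hsimple : IsSimpleGroup (PSU (finrank F A) F q) :=
    LieClassical.HermSimple.isSimpleGroup_of_perfect U.hF hA3
      (LieClassical.HermPerfect.commutator_SU_eq_top U.hF hA3 hA32)
  refine dec_of hroot U x f hfam.pf.ne hfam.lft hfam.pf.comm hb (by omega) (fun i hi => ?_) (fun ω => ?_)
  · obtain ⟨c, hc⟩ := scalar_of_comm U hb hA3 hmn (hfam.lft i) (hinv i) hi
    refine ⟨⟨c, hc⟩, r i, hfam.pf.prime i, hsc i ⟨c, fun v hv => ?_⟩, hfam.pf.pow i⟩
    obtain ⟨d, rfl⟩ := hAb v hv
    exact hc d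
  · exact H106.RC.mrule_RC hsimple (Cfsg.Agent.H189.SN.psu_nc U.hF hA3 hA32) x r hfam.pf.prime hfam.pf.inj
      hfam.pf.pow hfam.pf.comm (MM U hb) (MM_perf U hb (LieClassical.HermPerfect.commutator_SU_eq_top U.hF hA3 hA32))
      (pi U hb hmn) (pi_surjective U hb hmn) (pi_ker U hb hmn)
      (fun i => mem_normalizer U hb (hfam.lft i) (hinv i)) hRC ω (fun m _ => hcov _)

end Cfsg.Agent.H452.RC
end

-- part: H452/RC/DecMain
section
/-!
# S3510, family E (unitary groups): DEC, no hypotheses (helper452)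

* `rootStmt` ; `dec_main : DecStmt`.
-/

set_option autoImplicit false

namespace Cfsg.Agent.H452.RC

open Cfsg.Agent.H380.RC

/-- the root rule -/
theorem rootStmt : RootStmt := by
  intro G Ω _ _ _ _ _ N F _ _ n q U κ _ x r f hr hrq hx hne hc hf e he0 he hfe μ hμ hμ0 hcov
  exact U.root hr hrq hx hne hc hf he0 he hfe hμ hμ0 hcov

/-- **Box E4 (DEC)** -/
theorem dec_main : DecStmt := dec rootStmt

end Cfsg.Agent.H452.RC
end

-- part: H452/RC/MAb
section
/-!
# The M-rule for abelian families (helper452)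

The proof is that of `H106.RC.mrule_elt` with a commutative group `Z` instead of `⟨g⟩`.

* `mrule_sub` : `Z` commutative, normalises `M`, all its elements induce powers of `α` on `M / Z(M) = S`, `RCe S α`;
* `mrule_ab` : a commuting family of elements which induce powers of `α`.
-/

set_option autoImplicit false
open Cfsg

namespace Cfsg.Agent.H452.RC

open MulAction Cfsg.Agent.H106.RC
open scoped commutatorElement

/-- the M-rule for a commutative group -/
theorem mrule_sub {G Ω S : Type*} [Group G] [MulAction G Ω] [Group S] (hS : IsSimpleGroup S)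
    (hSn : ¬ IsMulCommutative S) (M : Subgroup G) (hperf : ⁅M, M⁆ = M) (π : M →* S)
    (hπ : Function.Surjective π) (hker : π.ker ≤ Subgroup.center M) (Z : Subgroup G)
    (hZc : ∀ z ∈ Z, ∀ z' ∈ Z, z * z' = z' * z)
    (hg : Z ≤ Subgroup.normalizer (M : Set G)) (α : MulAut S)
    (hα : ∀ z ∈ Z, ∃ k : ℤ, ∀ m m' : M, (m' : G) = z * m * z⁻¹ → (α ^ k) (π m) = π m') (hRC : RCe S α) (ω : Ω)
    (hω : ¬ M ≤ stabilizer G ω) :
    ∃ m ∈ M, ∀ z ∈ Z, z • (m • ω) = m • ω →
      (∀ m' ∈ M, z * m' = m' * z) ∧ z • ω = ω := by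
  classical
  have hS' := hS
  -- the set of automorphisms induced by elements of `K = M⟨g⟩` fixing `ω`
  let Ind : G → MulAut S → Prop := fun l β =>
    l ∈ Subgroup.normalizer (M : Set G) ∧ ∀ (m m' : M), (m' : G) = l * m * l⁻¹ → β (π m) = π m'
  have Ind_one : Ind 1 1 := by
    refine ⟨Subgroup.one_mem _, ?_⟩
    intro m m' h
    have : m' = m := Subtype.ext (by rw [h]; group)
    rw [this]; rfl
  have Ind_mul : ∀ {l1 l2 : G} {β1 β2 : MulAut S}, Ind l1 β1 → Ind l2 β2 →
      Ind (l1 * l2) (β1 * β2) := by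
    intro l1 l2 β1 β2 h1 h2
    refine ⟨Subgroup.mul_mem _ h1.1 h2.1, ?_⟩
    intro m m' h
    have e2 := h2.2 m ⟨l2 * m * l2⁻¹, norm_conj h2.1 m⟩ rfl
    have e1 := h1.2 ⟨l2 * m * l2⁻¹, norm_conj h2.1 m⟩ m' (by rw [h]; group)
    rw [MulAut.mul_apply, e2, e1]
  have Ind_inv : ∀ {l : G} {β : MulAut S}, Ind l β → Ind l⁻¹ β⁻¹ := by
    intro l β h
    refine ⟨Subgroup.inv_mem _ h.1, ?_⟩
    intro m m' h'
    have := h.2 m' m (by rw [h']; group)
    rw [← this, MulAut.inv_apply_self]
  have Ind_z : ∀ z ∈ Z, ∃ k : ℤ, Ind z (α ^ k) := by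
    intro z hz
    obtain ⟨k, hk⟩ := hα z hz
    exact ⟨k, hg hz, hk⟩
  have Ind_M : ∀ m : M, Ind (m : G) (MulAut.conj (π m)) := by
    intro m
    refine ⟨Subgroup.le_normalizer m.2, ?_⟩
    intro a b h
    have : b = m * a * m⁻¹ := Subtype.ext (by rw [h]; rfl)
    rw [this, MulAut.conj_apply]; simp only [_root_.map_mul, _root_.map_inv]
  have Ind_uniq : ∀ {l : G} {β β' : MulAut S}, Ind l β → Ind l β' → β = β' := by
    intro l β β' h h'
    ext s
    obtain ⟨m, rfl⟩ := hπ s
    rw [h.2 m ⟨_, norm_conj h.1 m⟩ rfl, h'.2 m ⟨_, norm_conj h.1 m⟩ rfl]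
  -- K
  let K : G → Prop := fun l => ∃ m ∈ M, ∃ z ∈ Z, l = m * z
  have hzN : ∀ z ∈ Z, z ∈ Subgroup.normalizer (M : Set G) := fun z hz => hg hz
  have K_mul : ∀ {a b}, K a → K b → K (a * b) := by
    rintro _ _ ⟨m, hm, z, hz, rfl⟩ ⟨m', hm', z', hz', rfl⟩
    refine ⟨m * (z * m' * z⁻¹), M.mul_mem hm (norm_conj (hzN z hz) ⟨m', hm'⟩), z * z',
      Subgroup.mul_mem _ hz hz', by group⟩
  have K_inv : ∀ {a}, K a → K a⁻¹ := by
    rintro _ ⟨m, hm, z, hz, rfl⟩
    refine ⟨z⁻¹ * m⁻¹ * z⁻¹⁻¹, norm_conj (hzN _ (Subgroup.inv_mem _ hz)) ⟨m⁻¹, M.inv_mem hm⟩, z⁻¹,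
      Subgroup.inv_mem _ hz, by group⟩
  let H' : Subgroup (MulAut S) :=
    { carrier := {β | ∃ l, K l ∧ l • ω = ω ∧ Ind l β}
      one_mem' := ⟨1, ⟨1, M.one_mem, 1, Subgroup.one_mem _, by simp⟩, one_smul _ _, Ind_one⟩
      mul_mem' := by
        rintro a b ⟨l, h1, h2, h3⟩ ⟨l', h1', h2', h3'⟩
        exact ⟨l * l', K_mul h1 h1', by rw [mul_smul, h2', h2], Ind_mul h3 h3'⟩
      inv_mem' := by
        rintro a ⟨l, h1, h2, h3⟩
        exact ⟨l⁻¹, K_inv h1, by rw [inv_smul_eq_iff, h2], Ind_inv h3⟩ }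
  -- `H'` does not contain the inner automorphisms
  have hH' : ¬ (MulAut.conj : S →* MulAut S).range ≤ H' := by
    intro hle
    let R : Subgroup S := (((stabilizer G ω).subgroupOf M)).map π
    have hR : R.Normal := by
      constructor
      rintro _ ⟨a, ha, rfl⟩ s
      obtain ⟨l, hlK, hlω, hl⟩ := hle ⟨s, rfl⟩
      have ha' : (a : G) • ω = ω := ha
      refine ⟨⟨l * a * l⁻¹, norm_conj hl.1 a⟩, ?_, ?_⟩
      · show (l * a * l⁻¹) • ω = ω
        rw [mul_smul, mul_smul]
        have : l⁻¹ • ω = ω := by rw [inv_smul_eq_iff, hlω]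
        rw [this, ha', hlω]
      · rw [← hl.2 a ⟨l * a * l⁻¹, norm_conj hl.1 a⟩ rfl]; rfl
    rcases hS.eq_bot_or_eq_top_of_normal R hR with hb | ht
    · -- then `Inn S` is abelian
      apply hSn
      have hMZ : ∀ a : M, (a : G) • ω = ω → π a = 1 := by
        intro a ha
        have : π a ∈ R := ⟨a, ha, rfl⟩
        rw [hb] at this
        exact Subgroup.mem_bot.1 this
      -- commutators of elements of `L` are in `M`
      have hcomm : ∀ s t : S, MulAut.conj s * MulAut.conj t = MulAut.conj t * MulAut.conj s := by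
        intro s t
        obtain ⟨l, ⟨m, hm, z, hz, rfl⟩, hlω, hl⟩ := hle ⟨s, rfl⟩
        obtain ⟨l', ⟨m', hm', z', hz', rfl⟩, hlω', hl'⟩ := hle ⟨t, rfl⟩
        have hzz : z * z' = z' * z := hZc z hz z' hz'
        -- the commutator c = l l' l⁻¹ l'⁻¹
        have hcM : (m * z) * (m' * z') * (m * z)⁻¹ * (m' * z')⁻¹ ∈ M := by
          have e : (m * z) * (m' * z') * (m * z)⁻¹ * (m' * z')⁻¹
              = m * (z * m' * z⁻¹) * ((z * z') * z⁻¹ * m⁻¹ * ((z * z') * z⁻¹)⁻¹) * m'⁻¹ := by
            have : z' = z⁻¹ * (z' * z) := by rw [← hzz]; group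
            have h' : z * z' * z⁻¹ = z' := by rw [hzz]; group
            rw [h']
            have h'' : z * z' * (m * z)⁻¹ = z' * m⁻¹ := by
              rw [mul_inv_rev, ← mul_assoc, h']
            calc (m * z) * (m' * z') * (m * z)⁻¹ * (m' * z')⁻¹
                = m * (z * m' * z⁻¹) * (z * z' * (m * z)⁻¹) * (m' * z')⁻¹ := by group
              _ = m * (z * m' * z⁻¹) * (z' * m⁻¹) * (m' * z')⁻¹ := by rw [h'']
              _ = m * (z * m' * z⁻¹) * (z' * m⁻¹ * z'⁻¹) * m'⁻¹ := by group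
          rw [e]
          refine M.mul_mem (M.mul_mem (M.mul_mem hm (norm_conj (hzN z hz) ⟨m', hm'⟩)) ?_) (M.inv_mem hm')
          have h3 : (z * z') * z⁻¹ ∈ Z :=
            Subgroup.mul_mem _ (Subgroup.mul_mem _ hz hz') (Subgroup.inv_mem _ hz)
          exact norm_conj (hzN _ h3) ⟨m⁻¹, M.inv_mem hm⟩
        have hcω : ((m * z) * (m' * z') * (m * z)⁻¹ * (m' * z')⁻¹) • ω = ω := by
          rw [mul_smul, mul_smul, mul_smul]
          have i1 : (m * z)⁻¹ • ω = ω := by rw [inv_smul_eq_iff, hlω]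
          have i2 : (m' * z')⁻¹ • ω = ω := by rw [inv_smul_eq_iff, hlω']
          rw [i2, i1, hlω', hlω]
        have h1 := Ind_mul (Ind_mul (Ind_mul hl hl') (Ind_inv hl)) (Ind_inv hl')
        have h2 := Ind_M ⟨_, hcM⟩
        have h3 := Ind_uniq h1 h2
        rw [hMZ ⟨_, hcM⟩ hcω, map_one] at h3
        calc MulAut.conj s * MulAut.conj t
            = (MulAut.conj s * MulAut.conj t * (MulAut.conj s)⁻¹ * (MulAut.conj t)⁻¹) *
              (MulAut.conj t * MulAut.conj s) := by group
          _ = MulAut.conj t * MulAut.conj s := by rw [h3, one_mul]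
      -- so S/Z(S) abelian, S simple nonabelian: contradiction
      have hcent : Subgroup.center S = ⊥ ∨ Subgroup.center S = ⊤ :=
        hS.eq_bot_or_eq_top_of_normal _ inferInstance
      constructor
      constructor
      intro s t
      rcases hcent with hc | hc
      · have h4 : MulAut.conj (s * t * s⁻¹ * t⁻¹) = 1 := by
          rw [map_mul, map_mul, map_mul, map_inv, map_inv, hcomm s t]; group
        have h5 : s * t * s⁻¹ * t⁻¹ ∈ Subgroup.center S := by
          rw [Subgroup.mem_center_iff]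
          intro u
          have := congrArg (fun f : MulAut S => f u) h4
          simp only [MulAut.conj_apply, MulAut.one_apply] at this
          calc u * (s * t * s⁻¹ * t⁻¹) = ((s * t * s⁻¹ * t⁻¹) * u * (s * t * s⁻¹ * t⁻¹)⁻¹) * (s * t * s⁻¹ * t⁻¹) := by rw [this]
            _ = s * t * s⁻¹ * t⁻¹ * u := by group
        rw [hc, Subgroup.mem_bot] at h5
        calc s * t = (s * t * s⁻¹ * t⁻¹) * (t * s) := by group
          _ = t * s := by rw [h5, one_mul]
      · have : t ∈ Subgroup.center S := by rw [hc]; trivial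
        exact Subgroup.mem_center_iff.1 this s
    · -- then `M ≤ stabilizer`
      apply hω
      have hcov : ∀ m ∈ M, ∃ a ∈ M, a • ω = ω ∧ ∀ m' ∈ M, Commute (a⁻¹ * m) m' := by
        intro m hm
        have : π ⟨m, hm⟩ ∈ R := by rw [ht]; trivial
        obtain ⟨a, ha, hae⟩ := this
        refine ⟨a, a.2, ha, ?_⟩
        intro m' hm'
        have h1 : a⁻¹ * ⟨m, hm⟩ ∈ π.ker := by
          rw [MonoidHom.mem_ker, map_mul, map_inv, hae, inv_mul_cancel]
        have h2 := Subgroup.mem_center_iff.1 (hker h1) ⟨m', hm'⟩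
        have h3 := congrArg (Subtype.val) h2
        exact h3.symm
      conv_lhs => rw [← hperf]
      rw [Subgroup.commutator_le]
      intro a ha b hb
      obtain ⟨a', ha', haω, hac⟩ := hcov a ha
      obtain ⟨b', hb', hbω, hbc⟩ := hcov b hb
      have e : ⁅a, b⁆ = ⁅a', b'⁆ := by
        have ea : a = a' * (a'⁻¹ * a) := by group
        have eb : b = b' * (b'⁻¹ * b) := by group
        set c := a'⁻¹ * a with hc
        set d := b'⁻¹ * b with hd
        have hcM : c ∈ M := M.mul_mem (M.inv_mem ha') ha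
        have hdM : d ∈ M := M.mul_mem (M.inv_mem hb') hb
        rw [ea, eb]
        simp only [commutatorElement_def, mul_inv_rev]
        have c1 : Commute c b' := hac b' hb'
        have c2 : Commute c d := hac d hdM
        have c3 : Commute d a' := hbc a' ha'
        have c4 : Commute c a' := hac a' ha'
        have c5 : Commute d b' := hbc b' hb'
        calc a' * c * (b' * d) * (c⁻¹ * a'⁻¹) * (d⁻¹ * b'⁻¹)
            = a' * (c * (b' * d)) * c⁻¹ * a'⁻¹ * d⁻¹ * b'⁻¹ := by group
          _ = a' * ((b' * d) * c) * c⁻¹ * a'⁻¹ * d⁻¹ * b'⁻¹ := by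
              rw [(Commute.mul_right c1 c2).eq]
          _ = a' * b' * (d * a'⁻¹) * d⁻¹ * b'⁻¹ := by group
          _ = a' * b' * (a'⁻¹ * d) * d⁻¹ * b'⁻¹ := by rw [(c3.inv_right).eq]
          _ = a' * b' * a'⁻¹ * b'⁻¹ := by group
      rw [e]
      have ha1 : a' ∈ stabilizer G ω := haω
      have hb1 : b' ∈ stabilizer G ω := hbω
      rw [commutatorElement_def]
      exact Subgroup.mul_mem _ (Subgroup.mul_mem _ (Subgroup.mul_mem _ ha1 hb1)
        (Subgroup.inv_mem _ ha1)) (Subgroup.inv_mem _ hb1)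
  obtain ⟨s, hs⟩ := hRC H' hH'
  obtain ⟨m0, hm0⟩ := hπ s
  refine ⟨(m0 : G)⁻¹, M.inv_mem m0.2, ?_⟩
  intro z hz hzω
  obtain ⟨k, hIk⟩ := Ind_z z hz
  have hfix : ((m0 : G) * z * (m0 : G)⁻¹) • ω = ω := by
    rw [mul_smul, mul_smul, hzω, smul_inv_smul]
  have hK : K ((m0 : G) * z * (m0 : G)⁻¹) := by
    refine K_mul (K_mul ?_ ?_) ?_
    · exact ⟨m0, m0.2, 1, Subgroup.one_mem _, by simp⟩
    · exact ⟨1, M.one_mem, z, hz, by simp⟩
    · exact ⟨(m0 : G)⁻¹, M.inv_mem m0.2, 1, Subgroup.one_mem _, by simp⟩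
  have hI : Ind ((m0 : G) * z * (m0 : G)⁻¹) (MulAut.conj s * α ^ k * (MulAut.conj s)⁻¹) := by
    have h1 := Ind_mul (Ind_mul (Ind_M m0) hIk) (Ind_inv (Ind_M m0))
    rwa [hm0] at h1
  have h1 := hs (α ^ k) (Subgroup.zpow_mem_zpowers α k) ⟨_, hK, hfix, hI⟩
  -- hence `z` centralises `M`
  have htriv : ∀ m' ∈ M, z * m' = m' * z := by
    rw [h1] at hIk
    have hval : ∀ m ∈ M, ∃ (h : z * m * z⁻¹ * m⁻¹ ∈ M),
        (⟨_, h⟩ : M) ∈ Subgroup.center M := by
      intro m hm
      have hm1 : z * m * z⁻¹ ∈ M := norm_conj hIk.1 ⟨m, hm⟩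
      refine ⟨M.mul_mem hm1 (M.inv_mem hm), hker ?_⟩
      rw [MonoidHom.mem_ker]
      have h2 := hIk.2 ⟨m, hm⟩ ⟨_, hm1⟩ rfl
      have h3 : (⟨z * m * z⁻¹ * m⁻¹, M.mul_mem hm1 (M.inv_mem hm)⟩ : M)
          = ⟨z * m * z⁻¹, hm1⟩ * (⟨m, hm⟩ : M)⁻¹ := rfl
      rw [h3, map_mul, map_inv, ← h2]
      simp
    apply central_triv hperf
    · intro m hm
      exact (hval m hm).1
    · intro m hm m' hm'
      obtain ⟨h, hc⟩ := hval m hm
      have := Subgroup.mem_center_iff.1 hc ⟨m', hm'⟩
      exact (congrArg Subtype.val this).symm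
  refine ⟨htriv, ?_⟩
  have h2 := htriv _ (M.inv_mem m0.2)
  rw [← mul_smul, h2, mul_smul] at hzω
  exact smul_left_cancel _ hzω

/-- **The M-rule for a commuting family** whose members induce powers of one automorphism -/
theorem mrule_ab {G Ω S ι : Type*} [Group G] [MulAction G Ω] [Group S]
    (hS : IsSimpleGroup S) (hSn : ¬ IsMulCommutative S) (x : ι → G) (hc : ∀ i j, x i * x j = x j * x i)
    (M : Subgroup G) (hperf : ⁅M, M⁆ = M) (π : M →* S)
    (hπ : Function.Surjective π) (hker : π.ker ≤ Subgroup.center M)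
    (hnorm : ∀ i, x i ∈ Subgroup.normalizer (M : Set G)) (α : MulAut S)
    (hα : ∀ i, ∃ k : ℤ, ∀ m m' : M, (m' : G) = x i * m * (x i)⁻¹ → (α ^ k) (π m) = π m') (hRC : RCe S α)
    (ω : Ω) (hcov : ∀ m ∈ M, ∃ i, x i • m • ω = m • ω) :
    M ≤ stabilizer G ω ∨ ∃ j, (∀ m ∈ M, x j * m = m * x j) ∧ x j • ω = ω := by
  by_cases hω : M ≤ stabilizer G ω
  · exact Or.inl hω
  right
  have hle : Subgroup.closure (Set.range x) ≤ Subgroup.normalizer (M : Set G) := by
    rw [Subgroup.closure_le]
    rintro _ ⟨i, rfl⟩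
    exact hnorm i
  have hcomm : ∀ z ∈ Subgroup.closure (Set.range x), ∀ z' ∈ Subgroup.closure (Set.range x), z * z' = z' * z := by
    intro z hz z' hz'
    induction hz, hz' using Subgroup.closure_induction₂ with
    | mem a b ha hb =>
      obtain ⟨i, rfl⟩ := ha
      obtain ⟨j, rfl⟩ := hb
      exact hc i j
    | one_left a _ => simp
    | one_right a _ => simp
    | mul_left a b c _ _ _ h1 h2 => rw [mul_assoc, h2, ← mul_assoc, h1, mul_assoc]
    | mul_right a b c _ _ _ h1 h2 => rw [← mul_assoc, h1, mul_assoc, h2, mul_assoc]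
    | inv_left a b _ _ h => exact (Commute.inv_left h : Commute a⁻¹ b)
    | inv_right a b _ _ h => exact (Commute.inv_right h : Commute a b⁻¹)
  have hα' : ∀ z ∈ Subgroup.closure (Set.range x), ∃ k : ℤ, ∀ m m' : M, (m' : G) = z * m * z⁻¹ →
      (α ^ k) (π m) = π m' := by
    intro z hz
    induction hz using Subgroup.closure_induction with
    | mem a ha =>
      obtain ⟨i, rfl⟩ := ha
      exact hα i
    | one =>
      refine ⟨0, fun m m' h => ?_⟩
      have : m' = m := Subtype.ext (by rw [h]; group)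
      rw [this, zpow_zero]
      rfl
    | mul a b ha hb h1 h2 =>
      obtain ⟨k, hk⟩ := h1
      obtain ⟨l, hl⟩ := h2
      refine ⟨k + l, fun m m' h => ?_⟩
      have e2 := hl m ⟨b * m * b⁻¹, norm_conj (hle hb) m⟩ rfl
      have e1 := hk ⟨b * m * b⁻¹, norm_conj (hle hb) m⟩ m' (by rw [h]; group)
      rw [zpow_add, MulAut.mul_apply, e2, e1]
    | inv a ha h1 =>
      obtain ⟨k, hk⟩ := h1
      refine ⟨-k, fun m m' h => ?_⟩
      have h2 := hk m' m (by rw [h]; group)
      rw [← h2, zpow_neg, MulAut.inv_apply_self]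
  obtain ⟨m, hm, hmz⟩ := mrule_sub hS hSn M hperf π hπ hker (Subgroup.closure (Set.range x)) hcomm hle α hα' hRC ω hω
  obtain ⟨i, hi⟩ := hcov m hm
  exact ⟨i, hmz (x i) (Subgroup.subset_closure ⟨i, rfl⟩) hi⟩

end Cfsg.Agent.H452.RC
end

-- part: H452/RC/GDec
section
/-!
# S3510, family E (unitary groups): the general rule DEC (helper452)

* `gdec_main : GDecStmt`.
-/

set_option autoImplicit false
set_option linter.unusedSectionVars false

namespace Cfsg.Agent.H452.RC

open Matrix Cfsg Module Cfsg.Agent.LieClassical.HermBasic Cfsg.Agent.LieClassical.HermSiegel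
  Cfsg.Agent.LieClassical.HermGen Cfsg.Agent.LieClassical.SUBasic Cfsg.Agent.ClassicalGeometry.PSUAutBasic
  Cfsg.Agent.ClassicalGeometry.PSUAutCount Cfsg.Agent.LieClassical.FieldTransfer Cfsg.Agent.ClassicalGeometry
open Cfsg.Agent.H380.RC
open Cfsg.Agent.H189.SN (ON phi Im Im_mulVec phi_Im phi_perp phi_injective pr_phi_injective herm_Im herm_Im_perp
  decomp Im_injective exists_perp)

section iter

variable {F : Type*} [Field F] {m q : ℕ}

theorem sl_surjective (B : GU m F q) (ρ : F ≃+* F) : Function.Surjective (sl B ρ) := by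
  intro x
  refine ⟨fun i => ρ.symm ((gm B⁻¹ *ᵥ x) i), ?_⟩
  rw [sl_def]
  simp only [RingEquiv.apply_symm_apply]
  exact gm_mulVec_inv B x

theorem act_semiConj_pow (B : GU m F q) (ρ : F ≃+* F) (k : ℕ) :
    ∀ (a : SU m F q) (v : Fin m → F), act ((semiConj B ρ ^ k) a) ((sl B ρ)^[k] v) = (sl B ρ)^[k] (act a v) := by
  induction k with
  | zero => intro a v; rfl
  | succ k ih =>
    intro a v
    rw [pow_succ, MulAut.mul_apply, Function.iterate_succ_apply, ih, Function.iterate_succ_apply]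
    congr 1
    exact act_semiConj B ρ a v

theorem semiConj_eq_pow {B C : GU m F q} {ρ σ : F ≃+* F} {c : F} {k : ℕ} (h : ∀ v, sl B ρ v = c • (sl C σ)^[k] v)
    (a : SU m F q) : semiConj B ρ a = (semiConj C σ ^ k) a := by
  apply ext_act
  intro x
  obtain ⟨v, rfl⟩ := sl_surjective B ρ x
  have h1 : act (semiConj B ρ a) (sl B ρ v) = sl B ρ (act a v) := act_semiConj B ρ a v
  rw [h1, h, h, act_smul, act_semiConj_pow]

theorem toAut_pow_pr (B : GU m F q) (ρ : F ≃+* F) (k : ℕ) (a : SU m F q) :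
    (toAut B ρ ^ k) (pr m F q a) = pr m F q ((semiConj B ρ ^ k) a) := by
  induction k generalizing a with
  | zero => rfl
  | succ k ih =>
    rw [pow_succ, MulAut.mul_apply, pow_succ, MulAut.mul_apply, ← ih, PSUAutMain.toAut_pr']

theorem toAut_pow_eq_one [Fintype F] {C : GU m F q} {σ : F ≃+* F} {c : F} {k : ℕ}
    (h : ∀ v, v = c • (sl C σ)^[k] v) : toAut C σ ^ k = 1 := by
  ext s
  obtain ⟨a, rfl⟩ := pr_surjective s
  rw [toAut_pow_pr, MulAut.one_apply]
  have h1 : (semiConj C σ ^ k) a = semiConj (1 : GU m F q) 1 a := by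
    symm
    apply semiConj_eq_pow (c := c)
    intro v
    rw [← h v, sl_def, gm_one, one_mulVec]
    rfl
  rw [h1, ← PSUAutMain.toAut_pr', Cfsg.Agent.H189.SN.toAut_one, MulAut.one_apply]

end iter

section two

variable {F : Type*} [Field F] [Fintype F] {m q : ℕ}

/-- three vectors in a plane, pairwise independent -/
theorem exists_three (hF : Fintype.card F = q ^ 2) :
    ∃ t : Fin 3 → F, Function.Injective t ∧ ∀ i, t i * t i ^ q = -1 := by
  classical
  have h1 := card_norm_eq hF (c := (-1 : F)) (by rw [neg_pow_q hF, one_pow]) (neg_ne_zero.2 one_ne_zero)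
  have h2 := two_le hF
  rw [Nat.card_eq_fintype_card] at h1
  have h3 : 2 < Fintype.card {x : F // x * x ^ q = -1} := by omega
  obtain ⟨a, b, c, hab, hac, hbc⟩ := Fintype.two_lt_card_iff.1 h3
  refine ⟨![a, b, c], ?_, ?_⟩
  · have h1 : (a : F) ≠ b := fun h => hab (Subtype.ext h)
    have h2 : (a : F) ≠ c := fun h => hac (Subtype.ext h)
    have h3 : (b : F) ≠ c := fun h => hbc (Subtype.ext h)
    intro i j h
    fin_cases i <;> fin_cases j <;> simp_all only [eq_comm, _root_.ne_eq, _root_.Fin.zero_eta, _root_.Fin.isValue, _root_.Matrix.cons_val_zero, _root_.Fin.mk_one, _root_.Matrix.cons_val_one, _root_.Fin.reduceFinMk, _root_.Matrix.cons_val]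
  · intro i
    fin_cases i
    · exact a.2
    · exact b.2
    · exact c.2

/-- an element of `GU_2(q)` which centralises `SU_2(q)` is a scalar -/
theorem scalar_two (hF : Fintype.card F = q ^ 2) {B : GU 2 F q} (hB : ∀ a : SU 2 F q, semiConj B 1 a = a) :
    ∃ c : F, ∀ v, sl B 1 v = c • v := by
  have hadd : ∀ v w, sl B 1 (v + w) = sl B 1 v + sl B 1 w := sl_add B 1
  have hsmul : ∀ (c : F) v, sl B 1 (c • v) = c • sl B 1 v := sl_smul B 1
  obtain ⟨μ, hμ0, hμ⟩ := exists_trace_zero_ne (F := F) (q := q) hF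
  -- singular vectors are eigenvectors
  have hsing : ∀ e : Fin 2 → F, e ≠ 0 → hermForm 2 F q e e = 0 → ∃ c : F, sl B 1 e = c • e := by
    intro e he0 he
    obtain ⟨v, hv⟩ := exists_herm_ne_zero hF he0
    have hv' : hermForm 2 F q v e ≠ 0 := fun h0 => hv (herm_eq_zero_swap hF h0)
    have h1 : act (semiConj B 1 (transv hF e he μ hμ)) (sl B 1 v) = sl B 1 (act (transv hF e he μ hμ) v) :=
      act_semiConj B 1 _ v
    rw [hB, act_transv, act_transv, hadd, hsmul, add_right_inj] at h1
    have h2 : μ * hermForm 2 F q v e ≠ 0 := mul_ne_zero hμ0 hv'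
    refine ⟨(μ * hermForm 2 F q v e)⁻¹ * (μ * hermForm 2 F q (sl B 1 v) e), ?_⟩
    rw [mul_smul, h1, smul_smul, inv_mul_cancel₀ h2, one_smul]
  obtain ⟨t, ht1, ht2⟩ := exists_three hF
  have hv : ∀ i, ∃ c : F, sl B 1 ![1, t i] = c • ![1, t i] := by
    intro i
    apply hsing
    · intro h
      have h1 := congrFun h 0
      exact one_ne_zero h1
    · rw [herm_def, Fin.sum_univ_two]
      show (1 : F) * 1 ^ q + t i * t i ^ q = 0
      rw [ht2, one_pow]
      ring
  choose c hc using hv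
  have ht01 : t 0 - t 1 ≠ 0 := sub_ne_zero.2 fun h => by simpa using ht1 h
  have ht02 : t 0 - t 2 ≠ 0 := sub_ne_zero.2 fun h => by simpa using ht1 h
  have ht12 : t 1 - t 2 ≠ 0 := sub_ne_zero.2 fun h => by simpa using ht1 h
  -- the third vector
  have h3 : (![1, t 2] : Fin 2 → F) = ((t 2 - t 1) * (t 0 - t 1)⁻¹) • ![1, t 0] +
      ((t 0 - t 2) * (t 0 - t 1)⁻¹) • ![1, t 1] := by
    funext i
    fin_cases i
    · show (1 : F) = (t 2 - t 1) * (t 0 - t 1)⁻¹ * 1 + (t 0 - t 2) * (t 0 - t 1)⁻¹ * 1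
      field_simp
      ring
    · show t 2 = (t 2 - t 1) * (t 0 - t 1)⁻¹ * t 0 + (t 0 - t 2) * (t 0 - t 1)⁻¹ * t 1
      field_simp
      ring
  have h4 := hc 2
  rw [h3, hadd, hsmul, hsmul, hc 0, hc 1] at h4
  have e0 := congrFun h4 0
  have e1 := congrFun h4 1
  simp only [Pi.add_apply, Pi.smul_apply, smul_eq_mul, Matrix.cons_val_zero, Matrix.cons_val_one, mul_one] at e0 e1
  have f0 : (t 2 - t 1) * c 0 + (t 0 - t 2) * c 1 = c 2 * (t 0 - t 1) := by
    field_simp at e0
    linear_combination e0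
  have f1 : (t 2 - t 1) * (c 0 * t 0) + (t 0 - t 2) * (c 1 * t 1) = c 2 * (t 2 * (t 0 - t 1)) := by
    field_simp at e1
    linear_combination e1
  have f2 : (t 2 - t 1) * (t 0 - t 2) * (c 0 - c 1) = 0 := by linear_combination f1 - t 2 * f0
  have f3 : c 0 = c 1 := by
    rcases mul_eq_zero.1 f2 with h | h
    · rcases mul_eq_zero.1 h with h | h
      · exact absurd (by linear_combination -h : t 1 - t 2 = 0) ht12
      · exact absurd h ht02
    · exact sub_eq_zero.1 h
  refine ⟨c 0, fun v => ?_⟩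
  -- basis
  have h6 : v = ((v 1 - t 1 * v 0) * (t 0 - t 1)⁻¹) • ![1, t 0] + ((t 0 * v 0 - v 1) * (t 0 - t 1)⁻¹) • ![1, t 1] := by
    funext i
    fin_cases i
    · show v 0 = (v 1 - t 1 * v 0) * (t 0 - t 1)⁻¹ * 1 + (t 0 * v 0 - v 1) * (t 0 - t 1)⁻¹ * 1
      field_simp
      ring
    · show v 1 = (v 1 - t 1 * v 0) * (t 0 - t 1)⁻¹ * t 0 + (t 0 * v 0 - v 1) * (t 0 - t 1)⁻¹ * t 1
      field_simp
      ring
  rw [h6, hadd, hsmul, hsmul, hc, hc, ← f3, smul_add]
  congr 1 <;> rw [smul_comm]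

end two

end Cfsg.Agent.H452.RC
end

-- part: H452/RC/GDecMain
section
/-!
# S3510, family E (unitary groups): the general rule DEC, main theorem (helper452)

* `exists_C` : the matrix of an isometry of `A`; `Rs.rho_eq_one`; `induces` : `x i` induces a power of `toAut C 1`;
* `gdec_main : GDecStmt`.
-/

set_option autoImplicit false
set_option linter.unusedSectionVars false

namespace Cfsg.Agent.H452.RC

open Matrix Cfsg Module Cfsg.Agent.LieClassical.HermBasic Cfsg.Agent.LieClassical.HermSiegel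
  Cfsg.Agent.LieClassical.HermGen Cfsg.Agent.LieClassical.SUBasic Cfsg.Agent.ClassicalGeometry.PSUAutBasic
  Cfsg.Agent.ClassicalGeometry.PSUAutCount Cfsg.Agent.LieClassical.FieldTransfer Cfsg.Agent.ClassicalGeometry
open Cfsg.Agent.H380.RC
open Cfsg.Agent.H189.SN (ON phi Im Im_mulVec phi_Im phi_perp phi_injective pr_phi_injective herm_Im herm_Im_perp
  decomp Im_injective exists_perp)

section C

variable {F : Type*} [Field F] [Fintype F] {n m q : ℕ}

/-- the matrix of an isometry of `A` -/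
theorem exists_C (hF : Fintype.card F = q ^ 2) {A : Submodule F (Fin n → F)} {b : Fin m → (Fin n → F)} (hb : ON q b)
    (hbA : ∀ c, Im b *ᵥ c ∈ A) (hAb : ∀ v ∈ A, ∃ c, v = Im b *ᵥ c) {g : (Fin n → F) → (Fin n → F)}
    (hadd : ∀ v w, g (v + w) = g v + g w) (hlin : Lin g) (hst : Stab g A)
    (hiso : ∀ v ∈ A, ∀ w ∈ A, hermForm n F q (g v) (g w) = hermForm n F q v w) :
    ∃ C : GU m F q, ∀ c, g (Im b *ᵥ c) = Im b *ᵥ sl C 1 c := by
  have hbi : ∀ i, b i ∈ A := by
    intro i
    have h1 := hbA (Pi.single i 1)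
    rwa [Im_mulVec, Finset.sum_eq_single i, Pi.single_eq_same, one_smul] at h1
    · intro k _ hk
      rw [Pi.single_eq_of_ne hk, zero_smul]
    · intro h
      exact absurd (Finset.mem_univ i) h
  have h1 : ∀ i, ∃ d, g (b i) = Im b *ᵥ d := fun i => hAb _ (hst _ (hbi i))
  choose d hd using h1
  let M : Matrix (Fin m) (Fin m) F := Matrix.of fun i j => d j i
  have hM : ∀ c, g (Im b *ᵥ c) = Im b *ᵥ (M *ᵥ c) := by
    intro c
    let gL : (Fin n → F) →ₗ[F] (Fin n → F) := { toFun := g, map_add' := hadd, map_smul' := hlin }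
    have h2 : g (Im b *ᵥ c) = ∑ i, c i • (Im b *ᵥ d i) := by
      show gL (Im b *ᵥ c) = _
      rw [Im_mulVec, map_sum]
      refine Finset.sum_congr rfl fun i _ => ?_
      rw [map_smul, ← hd]
      rfl
    have h3 : M *ᵥ c = ∑ i, c i • d i := by
      ext i
      simp only [M, Matrix.mulVec, dotProduct, Matrix.of_apply, Finset.sum_apply, Pi.smul_apply, smul_eq_mul]
      exact Finset.sum_congr rfl fun j _ => mul_comm _ _
    rw [h2, h3, mulVec_sum]
    exact Finset.sum_congr rfl fun i _ => (mulVec_smul _ _ _).symm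
  obtain ⟨C, hC, hCM⟩ := HermOrtho.exists_GU_of_isometry hF (M := M) (fun u v => by
    rw [← herm_Im hF hb, ← hM, ← hM, hiso _ (hbA _) _ (hbA _), herm_Im hF hb])
  refine ⟨⟨C, hC⟩, fun c => ?_⟩
  rw [hM, sl_def, gm_def, ← hCM]
  rfl

theorem iter_C {b : Fin m → (Fin n → F)} {g : (Fin n → F) → (Fin n → F)} {C : GU m F q}
    (hC : ∀ c, g (Im b *ᵥ c) = Im b *ᵥ sl C 1 c) (k : ℕ) (c : Fin m → F) :
    g^[k] (Im b *ᵥ c) = Im b *ᵥ (sl C 1)^[k] c := by
  induction k with
  | zero => rfl
  | succ k ih => rw [Function.iterate_succ_apply', ih, hC, Function.iterate_succ_apply']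

end C

section ind

variable {G Ω : Type*} [Group G] [MulAction G Ω] {N : Subgroup G} {F : Type*} [Field F] [Fintype F] {n m q : ℕ}
  {U : UEnv G Ω N F n q} {b : Fin m → (Fin n → F)} {hb : ON q b}

theorem Rs.rho_eq_one {x : G} {f : (Fin n → F) → (Fin n → F)} {B : GU m F q} {ρ : F ≃+* F} (h : Rs U hb x f B ρ)
    (hl : Lin f) (hm : 0 < m) : ρ = 1 := by
  have he : (Pi.single (⟨0, hm⟩ : Fin m) (1 : F) : Fin m → F) ≠ 0 := by
    intro h1
    have h2 := congrFun h1 ⟨0, hm⟩
    rw [Pi.single_eq_same] at h2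
    exact one_ne_zero h2
  set e : Fin m → F := Pi.single ⟨0, hm⟩ 1 with hedef
  have hw : sl B ρ e ≠ 0 := by
    intro h1
    have h2 := h.eq e
    rw [h1, mulVec_zero, ← Ind.map_zero h.lft] at h2
    have h3 := Ind.injective h.lft h2
    apply he
    apply Im_injective hb
    change Im b *ᵥ e = Im b *ᵥ 0
    rw [h3, mulVec_zero]
  apply RingEquiv.ext
  intro a
  have h1 : Im b *ᵥ (ρ a • sl B ρ e) = Im b *ᵥ (a • sl B ρ e) := by
    rw [← sl_smul, ← h.eq, mulVec_smul, hl, h.eq, mulVec_smul]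
  have h2 : ρ a • sl B ρ e = a • sl B ρ e := Im_injective hb h1
  have h3 : (ρ a - a) • sl B ρ e = 0 := by rw [sub_smul, h2, sub_self]
  rcases smul_eq_zero.1 h3 with h4 | h4
  · exact sub_eq_zero.1 h4
  · exact absurd h4 hw

/-- `x` induces a power of `toAut C 1` -/
theorem Rs.induces (hmn : m < n) {x : G} {f : (Fin n → F) → (Fin n → F)} {B : GU m F q}
    {ρ : F ≃+* F} (h : Rs U hb x f B ρ) {C : GU m F q} {σ : F ≃+* F} {c : F} {k : ℕ}
    (hk : ∀ v, sl B ρ v = c • (sl C σ)^[k] v) (y y' : MM U hb) (hy : (y' : G) = x * y * x⁻¹) :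
    (toAut C σ ^ (k : ℤ)) (pi U hb hmn y) = pi U hb hmn y' := by
  obtain ⟨_, a, rfl⟩ := y
  have h1 : y' = ⟨ph U hb (semiConj B ρ a), ph_mem U hb _⟩ := Subtype.ext (by rw [hy]; exact h.semi a)
  rw [h1, zpow_natCast]
  change (toAut C σ ^ k) (pi U hb hmn ⟨ph U hb a, ph_mem U hb a⟩) = _
  rw [pi_ph, pi_ph, toAut_pow_pr, semiConj_eq_pow hk]

/-- linear elements commuting with `SU(A)` are scalars on `A` -/
theorem scalar_of_comm' (hm : 2 ≤ m) (hmn : m < n) {x : G} {f : (Fin n → F) → (Fin n → F)} (hx : U.Lft x f)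
    (hl : Lin f) (hA : ∀ i, ∃ c : Fin m → F, f (b i) = Im b *ᵥ c) (hc : ∀ y ∈ MM U hb, x * y = y * x) :
    ∃ c : F, ∀ d, f (Im b *ᵥ d) = c • (Im b *ᵥ d) := by
  rcases Nat.lt_or_ge 2 m with h3 | h3
  · exact scalar_of_comm U hb h3 hmn hx hA hc
  · have hm2 : m = 2 := by omega
    subst hm2
    obtain ⟨B, ρ, h⟩ := exists_rs U hb hx hA
    have hρ := h.rho_eq_one hl two_pos
    subst hρ
    have h1 : ∀ a, semiConj B 1 a = a := by
      intro a
      apply ph_injective U hb hmn
      rw [← h.semi, hc _ (ph_mem U hb a), mul_inv_cancel_right]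
    obtain ⟨c, hc⟩ := scalar_two U.hF h1
    refine ⟨c, fun d => ?_⟩
    rw [h.eq, hc, mulVec_smul]

end ind

/-- **Box E4g (general DEC)** -/
theorem gdec_main : GDecStmt := by
  intro G Ω _ _ _ _ _ N F _ _ n q U ι _ x f hfam hcov A g hA hAtop hA2 hA32 hA23 hst hsc hadd hlin hgst hiso hpow
    halt
  obtain ⟨b, hb, hbA, hAb⟩ := exists_basis U.hF hA rfl
  have hmn : finrank F A < n := by
    have h1 := Submodule.finrank_lt hAtop
    rwa [finrank_fin_fun] at h1
  have hbi : ∀ i, b i ∈ A := by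
    intro i
    have h1 := hbA (Pi.single i 1)
    rwa [Im_mulVec, Finset.sum_eq_single i, Pi.single_eq_same, one_smul] at h1
    · intro k _ hk
      rw [Pi.single_eq_of_ne hk, zero_smul]
    · intro h
      exact absurd (Finset.mem_univ i) h
  have hinv : ∀ i j, ∃ c, f i (b j) = Im b *ᵥ c := fun i j => hAb _ ((hst i).2 _ (hbi j))
  obtain ⟨C, hC⟩ := exists_C U.hF hb hbA hAb hadd hlin hgst hiso
  have hxc : ∀ i j, x i * x j = x j * x i := by
    intro i j
    refine (UEnv.Lft.mul (hfam.lft i) (hfam.lft j)).inj ?_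
    have h1 := UEnv.Lft.mul (hfam.lft j) (hfam.lft i)
    have h2 : (fun v => f i (f j v)) = fun v => f j (f i v) := funext (hfam.comm i j)
    rwa [h2]
  -- `SU(A)`
  have hfacts : IsSimpleGroup (PSU (finrank F A) F q) ∧ ¬ IsMulCommutative (PSU (finrank F A) F q) ∧
      commutator (SU (finrank F A) F q) = ⊤ := by
    rcases Nat.lt_or_ge 2 (finrank F A) with h3 | h3
    · have h4 := LieClassical.HermPerfect.commutator_SU_eq_top U.hF h3 hA32
      exact ⟨LieClassical.HermSimple.isSimpleGroup_of_perfect U.hF h3 h4, Cfsg.Agent.H189.SN.psu_nc U.hF h3 hA32, h4⟩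
    · have hm2 : finrank F A = 2 := by omega
      have hq : 4 ≤ q := by
        by_contra hq
        exact hA23 ⟨hm2, by omega⟩
      rw [hm2]
      exact ⟨simple_two U.hF hq, nc_two U.hF hq, comm_two U.hF hq⟩
  obtain ⟨hS, hSn, hperf⟩ := hfacts
  have hRC : H106.RC.RCe (PSU (finrank F A) F q) (toAut C 1) := by
    rcases halt with ⟨-, h⟩ | ⟨h, h'⟩ | ⟨r, k, hr, c, hc⟩
    · exact h _
    · have h1 := rc_two U.hF h'
      have h2 : ∀ m, m = 2 → H106.RC.RC (PSU m F q) := by
        rintro m rfl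
        exact h1
      exact h2 _ h _
    · have h1 : toAut C 1 ^ (r ^ k) = 1 := by
        by_cases hc0 : c = 0
        · exfalso
          obtain ⟨v, hv, hv0⟩ : ∃ v ∈ A, v ≠ 0 := by
            have h2 : A ≠ ⊥ := by
              rintro rfl
              rw [finrank_bot] at hA2
              omega
            exact (Submodule.ne_bot_iff A).1 h2
          have hz : ∀ (j : ℕ), ∀ w ∈ A, g^[j] w = 0 → w = 0 := by
            intro j
            induction j with
            | zero => intro w _ h; exact h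
            | succ j ih =>
              intro w hw h
              rw [Function.iterate_succ_apply] at h
              have h2 := ih _ (hgst w hw) h
              apply hA w hw
              intro u hu
              rw [← hiso w hw u hu, h2, herm_zero_left]
          exact hv0 (hz _ v hv (by rw [hc v hv, hc0, zero_smul]))
        · apply toAut_pow_eq_one (c := c⁻¹)
          intro v
          apply Im_injective hb
          change Im b *ᵥ v = Im b *ᵥ (c⁻¹ • (sl C 1)^[r ^ k] v)
          rw [mulVec_smul, ← iter_C hC, hc _ (hbA v), smul_smul, inv_mul_cancel₀ hc0, one_smul]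
      obtain ⟨j, -, hj⟩ := (Nat.dvd_prime_pow hr).1 (orderOf_dvd_of_pow_eq_one h1)
      exact H106.RC.rce_of_prime_pow hS _ hr hj
  refine dec_of rootStmt U x f hfam.ne hfam.lft hxc hb hA2 (fun i hi => ?_) (fun ω => ?_)
  · obtain ⟨c, hc⟩ := scalar_of_comm' hA2 hmn (hfam.lft i) (hst i).1 (hinv i) hi
    refine ⟨⟨c, hc⟩, hsc i ⟨c, fun v hv => ?_⟩⟩
    obtain ⟨d, rfl⟩ := hAb v hv
    exact hc d
  · refine mrule_ab hS hSn x hxc (MM U hb) (MM_perf U hb hperf) (pi U hb hmn) (pi_surjective U hb hmn)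
      (pi_ker U hb hmn) (fun i => mem_normalizer U hb (hfam.lft i) (hinv i)) (toAut C 1) (fun i => ?_) hRC ω
      (fun m _ => hcov _)
    obtain ⟨B, ρ, hB⟩ := exists_rs U hb (hfam.lft i) (hinv i)
    have hρ := hB.rho_eq_one (hst i).1 (by omega)
    subst hρ
    obtain ⟨k, c, hk⟩ := hpow i
    refine ⟨k, fun y y' hy => hB.induces hmn (c := c) (fun v => ?_) y y' hy⟩
    apply Im_injective hb
    change Im b *ᵥ sl B 1 v = Im b *ᵥ (c • (sl C 1)^[k] v)
    rw [← hB.eq, hk _ (hbA v), iter_C hC, mulVec_smul]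

end Cfsg.Agent.H452.RC
end
end

-- part: H438/RC/GraphSym
section
prune_inst 0x2070040540120000000580532000002000042000000000000000020000800000020800080000020200000100000008110000900240000004000000000000000000100420000000000080000000000000000000000000000000000000000000000000000
set_option linter.all false
open scoped Cfsg.Agent.FastGrp

-- part: H438/RC/SymAsm
section
/-!
# S3510, E13: the assembly (helper438)
-/

set_option autoImplicit false

namespace Cfsg.Agent.H438.RC

open Matrix Cfsg Cfsg.Agent.LieClassical.HermBasic Cfsg.Agent.LieClassical.HermSiegel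
  Cfsg.Agent.LieClassical.HermGen Cfsg.Agent.LieClassical.SUBasic Cfsg.Agent.ClassicalGeometry.PSUAutBasic
  Cfsg.Agent.ClassicalGeometry.PSUAutCount Cfsg.Agent.LieClassical.FieldTransfer Cfsg.Agent.ClassicalGeometry
  Cfsg.Agent.H380.RC

end Cfsg.Agent.H438.RC
end

-- part: H438/RC/SymDelta
section
/-!
# S3510, E13, part (1d): `V = V₁ ⟂ V₂`, `T` interchanges `V₁` and `V₂` (helper438)
-/

set_option autoImplicit false

namespace Cfsg.Agent.H438.RC

open Matrix Cfsg Cfsg.Agent.LieClassical.HermBasic Cfsg.Agent.LieClassical.HermSiegel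
  Cfsg.Agent.LieClassical.HermGen Cfsg.Agent.LieClassical.SUBasic Cfsg.Agent.ClassicalGeometry.PSUAutBasic
  Cfsg.Agent.ClassicalGeometry.PSUAutCount Cfsg.Agent.LieClassical.FieldTransfer Cfsg.Agent.ClassicalGeometry
  Cfsg.Agent.H380.RC

section geo

variable {F : Type} [Field F] [Fintype F] {n q : ℕ} {T g : (Fin n → F) → (Fin n → F)}
  {V₁ V₂ : Submodule F (Fin n → F)}

/-- `T` interchanges `V₁` and `V₂` : equal dimensions -/
theorem finrank_swap (hT : SymT q T) (h1 : ∀ v ∈ V₁, T v ∈ V₂) (h2 : ∀ v ∈ V₂, T v ∈ V₁) :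
    Module.finrank F V₁ = Module.finrank F V₂ := by
  have h3 : Nat.card V₁ = Nat.card V₂ := by
    refine Nat.card_congr ⟨fun v => ⟨T v, h1 v v.2⟩, fun v => ⟨T v, h2 v v.2⟩, fun v => Subtype.ext (hT.TT v),
      fun v => Subtype.ext (hT.TT v)⟩
  rw [Module.natCard_eq_pow_finrank (K := F), Module.natCard_eq_pow_finrank (K := F) (V := V₂)] at h3
  exact Nat.pow_right_injective (by rw [Nat.card_eq_fintype_card]; exact Fintype.one_lt_card) h3

theorem two_le_finrank (hn : 3 ≤ n) (hT : SymT q T) (hc : IsCompl V₁ V₂) (h1 : ∀ v ∈ V₁, T v ∈ V₂)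
    (h2 : ∀ v ∈ V₂, T v ∈ V₁) : 2 ≤ Module.finrank F V₁ ∧ Module.finrank F V₁ < n := by
  have h3 := Submodule.finrank_add_eq_of_isCompl hc
  rw [Module.finrank_fin_fun, ← finrank_swap hT h1 h2] at h3
  omega

/-- a scalar isometry on a nondegenerate subspace has norm one -/
theorem norm_scal (hF : Fintype.card F = q ^ 2) (h1 : NDeg q V₁) (hne : V₁ ≠ ⊥)
    {u : (Fin n → F) → (Fin n → F)} (hu : ∀ v w, hermForm n F q (u v) (u w) = hermForm n F q v w) {c : F}
    (hc : ∀ v ∈ V₁, u v = c • v) : c * c ^ q = 1 := by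
  obtain ⟨v, hv, hv0⟩ := (Submodule.ne_bot_iff _).1 hne
  have h2 : ∃ w ∈ V₁, hermForm n F q v w ≠ 0 := by
    by_contra hcon
    push Not at hcon
    exact hv0 (h1 v hv hcon)
  obtain ⟨w, hw, hvw⟩ := h2
  have h3 := hu v w
  rw [hc v hv, hc w hw, herm_smul_left, herm_smul_right, ← mul_assoc] at h3
  have h4 : (c * c ^ q - 1) * hermForm n F q v w = 0 := by rw [sub_mul, h3]; ring
  exact sub_eq_zero.1 ((mul_eq_zero.1 h4).resolve_right hvw)

/-- `q ≠ 3` if `g` is a scalar on `V₁` -/
theorem q_ne_three (hF : Fintype.card F = q ^ 2) (hT : SymT q T) (hg : SymG q T g) (hne : ∃ v, g v ≠ v)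
    (h1 : NDeg q V₁) (hV : V₁ ≠ ⊥) (hc : IsCompl V₁ V₂) (h4 : ∀ v ∈ V₂, T v ∈ V₁) (hs : ScalOn g V₁) : q ≠ 3 := by
  rintro rfl
  obtain ⟨c, hc'⟩ := hs
  obtain ⟨m, hm, -, hgm⟩ := hg.ord
  have hn := norm_scal hF h1 hV hg.herm hc'
  obtain ⟨v, hv, hv0⟩ := (Submodule.ne_bot_iff _).1 hV
  have h5 : ∀ m, g^[m] v = c ^ m • v := by
    intro m
    induction m with
    | zero => simp
    | succ m ih => rw [Function.iterate_succ_apply', ih, hg.lin, hc' v hv, smul_smul, pow_succ]
  have h6 := h5 m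
  rw [hgm] at h6
  have h7 : (c ^ m - 1) • v = 0 := by rw [sub_smul, one_smul, ← h6, sub_self]
  have h8 := sub_eq_zero.1 ((smul_eq_zero.1 h7).resolve_right hv0)
  have h9 : c ^ 4 = 1 := by rw [← hn]; ring
  have h10 : c = 1 := by
    have h11 : orderOf c ∣ m := orderOf_dvd_of_pow_eq_one h8
    have h12 : orderOf c ∣ 4 := orderOf_dvd_of_pow_eq_one h9
    have h13 : m.Coprime 4 := by
      have : (4 : ℕ) = 2 ^ 2 := rfl
      rw [this]
      exact Nat.Coprime.pow_right _ (Nat.coprime_two_right.2 hm)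
    rw [← orderOf_eq_one_iff]
    exact Nat.eq_one_of_dvd_coprimes h13 h11 h12
  obtain ⟨w, hw⟩ := hne
  apply hw
  have h11 : w ∈ V₁ ⊔ V₂ := by rw [hc.sup_eq_top]; exact Submodule.mem_top
  obtain ⟨a, ha, b, hb, rfl⟩ := Submodule.mem_sup.1 h11
  have h12 : g b = b := by
    have h13 := hc' _ (h4 b hb)
    rw [h10, one_smul, hg.comm] at h13
    exact hT.inj h13
  rw [hg.add, hc' a ha, h10, one_smul, h12]

/-- a nondegenerate space of dimension at least 2 contains a singular vector -/
theorem exists_sing (hF : Fintype.card F = q ^ 2) (h1 : NDeg q V₁) (hd : 2 ≤ Module.finrank F V₁) :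
    ∃ e ∈ V₁, e ≠ 0 ∧ hermForm n F q e e = 0 := by
  have hbot : V₁ ≠ ⊥ := by
    rintro rfl
    rw [finrank_bot] at hd
    omega
  obtain ⟨v, hv, hv0⟩ := (Submodule.ne_bot_iff _).1 hbot
  by_cases hvv : hermForm n F q v v = 0
  · exact ⟨v, hv, hv0, hvv⟩
  -- a vector orthogonal to `v`
  obtain ⟨w, hw, hw0, hwv⟩ : ∃ w ∈ V₁, w ≠ 0 ∧ hermForm n F q w v = 0 := by
    by_contra hcon
    push Not at hcon
    have h2 : V₁ ≤ Submodule.span F {v} := by
      intro w hw
      have h3 : w - (hermForm n F q w v * (hermForm n F q v v)⁻¹) • v = 0 := by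
        by_contra h4
        apply hcon _ (V₁.sub_mem hw (V₁.smul_mem _ hv)) h4
        rw [herm_sub_left, herm_smul_left, mul_assoc, inv_mul_cancel₀ hvv, mul_one, sub_self]
      rw [Submodule.mem_span_singleton]
      exact ⟨_, (sub_eq_zero.1 h3).symm⟩
    have h3 := Submodule.finrank_mono h2
    have h4 : Module.finrank F (Submodule.span F {v}) ≤ 1 := by
      refine (finrank_span_le_card (R := F) ({v} : Set (Fin n → F))).trans ?_
      simp
    omega
  by_cases hww : hermForm n F q w w = 0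
  · exact ⟨w, hw, hw0, hww⟩
  obtain ⟨t, ht⟩ := _root_.Cfsg.Agent.LieClassical.HermBasic.exists_norm_eq hF (c := -(hermForm n F q v v * (hermForm n F q w w)⁻¹)) (by
    rw [neg_pow_q hF, mul_pow, inv_pow, herm_self_pow hF, herm_self_pow hF])
  refine ⟨v + t • w, V₁.add_mem hv (V₁.smul_mem _ hw), ?_, ?_⟩
  · intro h0
    have h2 := congrArg (fun z => hermForm n F q z v) h0
    simp only [herm_add_left, herm_smul_left, hwv, mul_zero, add_zero, herm_zero_left] at h2
    exact hvv h2
  · rw [herm_add_left, herm_add_right hF, herm_add_right hF, herm_smul_left, herm_smul_left, herm_smul_right,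
      herm_smul_right, hwv, herm_eq_zero_swap hF hwv]
    have h2 : t * (t ^ q * hermForm n F q w w) = -hermForm n F q v v := by
      rw [← mul_assoc, ht, neg_mul, mul_assoc, inv_mul_cancel₀ hww, mul_one]
    rw [h2]
    ring

end geo

section main

theorem dfin (hG : GDecStmt) (hS : SmallStmt)
    {G Ω : Type} [Group G] [Finite G] [Finite Ω] [Nonempty Ω] [MulAction G Ω] {N : Subgroup G} {F : Type} [Field F]
    [Fintype F] {n q : ℕ} (U : UEnv G Ω N F n q) {ι : Type} [Finite ι] (x : ι → G)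
    (f : ι → (Fin n → F) → (Fin n → F)) (r : ι → ℕ) (i₀ : ι) (T g : (Fin n → F) → (Fin n → F))
    (hY : Sym U x f r i₀ T g) (hIH : H106.RC.IH (Nat.card (PSU n F q)))
    {V₁ V₂ : Submodule F (Fin n → F)} (h1 : NDeg q V₁) (hc : IsCompl V₁ V₂)
    (hT1 : ∀ v ∈ V₁, T v ∈ V₂) (hT2 : ∀ v ∈ V₂, T v ∈ V₁) (hst : ∀ u, Cg g u → Stab u V₁ ∧ Stab u V₂)
    {s : SU n F q} (hs2 : ∀ v ∈ V₂, act s v = v) (hsf : ∀ j, j ≠ i₀ → ∀ v, act s (f j v) = f j (act s v))
    (hs1 : Stab (act s) V₁) (hsn : ¬ ScalOn (act s) V₁)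
    {g₀ : (Fin n → F) → (Fin n → F)} (hadd : ∀ v w, g₀ (v + w) = g₀ v + g₀ w) (hlin : Lin g₀) (hstab : Stab g₀ V₁)
    (hiso : ∀ v ∈ V₁, ∀ w ∈ V₁, hermForm n F q (g₀ v) (g₀ w) = hermForm n F q v w)
    (hs0 : ∃ (k : ℕ) (c : F), ∀ v ∈ V₁, act s v = c • g₀^[k] v)
    (hf0 : ∀ j, j ≠ i₀ → ∃ (k : ℕ) (c : F), ∀ v ∈ V₁, f j v = c • g₀^[k] v)
    (hsc : ∀ j, j ≠ i₀ → ScalOn (f j) V₁ → (r j).Coprime q)
    (hd : 3 ≤ Module.finrank F V₁ ∨ (q ≠ 3 ∧ ∃ r k : ℕ, r.Prime ∧ ∃ c : F, ∀ v ∈ V₁, g₀^[r ^ k] v = c • v)) :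
    False := by
  classical
  have hF := U.hF
  have hT := hY.symT
  have hfam := hY.gf.fam
  have hpf := hfam.pf
  have hLT := lft_T hY.gf hT
  obtain ⟨s', hs'⟩ := hLT.exists_conj s
  have hs'' : ∀ v, T (act s (T v)) = act s' v := by
    intro v
    rw [hs', hT.TT]
  have hz := comm_T hY.gf hT hs''
  -- the action on `V₁`
  have hV : ∀ v ∈ V₁, act (s * s'⁻¹) v = act s v := by
    intro v hv
    have h3 : act s' v = v := by rw [← hs'', hs2 _ (hT1 v hv), hT.TT]
    have h4 : act s'⁻¹ v = v := by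
      conv_lhs => rw [← h3]
      exact act_inv_act s' v
    rw [act_mul, h4]
  have hcommS' : ∀ j, j ≠ i₀ → ∀ v, act s' (f j v) = f j (act s' v) := by
    intro j hj v
    rw [← hs'', ← hs'', ← hY.gf.comm j hj, hsf j hj, hY.gf.comm j hj]
  have hcommZ : ∀ j, j ≠ i₀ → ∀ v, act (s * s'⁻¹) (f j v) = f j (act (s * s'⁻¹) v) := by
    intro j hj v
    have h3 : act s'⁻¹ (f j v) = f j (act s'⁻¹ v) := by
      apply act_injective s'
      rw [act_act_inv, hcommS' j hj, act_act_inv]
    rw [act_mul, act_mul, h3, hsf j hj]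
  have hnsZ : ¬ ScalOn (act (s * s'⁻¹)) V₁ := by
    rintro ⟨c, hc'⟩
    exact hsn ⟨c, fun v hv => by rw [← hV v hv, hc' v hv]⟩
  -- the new family
  set y : ι → G := Function.update x i₀ (U.el (s * s'⁻¹)) with hy
  set fy : ι → (Fin n → F) → (Fin n → F) := Function.update f i₀ (act (s * s'⁻¹)) with hfy
  have hy0 : y i₀ = U.el (s * s'⁻¹) := by rw [hy, Function.update_self]
  have hf00 : fy i₀ = act (s * s'⁻¹) := by rw [hfy, Function.update_self]
  have hyj : ∀ j, j ≠ i₀ → y j = x j := fun j hj => by rw [hy, Function.update_of_ne hj]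
  have hfyj : ∀ j, j ≠ i₀ → fy j = f j := fun j hj => by rw [hfy, Function.update_of_ne hj]
  have hcov : H106.RC.Cov Ω y := by
    have h3 := hY.cov.mv_comm i₀ (c := U.el s) (fun j hj => by
      refine comm_el (hfam.lft j) fun v => ?_
      rw [hsf j hj])
    rwa [hz] at h3
  have hfamy : GFam U y fy := by
    refine ⟨fun i => ?_, fun i => ?_, fun i j v => ?_⟩
    · by_cases hi : i = i₀
      · rw [hi, hy0]
        intro h3
        obtain ⟨c, hc'⟩ := (U.lft_el (s * s'⁻¹)).eq_one_iff.1 h3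
        exact hnsZ ⟨c, fun v _ => hc' v⟩
      · rw [hyj i hi]
        exact hpf.ne i
    · by_cases hi : i = i₀
      · rw [hi, hy0, hf00]
        exact U.lft_el _
      · rw [hyj i hi, hfyj i hi]
        exact hfam.lft i
    · by_cases hi : i = i₀
      · by_cases hj : j = i₀
        · rw [hi, hj]
        · rw [hi, hf00, hfyj j hj, hcommZ j hj]
      · by_cases hj : j = i₀
        · rw [hj, hf00, hfyj i hi, hcommZ i hi]
        · rw [hfyj i hi, hfyj j hj, hfam.comm]
  obtain ⟨hd2, hdn⟩ := two_le_finrank U.hn hT hc hT1 hT2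
  have hq2 : q ≠ 2 := by
    rintro rfl
    exact absurd hY.odd (by decide)
  have hqq := two_le hF
  refine hG U y fy hfamy hcov V₁ g₀ h1 ?_ hd2 (fun h => hq2 h.2) ?_ ?_ ?_ hadd hlin hstab hiso ?_ ?_
  · rintro rfl
    rw [finrank_top, Module.finrank_fin_fun] at hdn
    omega
  · rintro ⟨h3, h4⟩
    rcases hd with h5 | ⟨h5, -⟩
    · omega
    · omega
  · intro i
    by_cases hi : i = i₀
    · rw [hi, hf00]
      refine ⟨fun c v => act_smul _ _ _, fun v hv => ?_⟩
      rw [hV v hv]
      exact hs1 v hv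
    · rw [hfyj i hi]
      exact ⟨hY.gf.lin i hi, (hst _ (hY.cg i hi)).1⟩
  · intro i hi'
    by_cases hi : i = i₀
    · rw [hi, hf00] at hi'
      exact absurd hi' hnsZ
    · rw [hfyj i hi] at hi'
      rw [hyj i hi]
      exact ⟨r i, hpf.prime i, hsc i hi hi', hpf.pow i⟩
  · intro i
    by_cases hi : i = i₀
    · rw [hi, hf00]
      obtain ⟨k, c, h3⟩ := hs0
      exact ⟨k, c, fun v hv => by rw [hV v hv, h3 v hv]⟩
    · rw [hfyj i hi]
      exact hf0 i hi
  · rcases hd with h3 | ⟨-, h3⟩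
    · exact Or.inl ⟨h3, (hS hF U.hn U.h32 hIH).1 _ h3 hdn fun h => hq2 h.2⟩
    · exact Or.inr (Or.inr h3)

/-- T6 : a member of order `p` -/
theorem dT6 (hG : GDecStmt) (hS : SmallStmt)
    {G Ω : Type} [Group G] [Finite G] [Finite Ω] [Nonempty Ω] [MulAction G Ω] {N : Subgroup G} {F : Type} [Field F]
    [Fintype F] {n q : ℕ} (U : UEnv G Ω N F n q) {ι : Type} [Finite ι] (x : ι → G)
    (f : ι → (Fin n → F) → (Fin n → F)) (r : ι → ℕ) (i₀ : ι) (T g : (Fin n → F) → (Fin n → F))
    (hY : Sym U x f r i₀ T g) (hIH : H106.RC.IH (Nat.card (PSU n F q)))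
    {V₁ V₂ : Submodule F (Fin n → F)} (h1 : NDeg q V₁) (hc : IsCompl V₁ V₂)
    (hort : ∀ v ∈ V₁, ∀ w ∈ V₂, hermForm n F q v w = 0)
    (hT1 : ∀ v ∈ V₁, T v ∈ V₂) (hT2 : ∀ v ∈ V₂, T v ∈ V₁) (hst : ∀ u, Cg g u → Stab u V₁ ∧ Stab u V₂)
    (hsg : ScalOn g V₁ ∨ 3 ≤ Module.finrank F V₁) {j : ι} (hj0 : j ≠ i₀) (hjq : ¬ (r j).Coprime q) : False := by
  classical
  have hF := U.hF
  have hT := hY.symT
  have hg := hY.symG
  have hfam := hY.gf.fam
  have hpf := hfam.pf
  obtain ⟨p, k, hp, hchar, hk, hk0⟩ := exists_prime_pow U.hF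
  have hpF := Fact.mk hp
  have hrp : ∀ i, ¬ (r i).Coprime q → r i = p := by
    intro i hi
    rw [(hpf.prime i).coprime_iff_not_dvd, not_not, hk] at hi
    exact (Nat.prime_dvd_prime_iff_eq (hpf.prime i) hp).1 ((hpf.prime i).dvd_of_dvd_pow hi)
  have hjj : ∀ i, ¬ (r i).Coprime q → i = j := fun i hi => hpf.inj ((hrp i hi).trans (hrp j hjq).symm)
  obtain ⟨l, hl⟩ := hfam.ord j
  rw [hrp j hjq] at hl
  have hL := hfam.lft j
  have hlin := hY.gf.lin j hj0
  have hadd := Ind.map_add hL
  have hher := herm_lin hL hlin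
  obtain ⟨hd2, hdn⟩ := two_le_finrank U.hn hT hc hT1 hT2
  have hV0 : V₁ ≠ ⊥ := by
    rintro rfl
    rw [finrank_bot] at hd2
    omega
  obtain ⟨hu1, hu2⟩ := hst _ (hY.cg j hj0)
  -- `u` is not a scalar on `V₁`
  have hnsc : ¬ ScalOn (f j) V₁ := by
    rintro ⟨c, hc'⟩
    obtain ⟨v, hv, hv0⟩ := (Submodule.ne_bot_iff _).1 hV0
    have h5 : ∀ m, (f j)^[m] v = c ^ m • v := by
      intro m
      induction m with
      | zero => simp
      | succ m ih => rw [Function.iterate_succ_apply', ih, hlin, hc' v hv, smul_smul, pow_succ]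
    have h6 := h5 (p ^ l)
    rw [hl] at h6
    have h7 : (c ^ p ^ l - 1) • v = 0 := by rw [sub_smul, one_smul, ← h6, sub_self]
    have h8 := sub_eq_zero.1 ((smul_eq_zero.1 h7).resolve_right hv0)
    have h9 : (c - 1) ^ p ^ l = 0 := by rw [sub_pow_char_pow, h8, one_pow, sub_self]
    have h10 : c = 1 := sub_eq_zero.1 (pow_eq_zero_iff (pow_ne_zero _ hp.ne_zero) |>.1 h9)
    apply hpf.ne j
    rw [hL.eq_one_iff]
    refine ⟨1, fun w => ?_⟩
    have h11 : w ∈ V₁ ⊔ V₂ := by rw [hc.sup_eq_top]; exact Submodule.mem_top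
    obtain ⟨a, ha, b, hb, rfl⟩ := Submodule.mem_sup.1 h11
    have h12 : f j b = b := by
      have h13 := hc' _ (hT2 b hb)
      rw [h10, one_smul, hY.gf.comm j hj0] at h13
      exact hT.inj h13
    rw [hadd, hc' a ha, h10, one_smul, h12, one_smul]
  -- the element `(u, 1)`
  let P : Module.End F (Fin n → F) := V₁.projection V₂ hc
  have hP1 : ∀ v, P v ∈ V₁ := fun v => Submodule.projection_apply_mem hc v
  have hP2 : ∀ v ∈ V₁, P v = v := fun v hv => Submodule.projection_apply_of_mem_left hc hv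
  have hP3 : ∀ v ∈ V₂, P v = 0 := fun v hv => Submodule.projection_apply_right hc ⟨v, hv⟩
  have hP4 : ∀ v, v - P v ∈ V₂ := by
    intro v
    have h11 : v ∈ V₁ ⊔ V₂ := by rw [hc.sup_eq_top]; exact Submodule.mem_top
    obtain ⟨a, ha, b, hb, rfl⟩ := Submodule.mem_sup.1 h11
    rw [map_add, hP2 a ha, hP3 b hb, add_zero, add_sub_cancel_left]
    exact hb
  have hPf : ∀ i, i ≠ i₀ → ∀ v, P (f i v) = f i (P v) := by
    intro i hi v
    obtain ⟨h3, h4⟩ := hst _ (hY.cg i hi)
    have h5 : f i v = f i (P v) + f i (v - P v) := by rw [← Ind.map_add (hfam.lft i), add_sub_cancel]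
    rw [h5, map_add, hP2 _ (h3 _ (hP1 v)), hP3 _ (h4 _ (hP4 v)), add_zero]
  let L : Module.End F (Fin n → F) := { toFun := f j, map_add' := hadd, map_smul' := hlin }
  let c : Module.End F (Fin n → F) := L * P + (1 - P)
  have hcv : ∀ v, c v = f j (P v) + (v - P v) := fun v => rfl
  have hc1 : ∀ v ∈ V₁, c v = f j v := by
    intro v hv
    rw [hcv, hP2 v hv, sub_self, add_zero]
  have hc2 : ∀ v ∈ V₂, c v = v := by
    intro v hv
    rw [hcv, hP3 v hv, Ind.map_zero hL, sub_zero, zero_add]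
  have hciso : ∀ v w, hermForm n F q (c v) (c w) = hermForm n F q v w := by
    intro v w
    have h3 : v = P v + (v - P v) := by abel
    have h4 : w = P w + (w - P w) := by abel
    conv_rhs => rw [h3, h4]
    rw [hcv, hcv, herm_add_left, herm_add_right hF, herm_add_right hF, herm_add_left, herm_add_right hF,
      herm_add_right hF, hher, hort _ (hu1 _ (hP1 v)) _ (hP4 w), hort _ (hP1 v) _ (hP4 w),
      herm_eq_zero_swap hF (hort _ (hu1 _ (hP1 w)) _ (hP4 v)), herm_eq_zero_swap hF (hort _ (hP1 w) _ (hP4 v))]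
  have hcit1 : ∀ m, ∀ v ∈ V₁, (c ^ m) v = (f j)^[m] v ∧ (f j)^[m] v ∈ V₁ := by
    intro m
    induction m with
    | zero => exact fun v hv => ⟨rfl, hv⟩
    | succ m ih =>
      intro v hv
      rw [pow_succ', Module.End.mul_apply, (ih v hv).1, Function.iterate_succ_apply', hc1 _ (ih v hv).2]
      exact ⟨rfl, hu1 _ (ih v hv).2⟩
  have hcit2 : ∀ m, ∀ v ∈ V₂, (c ^ m) v = v := by
    intro m
    induction m with
    | zero => exact fun v hv => rfl
    | succ m ih =>
      intro v hv
      rw [pow_succ', Module.End.mul_apply, ih v hv, hc2 v hv]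
  have hcp : c ^ (p ^ l) = 1 := by
    refine LinearMap.ext fun v => ?_
    have h3 : v = P v + (v - P v) := by abel
    conv_lhs => rw [h3]
    rw [map_add, (hcit1 _ _ (hP1 v)).1, hl, hcit2 _ _ (hP4 v), add_sub_cancel]
    rfl
  have hdet : LinearMap.det c = 1 := by
    have h3 := congrArg LinearMap.det hcp
    rw [map_pow, map_one] at h3
    have h9 : (LinearMap.det c - 1) ^ p ^ l = 0 := by rw [sub_pow_char_pow, h3, one_pow, sub_self]
    exact sub_eq_zero.1 (pow_eq_zero_iff (pow_ne_zero _ hp.ne_zero) |>.1 h9)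
  obtain ⟨s, hs⟩ := H398.RC.exists_su hciso hdet
  have hsf : ∀ i, i ≠ i₀ → ∀ v, act s (f i v) = f i (act s v) := by
    intro i hi v
    rw [hs, hs, hcv, hcv, Ind.map_add (hfam.lft i), hPf i hi, hfam.comm i j, Ind.map_sub (hfam.lft i)]
  have hs1 : Stab (act s) V₁ := by
    intro v hv
    rw [hs, hc1 v hv]
    exact hu1 v hv
  have hsn : ¬ ScalOn (act s) V₁ := by
    rintro ⟨a, ha⟩
    exact hnsc ⟨a, fun v hv => by rw [← ha v hv, hs, hc1 v hv]⟩
  have hsc : ∀ i, i ≠ i₀ → ScalOn (f i) V₁ → (r i).Coprime q := by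
    intro i hi hi'
    by_contra hiq
    rw [hjj i hiq] at hi'
    exact hnsc hi'
  by_cases hd3 : 3 ≤ Module.finrank F V₁
  · -- `g₀ = u ∘ g`
    obtain ⟨m, hm1, hm2, hm3⟩ := hg.ord
    have hco : m.Coprime (p ^ l) := by
      apply Nat.Coprime.pow_right
      rw [hk] at hm2
      exact Nat.Coprime.coprime_dvd_right (dvd_pow_self p hk0.ne') hm2
    have hcomm : Function.Commute g (f j) := fun v => ((hY.cg j hj0).comm v).symm
    have hit : ∀ t v, (fun v => g (f j v))^[t] v = g^[t] ((f j)^[t] v) := by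
      intro t v
      exact congrFun (hcomm.comp_iterate t) v
    obtain ⟨a, ha1, ha2⟩ := Nat.chineseRemainder hco 1 0
    obtain ⟨b, hb1, hb2⟩ := Nat.chineseRemainder hco 0 1
    have hga : (fun v => g (f j v))^[a] = g := by
      funext v
      rw [hit, iter_mod hm3 ha1, iter_mod hl ha2]
      rfl
    have hgb : (fun v => g (f j v))^[b] = f j := by
      funext v
      rw [hit, iter_mod hm3 hb1, iter_mod hl hb2]
      rfl
    refine dfin hG hS U x f r i₀ T g hY hIH h1 hc hT1 hT2 hst (fun v hv => by rw [hs, hc2 v hv]) hsf hs1 hsn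
      (g₀ := fun v => g (f j v)) ?_ ?_ ?_ ?_ ⟨b, 1, fun v hv => ?_⟩ ?_ hsc (Or.inl hd3)
    · intro v w
      change g (f j (v + w)) = g (f j v) + g (f j w)
      rw [hadd, hg.add]
    · intro c v
      change g (f j (c • v)) = c • g (f j v)
      rw [hlin, hg.lin]
    · intro v hv
      exact (hst g ⟨hg.add, hg.lin, fun v => rfl⟩).1 _ (hu1 v hv)
    · intro v _ w _
      change hermForm n F q (g (f j v)) (g (f j w)) = _
      rw [hg.herm, hher]
    · rw [hgb, one_smul, hs, hc1 v hv]
    · intro i hi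
      by_cases hij : i = j
      · subst hij
        exact ⟨b, 1, fun v hv => by rw [hgb, one_smul]⟩
      · have hiq : (r i).Coprime q := by
          by_contra hiq
          exact hij (hjj i hiq)
        obtain ⟨e, he⟩ := hY.pow i hi hiq
        refine ⟨a * e, 1, fun v hv => ?_⟩
        rw [Function.iterate_mul, hga, one_smul, he]
  · -- `g` is a scalar on `V₁`, `g₀ = u`
    have hsg' := hsg.resolve_right hd3
    have hq3 := q_ne_three hF hT hg hY.ne h1 hV0 hc hT2 hsg'
    obtain ⟨a, ha⟩ := hsg'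
    have hgk : ∀ m, ∀ v ∈ V₁, g^[m] v = a ^ m • v := by
      intro m
      induction m with
      | zero => exact fun v hv => by simp
      | succ m ih =>
        intro v hv
        rw [Function.iterate_succ_apply', ih v hv, hg.lin, ha v hv, smul_smul, pow_succ]
    refine dfin hG hS U x f r i₀ T g hY hIH h1 hc hT1 hT2 hst (fun v hv => by rw [hs, hc2 v hv]) hsf hs1 hsn
      (g₀ := f j) hadd hlin hu1 (fun v _ w _ => hher v w) ⟨1, 1, fun v hv => ?_⟩ ?_ hsc
      (Or.inr ⟨hq3, p, l, hp, 1, fun v _ => ?_⟩)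
    · rw [one_smul, hs, hc1 v hv]
      rfl
    · intro i hi
      by_cases hij : i = j
      · subst hij
        exact ⟨1, 1, fun v hv => by rw [one_smul]; rfl⟩
      · have hiq : (r i).Coprime q := by
          by_contra hiq
          exact hij (hjj i hiq)
        obtain ⟨e, he⟩ := hY.pow i hi hiq
        refine ⟨0, a ^ e, fun v hv => ?_⟩
        rw [he, hgk e v hv]
        rfl
    · rw [hl, one_smul]

/-- T8 : `g` is a scalar on `V₁`, no member of order `p` -/
theorem dT8 (hG : GDecStmt) (hS : SmallStmt)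
    {G Ω : Type} [Group G] [Finite G] [Finite Ω] [Nonempty Ω] [MulAction G Ω] {N : Subgroup G} {F : Type} [Field F]
    [Fintype F] {n q : ℕ} (U : UEnv G Ω N F n q) {ι : Type} [Finite ι] (x : ι → G)
    (f : ι → (Fin n → F) → (Fin n → F)) (r : ι → ℕ) (i₀ : ι) (T g : (Fin n → F) → (Fin n → F))
    (hY : Sym U x f r i₀ T g) (hIH : H106.RC.IH (Nat.card (PSU n F q)))
    {V₁ V₂ : Submodule F (Fin n → F)} (h1 : NDeg q V₁) (hc : IsCompl V₁ V₂)
    (hort : ∀ v ∈ V₁, ∀ w ∈ V₂, hermForm n F q v w = 0)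
    (hT1 : ∀ v ∈ V₁, T v ∈ V₂) (hT2 : ∀ v ∈ V₂, T v ∈ V₁) (hst : ∀ u, Cg g u → Stab u V₁ ∧ Stab u V₂)
    (hsg : ScalOn g V₁) (hall : ∀ j, j ≠ i₀ → (r j).Coprime q) : False := by
  classical
  have hF := U.hF
  have hT := hY.symT
  have hg := hY.symG
  have hfam := hY.gf.fam
  have hpf := hfam.pf
  obtain ⟨hd2, hdn⟩ := two_le_finrank U.hn hT hc hT1 hT2
  have hV0 : V₁ ≠ ⊥ := by
    rintro rfl
    rw [finrank_bot] at hd2
    omega
  have hq3 := q_ne_three hF hT hg hY.ne h1 hV0 hc hT2 hsg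
  obtain ⟨a, ha⟩ := hsg
  have hgk : ∀ m, ∀ v ∈ V₁, g^[m] v = a ^ m • v := by
    intro m
    induction m with
    | zero => exact fun v hv => by simp
    | succ m ih =>
      intro v hv
      rw [Function.iterate_succ_apply', ih v hv, hg.lin, ha v hv, smul_smul, pow_succ]
  obtain ⟨e, he, he0, hee⟩ := exists_sing hF h1 hd2
  obtain ⟨μ, hμ0, hμ⟩ := exists_trace_zero_ne hF
  have hfs : ∀ j, j ≠ i₀ → ∃ c : F, ∀ v ∈ V₁, f j v = c • v := by
    intro j hj
    obtain ⟨m, hm⟩ := hY.pow j hj (hall j hj)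
    exact ⟨a ^ m, fun v hv => by rw [hm, hgk m v hv]⟩
  obtain ⟨p, k, hp, hchar, hk, hk0⟩ := exists_prime_pow U.hF
  have hit : ∀ m v, (act (transv hF e hee μ hμ))^[m] v = v + ((m : F) * μ * hermForm n F q v e) • e := by
    intro m
    induction m with
    | zero => intro v; simp
    | succ m ih =>
      intro v
      rw [Function.iterate_succ_apply', ih, act_transv, herm_add_left, herm_smul_left, hee, mul_zero, add_zero,
        add_assoc, ← add_smul]
      push_cast
      ring_nf
  refine dfin hG hS U x f r i₀ T g hY hIH h1 hc hT1 hT2 hst (s := transv hF e hee μ hμ) ?_ ?_ ?_ ?_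
    (g₀ := act (transv hF e hee μ hμ)) (fun v w => act_add _ _ _) (fun c v => act_smul _ _ _) ?_
    (fun v _ w _ => herm_act _ _ _) ⟨1, 1, fun v hv => by rw [one_smul]; rfl⟩ ?_ (fun j hj _ => hall j hj)
    (Or.inr ⟨hq3, p, 1, hp, 1, fun v hv => ?_⟩)
  · intro v hv
    rw [act_transv, herm_eq_zero_swap hF (hort e he v hv), mul_zero, zero_smul, add_zero]
  · intro j hj v
    obtain ⟨c, hc'⟩ := hfs j hj
    have hL := hfam.lft j
    have hlin := hY.gf.lin j hj
    have hher := herm_lin hL hlin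
    have hn := norm_scal hF h1 hV0 hher hc'
    have h3 : hermForm n F q (f j v) e = c * hermForm n F q v e := by
      have h4 := hher v e
      rw [hc' e he, herm_smul_right] at h4
      rw [← h4, ← mul_assoc, hn, one_mul]
    rw [act_transv, act_transv, Ind.map_add hL, hlin, hc' e he, h3, smul_smul]
    congr 2
    ring
  · intro v hv
    rw [act_transv]
    exact V₁.add_mem hv (V₁.smul_mem _ he)
  · rintro ⟨c, hc'⟩
    have h3 := hc' e he
    rw [act_transv, hee, mul_zero, zero_smul, add_zero] at h3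
    have h4 : c = 1 := by
      have h5 : (c - 1) • e = 0 := by rw [sub_smul, one_smul, ← h3, sub_self]
      exact sub_eq_zero.1 ((smul_eq_zero.1 h5).resolve_right he0)
    apply he0
    apply h1 e he
    intro v hv
    have h5 := hc' v hv
    rw [act_transv, h4, one_smul, add_eq_left] at h5
    have h6 := (smul_eq_zero.1 h5).resolve_right he0
    exact herm_eq_zero_swap hF ((mul_eq_zero.1 h6).resolve_left hμ0)
  · intro v hv
    rw [act_transv]
    exact V₁.add_mem hv (V₁.smul_mem _ he)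
  · intro j hj
    obtain ⟨c, hc'⟩ := hfs j hj
    exact ⟨0, c, fun v hv => hc' v hv⟩
  · rw [pow_one, hit, one_smul, CharP.cast_eq_zero, zero_mul, zero_mul, zero_smul, add_zero]

/-- (1d) -/
theorem symDeltaB (hG : GDecStmt) (hS : SmallStmt) : SymDeltaB := by
  intro G Ω _ _ _ _ _ N F _ _ n q U ι _ x f r i₀ T g hY hIH V₁ V₂ h1 h2 hc hort hT1 hT2 hst halt
  by_cases hu : ∃ j, j ≠ i₀ ∧ ¬ (r j).Coprime q
  · obtain ⟨j, hj0, hjq⟩ := hu
    exact dT6 hG hS U x f r i₀ T g hY hIH h1 hc hort hT1 hT2 hst (halt.imp id And.left) hj0 hjq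
  · push Not at hu
    rcases halt with hsg | ⟨hd3, s, g₀, hs2, hsc, hsn, hadd, hlin, hstab, hiso, k, l, hkl⟩
    · exact dT8 hG hS U x f r i₀ T g hY hIH h1 hc hort hT1 hT2 hst hsg hu
    · have hg := hY.symG
      have hV : ∀ m, ∀ v ∈ V₁, g^[m] v ∈ V₁ := by
        intro m
        induction m with
        | zero => exact fun v hv => hv
        | succ m ih =>
          intro v hv
          rw [Function.iterate_succ_apply']
          exact (hst g ⟨hg.add, hg.lin, fun v => rfl⟩).1 _ (ih v hv)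
      have hgk : ∀ m, ∀ v ∈ V₁, g^[m] v = g₀^[k * m] v := by
        intro m
        induction m with
        | zero => exact fun v hv => rfl
        | succ m ih =>
          intro v hv
          rw [Function.iterate_succ_apply', (hkl _ (hV m v hv)).1, ih v hv, ← Function.iterate_add_apply]
          congr 1
          ring
      refine dfin hG hS U x f r i₀ T g hY hIH h1 hc hT1 hT2 hst hs2 ?_ ?_ hsn hadd hlin hstab hiso
        ⟨l, 1, fun v hv => by rw [one_smul, (hkl v hv).2]⟩ ?_ (fun j hj _ => hu j hj) (Or.inl hd3)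
      · intro j hj v
        exact hsc _ (hY.cg j hj) v
      · exact (hst (act s) ⟨fun v w => act_add _ _ _, fun c v => act_smul _ _ _,
          fun v => hsc g ⟨hg.add, hg.lin, fun v => rfl⟩ v⟩).1
      · intro j hj
        obtain ⟨m, hm⟩ := hY.pow j hj (hu j hj)
        exact ⟨k * m, 1, fun v hv => by rw [one_smul, hm, hgk m v hv]⟩

end main

end Cfsg.Agent.H438.RC
end

-- part: H188/RC/G43
section
/-!
# S3510, family E, box E13x (helper188)

`graph43 : GraphFourThree`. `n = 4`, `q = 3`, `x₁` a graph involution (lift `T`, `V₀ = Fix T` quadratic space over `F₃`),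
`x₂` of order 5 with lift `s`. For a singular `e ∈ V₀` with `∑ sⁱ e = 0`, `eᵢ = sⁱ e`, `a = h(e, s e)`:
`[E(e₀, a (e₂ - e₃)), s] = E(e₁ - e₂ + e₃, a (e₁ - e₀))`.
-/

set_option autoImplicit false

namespace Cfsg.Agent.H188.RC

open Matrix Cfsg Cfsg.Agent.LieClassical.HermBasic Cfsg.Agent.LieClassical.HermSiegel
  Cfsg.Agent.LieClassical.HermGen Cfsg.Agent.LieClassical.SUBasic Cfsg.Agent.ClassicalGeometry.PSUAutBasic
  Cfsg.Agent.ClassicalGeometry.PSUAutCount Cfsg.Agent.H380.RC Cfsg.Agent.H106.RC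

namespace G43

variable {F : Type*} [Field F] [Fintype F]

local notation "H" => hermForm 4 F 3

/-- the data: `T` and `s` -/
structure Dat (T s : (Fin 4 → F) → (Fin 4 → F)) : Prop where
  hF : Fintype.card F = 3 ^ 2
  Tadd : ∀ v w, T (v + w) = T v + T w
  Tsmul : ∀ (c : F) v, T (c • v) = c ^ 3 • T v
  TT : ∀ v, T (T v) = v
  Therm : ∀ u v, H (T u) (T v) = (H u v) ^ 3
  sadd : ∀ v w, s (v + w) = s v + s w
  ssmul : ∀ (c : F) v, s (c • v) = c • s v
  sherm : ∀ u v, H (s u) (s v) = H u v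
  s5 : ∀ v, s (s (s (s (s v)))) = v
  sT : ∀ v, s (T v) = T (s v)
  sne : ∃ v, s v ≠ v

variable {T s : (Fin 4 → F) → (Fin 4 → F)}

theorem three_eq_zero (hF : Fintype.card F = 3 ^ 2) : (3 : F) = 0 := by
  have h1 : ((Fintype.card F : ℕ) : F) = 0 := FiniteField.cast_card_eq_zero F
  rw [hF, Nat.cast_pow] at h1
  exact (pow_eq_zero_iff two_ne_zero).1 (by exact_mod_cast h1)

namespace Dat

/-- vectors fixed by `T` killed by `1 + s + s² + s³ + s⁴` -/
structure W0 (T s : (Fin 4 → F) → (Fin 4 → F)) (u : Fin 4 → F) : Prop where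
  tf : T u = u
  sum : u + s u + s (s u) + s (s (s u)) + s (s (s (s u))) = 0

variable (D : Dat T s)

include D

theorem h3 : (3 : F) = 0 := three_eq_zero D.hF

theorem Tneg (v) : T (-v) = -T v := by
  have h1 := D.Tsmul (-1) v
  have h2 : ((-1 : F)) ^ 3 = -1 := by norm_num
  rw [h2, neg_one_smul, neg_one_smul] at h1
  exact h1

theorem Tsub (v w) : T (v - w) = T v - T w := by
  rw [sub_eq_add_neg, D.Tadd, D.Tneg, ← sub_eq_add_neg]

theorem sneg (v) : s (-v) = -s v := by
  have h1 := D.ssmul (-1) v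
  rw [neg_one_smul, neg_one_smul] at h1
  exact h1

theorem ssub (v w) : s (v - w) = s v - s w := by
  rw [sub_eq_add_neg, D.sadd, D.sneg, ← sub_eq_add_neg]

theorem herm_fix {u v : Fin 4 → F} (hu : T u = u) (hv : T v = v) : (H u v) ^ 3 = H u v := by
  rw [← D.Therm, hu, hv]

theorem herm_symm {u v : Fin 4 → F} (hu : T u = u) (hv : T v = v) : H v u = H u v := by
  rw [herm_swap D.hF u v]
  exact D.herm_fix hu hv

theorem Ts {u : Fin 4 → F} (hu : T u = u) : T (s u) = s u := by rw [← D.sT, hu]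

/-- `W0` is invariant under `s` -/
theorem w0s {u : Fin 4 → F} (h : W0 T s u) : W0 T s (s u) := by
  refine ⟨D.Ts h.tf, ?_⟩
  have h1 := congrArg s h.sum
  simp only [D.sadd] at h1
  rw [h1]
  have := D.ssmul 0 0
  simpa using this

theorem w0add {u v : Fin 4 → F} (h : W0 T s u) (h' : W0 T s v) : W0 T s (u + v) := by
  refine ⟨by rw [D.Tadd, h.tf, h'.tf], ?_⟩
  simp only [D.sadd]
  have h1 := h.sum
  have h2 := h'.sum
  calc _ = (u + s u + s (s u) + s (s (s u)) + s (s (s (s u)))) + (v + s v + s (s v) + s (s (s v)) + s (s (s (s v)))) := by abel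
    _ = 0 := by rw [h1, h2, add_zero]

theorem w0neg {u : Fin 4 → F} (h : W0 T s u) : W0 T s (-u) := by
  refine ⟨by rw [D.Tneg, h.tf], ?_⟩
  simp only [D.sneg]
  have h1 := h.sum
  calc _ = -(u + s u + s (s u) + s (s (s u)) + s (s (s (s u)))) := by abel
    _ = 0 := by rw [h1, neg_zero]

theorem w0sub {u v : Fin 4 → F} (h : W0 T s u) (h' : W0 T s v) : W0 T s (u - v) := by
  rw [sub_eq_add_neg]
  exact D.w0add h (D.w0neg h')

/-- a nonzero vector -/
theorem exists_u : ∃ u, W0 T s u ∧ u ≠ 0 := by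
  obtain ⟨v, hv⟩ := D.sne
  obtain ⟨c, hc⟩ : ∃ c : F, c ^ 3 ≠ c := by
    obtain ⟨x, hx0, hx⟩ := exists_trace_zero_ne D.hF
    refine ⟨x, fun h => hx0 ?_⟩
    rw [h] at hx
    linear_combination (2 : F) * hx - x * D.h3
  have key : ∀ w, T w = w → s w ≠ w → ∃ u, W0 T s u ∧ u ≠ 0 := by
    intro w hw hne
    refine ⟨s w - w, ⟨by rw [D.Tsub, D.Ts hw, hw], ?_⟩, sub_ne_zero.2 hne⟩
    simp only [D.ssub, D.s5]
    abel
  by_cases h1 : s (v + T v) = v + T v
  · by_cases h2 : s (c • v + T (c • v)) = c • v + T (c • v)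
    · exfalso
      rw [D.sadd, D.sT] at h1
      rw [D.sadd, D.sT, D.ssmul, D.Tsmul, D.Tsmul] at h2
      apply hv
      have e1 : (c - c ^ 3) • (s v - v) = 0 := by
        have e2 : T (s v) = v + T v - s v := by rw [← h1]; abel
        rw [e2] at h2
        have e3 : (c - c ^ 3) • (s v - v) = (c • s v + c ^ 3 • (v + T v - s v)) - (c • v + c ^ 3 • T v) := by
          module
        rw [e3, h2, sub_self]
      rcases smul_eq_zero.1 e1 with h | h
      · exact absurd (sub_eq_zero.1 h).symm hc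
      · exact sub_eq_zero.1 h
    · exact key _ (by rw [D.Tadd, D.TT, add_comm]) h2
  · exact key _ (by rw [D.Tadd, D.TT, add_comm]) h1

/-- the values of the form on the orbit of `u` -/
theorem tab {u : Fin 4 → F} (h : W0 T s u) :
    H u (s (s (s u))) = H u (s (s u)) ∧ H u (s (s (s (s u)))) = H u (s u) ∧
      H u u = H u (s u) + H u (s (s u)) := by
  have h1 := D.Ts h.tf
  have h2 := D.Ts h1
  have e1 : H u (s (s (s u))) = H u (s (s u)) := by
    rw [← D.sherm u (s (s (s u))), ← D.sherm (s u), D.s5, D.herm_symm h.tf h2]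
  have e2 : H u (s (s (s (s u)))) = H u (s u) := by
    rw [← D.sherm u (s (s (s (s u)))), D.s5, D.herm_symm h.tf h1]
  refine ⟨e1, e2, ?_⟩
  have h3 : H u (u + s u + s (s u) + s (s (s u)) + s (s (s (s u)))) = 0 := by
    rw [h.sum, herm_zero_right D.hF]
  rw [herm_add_right D.hF, herm_add_right D.hF, herm_add_right D.hF, herm_add_right D.hF, e1, e2] at h3
  linear_combination h3 - (H u (s u) + H u (s (s u))) * D.h3

/-- a vector with `h(w, w) ≠ 0` -/
theorem exists_w : ∃ w, W0 T s w ∧ H w w ≠ 0 := by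
  obtain ⟨u, hu, hu0⟩ := D.exists_u
  obtain ⟨v, hv⟩ := exists_herm_ne_zero D.hF hu0
  have hs0 : s 0 = 0 := by simpa using D.ssmul 0 0
  -- normalise
  obtain ⟨v1, hv1⟩ : ∃ v1 : Fin 4 → F, H u v1 = 1 := by
    refine ⟨((H u v)⁻¹) ^ 3 • v, ?_⟩
    rw [herm_smul_right, pow_q_pow_q D.hF, inv_mul_cancel₀ hv]
  obtain ⟨v2, hv2, hT2⟩ : ∃ v2 : Fin 4 → F, H u v2 = -1 ∧ T v2 = v2 := by
    refine ⟨v1 + T v1, ?_, by rw [D.Tadd, D.TT, add_comm]⟩
    have h1 : H u (T v1) = 1 := by
      have h2 := D.Therm u v1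
      rw [hu.tf, hv1, one_pow] at h2
      exact h2
    rw [herm_add_right D.hF, hv1, h1]
    linear_combination D.h3
  obtain ⟨v3, hv3, hW3⟩ : ∃ v3 : Fin 4 → F, H u v3 = -1 ∧ W0 T s v3 := by
    refine ⟨v2 + (v2 + s v2 + s (s v2) + s (s (s v2)) + s (s (s (s v2)))), ?_, ?_, ?_⟩
    · have k1 : H u (s v2) = H (s (s (s (s u)))) v2 := by
        rw [← D.sherm (s (s (s (s u)))), D.s5]
      have k2 : H u (s (s v2)) = H (s (s (s u))) v2 := by
        rw [← D.sherm (s (s (s u))), ← D.sherm (s (s (s (s u)))), D.s5]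
      have k3 : H u (s (s (s v2))) = H (s (s u)) v2 := by
        rw [← D.sherm (s (s u)), ← D.sherm (s (s (s u))), ← D.sherm (s (s (s (s u)))), D.s5]
      have k4 : H u (s (s (s (s v2)))) = H (s u) v2 := by
        rw [← D.sherm (s u), ← D.sherm (s (s u)), ← D.sherm (s (s (s u))), ← D.sherm (s (s (s (s u)))), D.s5]
      have k5 : H (u + s u + s (s u) + s (s (s u)) + s (s (s (s u)))) v2 = 0 := by
        rw [hu.sum, herm_zero_left]
      simp only [herm_add_left] at k5
      simp only [herm_add_right D.hF, k1, k2, k3, k4]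
      linear_combination hv2 + k5
    · simp only [D.Tadd, ← D.sT, hT2]
    · simp only [D.sadd, D.s5]
      have h3v : ∀ v : Fin 4 → F, v + v + v = 0 := fun v => by
        have : v + v + v = (3 : F) • v := by module
        rw [this, D.h3, zero_smul]
      have e := h3v (v2 + s v2 + s (s v2) + s (s (s v2)) + s (s (s (s v2))))
      calc _ = (v2 + s v2 + s (s v2) + s (s (s v2)) + s (s (s (s v2)))) +
            (v2 + s v2 + s (s v2) + s (s (s v2)) + s (s (s (s v2)))) +
            (v2 + s v2 + s (s v2) + s (s (s v2)) + s (s (s (s v2)))) + ((v2 + s v2 + s (s v2) + s (s (s v2)) + s (s (s (s v2)))) +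
            (v2 + s v2 + s (s v2) + s (s (s v2)) + s (s (s (s v2)))) +
            (v2 + s v2 + s (s v2) + s (s (s v2)) + s (s (s (s v2))))) := by abel
        _ = 0 := by rw [e, add_zero]
  by_cases h1 : H u u = 0
  · by_cases h2 : H v3 v3 = 0
    · refine ⟨u + v3, D.w0add hu hW3, ?_⟩
      rw [herm_add_left, herm_add_right D.hF, herm_add_right D.hF, h1, h2, D.herm_symm hu.tf hW3.tf, hv3]
      intro h4
      have h5 : (1 : F) = 0 := by linear_combination h4 + D.h3
      exact one_ne_zero h5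
    · exact ⟨v3, hW3, h2⟩
  · exact ⟨u, hu, h1⟩

/-- a singular vector with `h(e, s e) ≠ 0` -/
theorem exists_e : ∃ (e : Fin 4 → F) (a : F), W0 T s e ∧ H e e = 0 ∧ H e (s e) = a ∧ a * a = 1 := by
  obtain ⟨w, hw, hw0⟩ := D.exists_w
  obtain ⟨t1, t2, t3⟩ := D.tab hw
  have w1 := D.w0s hw
  have w2 := D.w0s w1
  have w3 := D.w0s w2
  have cube : ∀ u v : Fin 4 → F, W0 T s u → W0 T s v → H u v = 0 ∨ H u v = 1 ∨ H u v = -1 := by
    intro u v hu hv
    have h1 := D.herm_fix hu.tf hv.tf
    have h2 : (H u v) * ((H u v - 1) * (H u v + 1)) = 0 := by linear_combination h1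
    rcases mul_eq_zero.1 h2 with h | h
    · exact Or.inl h
    · rcases mul_eq_zero.1 h with h | h
      · exact Or.inr (Or.inl (sub_eq_zero.1 h))
      · exact Or.inr (Or.inr (eq_neg_of_add_eq_zero_left h))
  have hsq : ∀ u v : Fin 4 → F, W0 T s u → W0 T s v → H u v ≠ 0 → H u v * H u v = 1 := by
    intro u v hu hv h0
    rcases cube u v hu hv with h | h | h
    · exact absurd h h0
    · rw [h]; ring
    · rw [h]; ring
  have s1 := D.herm_symm hw.tf w1.tf
  have s2 := D.herm_symm hw.tf w2.tf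
  obtain ⟨β, hβ⟩ : ∃ β, H w (s w) = β := ⟨_, rfl⟩
  obtain ⟨γ, hγ⟩ : ∃ γ, H w (s (s w)) = γ := ⟨_, rfl⟩
  rw [hβ] at s1
  rw [hγ] at s2
  rw [hβ, hγ] at t3
  rw [t3] at hw0
  have c3 := D.h3
  by_cases hγ0 : γ = 0
  · rw [hγ0, add_zero] at t3 hw0
    rw [hγ0] at hγ
    refine ⟨w - s w, β, D.w0sub hw w1, ?_, ?_, hβ ▸ hsq _ _ hw w1 (by rwa [hβ])⟩
    · simp only [herm_sub_left, herm_sub_right D.hF, D.sherm, t3, hβ, s1]
      ring
    · simp only [D.ssub, herm_sub_left, herm_sub_right D.hF, D.sherm, t3, hβ, hγ]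
      ring
  · by_cases hβ0 : β = 0
    · rw [hβ0, zero_add] at t3 hw0
      rw [hβ0] at hβ s1
      refine ⟨w - s (s w), -γ, D.w0sub hw w2, ?_, ?_, by
        rw [neg_mul_neg]
        exact hγ ▸ hsq _ _ hw w2 (by rwa [hγ])⟩
      · simp only [herm_sub_left, herm_sub_right D.hF, D.sherm, t3, hγ, s2]
        ring
      · have k1 : H (s (s w)) (s w) = 0 := by rw [D.sherm, s1]
        simp only [D.ssub, herm_sub_left, herm_sub_right D.hF, k1, D.sherm, hβ, t1, hγ]
        ring
    · have e1 : β = γ := by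
        have b1 := cube _ _ hw w1
        have g1 := cube _ _ hw w2
        rw [hβ] at b1
        rw [hγ] at g1
        rcases b1 with h | h | h
        · exact absurd h hβ0
        · rcases g1 with h' | h' | h'
          · exact absurd h' hγ0
          · rw [h, h']
          · exact absurd (by rw [h, h']; ring) hw0
        · rcases g1 with h' | h' | h'
          · exact absurd h' hγ0
          · exact absurd (by rw [h, h']; ring) hw0
          · rw [h, h']
      rw [← e1] at hγ t3 s2
      refine ⟨w + s w, -β, D.w0add hw w1, ?_, ?_, by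
        rw [neg_mul_neg]
        exact hβ ▸ hsq _ _ hw w1 (by rwa [hβ])⟩
      · simp only [herm_add_left, herm_add_right D.hF, D.sherm, t3, hβ, s1]
        linear_combination (2 * β) * c3
      · simp only [D.sadd, herm_add_left, herm_add_right D.hF, D.sherm, t3, hβ, hγ]
        linear_combination (2 * β) * c3

/-- Siegel transformations of `V₀` commute with `T` -/
theorem T_siegel {u w : Fin 4 → F} {μ : F} (h : IsSiegel 3 u w μ) (hu : T u = u) (hw : T w = w) (hμ : μ ^ 3 = μ) (v) :
    T (act (siegel D.hF u w μ h) v) = act (siegel D.hF u w μ h) (T v) := by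
  have k1 : H (T v) u = (H v u) ^ 3 := by
    have h1 := D.Therm v u
    rwa [hu] at h1
  have k2 : H (T v) w = (H v w) ^ 3 := by
    have h1 := D.Therm v w
    rwa [hw] at h1
  rw [act_siegel, act_siegel, D.Tadd, D.Tadd, D.Tsmul, D.Tsmul, hu, hw, sub_pow_q D.hF, mul_pow, hμ, k1, k2]

/-- **the commutator of a Siegel transformation and `s`** -/
theorem key {e : Fin 4 → F} {a : F} (hW : W0 T s e) (h0 : H e e = 0) (ha : H e (s e) = a) (haa : a * a = 1) :
    ∃ (h1 : IsSiegel 3 e (a • (s (s e) - s (s (s e)))) a)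
      (h2 : IsSiegel 3 (s e - s (s e) + s (s (s e))) (a • (s e - e)) a),
      ∀ v, act (siegel D.hF _ _ _ h1) (s v) = act (siegel D.hF _ _ _ h2) (s (act (siegel D.hF _ _ _ h1) v)) := by
  obtain ⟨t1, t2, t3⟩ := D.tab hW
  have W1 := D.w0s hW
  have W2 := D.w0s W1
  have W3 := D.w0s W2
  have W4 := D.w0s W3
  have c3 := D.h3
  have ha3 : a ^ 3 = a := by linear_combination a * haa
  have hb : H e (s (s e)) = -a := by
    rw [h0, ha] at t3
    linear_combination -t3
  rw [hb] at t1
  rw [ha] at t2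
  -- the table
  have m01 := ha
  have m02 := hb
  have m03 := t1
  have m04 := t2
  have m10 : H (s e) e = a := by rw [D.herm_symm hW.tf W1.tf, m01]
  have m20 : H (s (s e)) e = -a := by rw [D.herm_symm hW.tf W2.tf, m02]
  have m30 : H (s (s (s e))) e = -a := by rw [D.herm_symm hW.tf W3.tf, m03]
  have m40 : H (s (s (s (s e)))) e = a := by rw [D.herm_symm hW.tf W4.tf, m04]
  have m11 : H (s e) (s e) = 0 := by rw [D.sherm, h0]
  have m12 : H (s e) (s (s e)) = a := by rw [D.sherm, m01]
  have m13 : H (s e) (s (s (s e))) = -a := by rw [D.sherm, m02]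
  have m14 : H (s e) (s (s (s (s e)))) = -a := by rw [D.sherm, m03]
  have m21 : H (s (s e)) (s e) = a := by rw [D.sherm, m10]
  have m22 : H (s (s e)) (s (s e)) = 0 := by rw [D.sherm, m11]
  have m23 : H (s (s e)) (s (s (s e))) = a := by rw [D.sherm, m12]
  have m31 : H (s (s (s e))) (s e) = -a := by rw [D.sherm, m20]
  have m32 : H (s (s (s e))) (s (s e)) = a := by rw [D.sherm, m21]
  have m33 : H (s (s (s e))) (s (s (s e))) = 0 := by rw [D.sherm, m22]
  have m41 : H (s (s (s (s e)))) (s e) = -a := by rw [D.sherm, m30]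
  have m42 : H (s (s (s (s e)))) (s (s e)) = -a := by rw [D.sherm, m31]
  have m43 : H (s (s (s (s e)))) (s (s (s e))) = a := by rw [D.sherm, m32]
  have h1 : IsSiegel 3 e (a • (s (s e) - s (s (s e)))) a := by
    refine ⟨h0, ?_, ?_⟩
    · rw [herm_smul_left, herm_sub_left, m20, m30]
      ring
    · rw [herm_smul_left, herm_smul_right, herm_sub_left, herm_sub_right D.hF, herm_sub_right D.hF, m22, m23, m32, m33,
        ha3]
      linear_combination (-2 * a) * haa
  have h2 : IsSiegel 3 (s e - s (s e) + s (s (s e))) (a • (s e - e)) a := by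
    refine ⟨?_, ?_, ?_⟩
    · simp only [herm_add_left, herm_sub_left, herm_add_right D.hF, herm_sub_right D.hF, m11, m12, m13, m21, m22, m23,
        m31, m32, m33]
      linear_combination (-2 * a) * c3
    · simp only [herm_smul_left, herm_sub_left, herm_add_right D.hF, herm_sub_right D.hF, m11, m12, m13,
        m01, m02, m03]
      linear_combination (-a * a) * c3
    · rw [herm_smul_left, herm_smul_right, herm_sub_left, herm_sub_right D.hF, herm_sub_right D.hF, m11, m10, m01, h0,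
        ha3]
      linear_combination (-2 * a) * haa
  refine ⟨h1, h2, fun v => ?_⟩
  -- the values of the form
  have k0 : H (s v) e = H v (s (s (s (s e)))) := by rw [← D.sherm v, D.s5]
  have hsum := congrArg (fun x => H v x) hW.sum
  simp only [herm_add_right D.hF, herm_zero_right D.hF] at hsum
  obtain ⟨z0, hz0⟩ : ∃ z, H v e = z := ⟨_, rfl⟩
  obtain ⟨z1, hz1⟩ : ∃ z, H v (s e) = z := ⟨_, rfl⟩
  obtain ⟨z2, hz2⟩ : ∃ z, H v (s (s e)) = z := ⟨_, rfl⟩
  obtain ⟨z3, hz3⟩ : ∃ z, H v (s (s (s e))) = z := ⟨_, rfl⟩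
  have hz4 : H v (s (s (s (s e)))) = -z0 - z1 - z2 - z3 := by
    rw [hz0, hz1, hz2, hz3] at hsum
    linear_combination hsum
  rw [hz4] at k0
  have k1 : H (s v) (s e) = z0 := by rw [D.sherm, hz0]
  have k2 : H (s v) (s (s e)) = z1 := by rw [D.sherm, hz1]
  have k3 : H (s v) (s (s (s e))) = z2 := by rw [D.sherm, hz2]
  have he4 : s (s (s (s e))) = -e - s e - s (s e) - s (s (s e)) := by
    have := hW.sum
    rw [← sub_eq_zero]
    rw [← this]
    abel
  -- `y = E₁ v`
  have hy : s (act (siegel D.hF _ _ _ h1) v) = s v + z0 • (a • (s (s (s e)) - s (s (s (s e))))) +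
      (a * z0 - a * (z2 - z3)) • s e := by
    rw [act_siegel, D.sadd, D.sadd, D.ssmul, D.ssmul, D.ssmul, D.ssub, hz0, herm_smul_right, ha3, herm_sub_right D.hF,
      hz2, hz3]
  have hA : H (s (act (siegel D.hF _ _ _ h1) v)) (s e - s (s e) + s (s (s e))) = -z0 - z1 + z3 := by
    rw [hy]
    simp only [herm_smul_left, herm_add_left, herm_sub_left, herm_add_right D.hF, herm_sub_right D.hF, m11, m12, m13,
      m31, m32, m33, m41, m42, m43, k1, k2, k3]
    linear_combination (-(5 : F) * z0 + 2 * z2 - 2 * z3) * haa + (-z0 + z2 - z3) * c3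
  have hB : H (s (act (siegel D.hF _ _ _ h1) v)) (a • (s e - e)) = a * (z1 - z2) := by
    rw [hy, herm_smul_right, ha3]
    simp only [herm_smul_left, herm_add_left, herm_sub_left, herm_sub_right D.hF, m11, m10, m30, m31, m40, m41, k0, k1]
    linear_combination (a * (z0 + z2 - z3)) * haa + a * (z0 + z2) * c3
  rw [act_siegel D.hF h2, hA, hB, hy, act_siegel, k0, herm_smul_right, ha3, herm_sub_right D.hF, k2, k3, he4]
  rw [← sub_eq_zero]
  have e : s v + (-z0 - z1 - z2 - z3) • (a • (s (s e) - s (s (s e)))) +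
        (a * (-z0 - z1 - z2 - z3) - a * (z1 - z2)) • e -
      (s v + z0 • (a • (s (s (s e)) - (-e - s e - s (s e) - s (s (s e))))) + (a * z0 - a * (z2 - z3)) • s e +
        (-z0 - z1 + z3) • (a • (s e - e)) +
        (a * (-z0 - z1 + z3) - a * (z1 - z2)) • (s e - s (s e) + s (s (s e)))) =
      (3 : F) • ((a * (-z0 - z1)) • e + (a * (z1 - z3)) • s e - (a * (z0 + z1)) • s (s e) +
        (a * z1) • s (s (s e))) := by
    module
  rw [e, c3, zero_smul]

end Dat

/-- (MV) for two elements -/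
theorem mvstep {G Ω : Type*} [Group G] [MulAction G Ω] {x y g t : G} (hcov : ∀ ω : Ω, x • ω = ω ∨ y • ω = ω)
    (hxg : x * g = g * x) (hgy : g * y = t * (y * g)) (ω : Ω) : x • ω = ω ∨ t • ω = ω := by
  by_cases hxω : x • ω = ω
  · exact Or.inl hxω
  · right
    have e1 : y • ω = ω := (hcov ω).resolve_left hxω
    have e2 : y • g⁻¹ • ω = g⁻¹ • ω := by
      refine (hcov _).resolve_left fun h => hxω ?_
      have h1 : g • (x • g⁻¹ • ω) = ω := by rw [h, smul_inv_smul]
      rwa [← mul_smul, ← hxg, mul_smul, smul_inv_smul] at h1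
    have h2 : t = g * y * g⁻¹ * y⁻¹ := by
      rw [hgy]
      group
    have e3 : y⁻¹ • ω = ω := by rw [inv_smul_eq_iff, e1]
    rw [h2, mul_smul, e3, mul_smul, mul_smul, e2, smul_inv_smul]

/-- the abstract end of the proof -/
theorem fin {G Ω : Type*} [Group G] [Nonempty Ω] [MulAction G Ω] {N : Subgroup G} (U : UEnv G Ω N F 4 3)
    {x y : G} (hcov : ∀ ω : Ω, x • ω = ω ∨ y • ω = ω) (D : Dat T s) (hy : U.Lft y s)
    (hx : ∀ σ σ' : SU 4 F 3, (∀ v, T (act σ v) = act σ' (T v)) → x * U.el σ * x⁻¹ = U.el σ') : False := by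
  obtain ⟨e, a, hW, h0, ha, haa⟩ := D.exists_e
  have ha3 : a ^ 3 = a := by linear_combination a * haa
  obtain ⟨h1, h2, hkey⟩ := D.key hW h0 ha haa
  have hF : U.hF = D.hF := rfl
  have W1 := D.w0s hW
  have W2 := D.w0s W1
  have W3 := D.w0s W2
  set u := s e - s (s e) + s (s (s e)) with hu
  set w := a • (s e - e) with hw
  have hTu : T u = u := by rw [hu, D.Tadd, D.Tsub, W1.tf, W2.tf, W3.tf]
  have hTw : T w = w := by rw [hw, D.Tsmul, D.Tsub, W1.tf, hW.tf, ha3]
  have hTw1 : T (a • (s (s e) - s (s (s e)))) = a • (s (s e) - s (s (s e))) := by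
    rw [D.Tsmul, D.Tsub, W2.tf, W3.tf, ha3]
  have m01 := ha
  have m02 : H e (s (s e)) = -a := by
    have := (D.tab hW).2.2
    rw [h0, ha] at this
    linear_combination -this
  have m03 : H e (s (s (s e))) = -a := by rw [(D.tab hW).1, m02]
  have m10 : H (s e) e = a := by rw [D.herm_symm hW.tf W1.tf, m01]
  have m20 : H (s (s e)) e = -a := by rw [D.herm_symm hW.tf W2.tf, m02]
  have m30 : H (s (s (s e))) e = -a := by rw [D.herm_symm hW.tf W3.tf, m03]
  have u1 : H u (s e) = -a - a := by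
    rw [hu, herm_add_left, herm_sub_left, D.sherm, D.sherm, D.sherm, h0, m10, m20]
    ring
  have u0 : H u e = a := by
    rw [hu, herm_add_left, herm_sub_left, m10, m20, m30]
    ring
  have w0 : H w e = 1 := by
    rw [hw, herm_smul_left, herm_sub_left, m10, h0, sub_zero, haa]
  have w1 : H w (s e) = -1 := by
    rw [hw, herm_smul_left, herm_sub_left, D.sherm, h0, m01]
    linear_combination -haa
  have ha0 : a ≠ 0 := by
    rintro rfl
    rw [mul_zero] at haa
    exact zero_ne_one haa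
  have hu0 : u ≠ 0 := by
    intro h
    rw [h, herm_zero_left] at u0
    exact ha0 u0.symm
  have hwu : ∀ c : F, w ≠ c • u := by
    intro c hc
    rw [hc, herm_smul_left, u0] at w0
    rw [hc, herm_smul_left, u1] at w1
    apply one_ne_zero (α := F)
    linear_combination (-2 : F) * w0 - w1
  -- (1) `x` commutes with the Siegel transformations of `V₀`
  have hxg := hx _ _ (D.T_siegel h1 hW.tf hTw1 ha3)
  have hxy := hx _ _ (D.T_siegel h2 hTu hTw ha3)
  obtain ⟨g, hg⟩ : ∃ g, U.el (siegel D.hF e (a • (s (s e) - s (s (s e)))) a h1) = g := ⟨_, rfl⟩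
  obtain ⟨t, ht⟩ : ∃ t, U.el (siegel D.hF u w a h2) = t := ⟨_, rfl⟩
  have hgy : g * y = t * (y * g) := by
    rw [← hg, ← ht]
    refine UEnv.Lft.inj ((U.lft_el _).mul hy) (?_ : U.Lft _ _)
    have e1 := (U.lft_el (siegel D.hF u w a h2)).mul (hy.mul (U.lft_el (siegel D.hF e (a • (s (s e) - s (s (s e)))) a h1)))
    have e2 : (fun v => act (siegel D.hF e (a • (s (s e) - s (s (s e)))) a h1) (s v)) = fun v =>
        act (siegel D.hF u w a h2) (s (act (siegel D.hF e (a • (s (s e) - s (s (s e)))) a h1) v)) := funext hkey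
    rw [e2]
    exact e1
  rw [hg] at hxg
  rw [ht] at hxy
  -- (2) the cover `x`, `t`
  have cov2 : ∀ ω : Ω, x • ω = ω ∨ t • ω = ω := mvstep hcov (mul_inv_eq_iff_eq_mul.1 hxg) hgy
  have hxt : x * t = t * x := mul_inv_eq_iff_eq_mul.1 hxy
  -- (3) transvections
  obtain ⟨ν, hν0, hν⟩ := exists_trace_zero_ne D.hF
  have huu : H u u = 0 := h2.iso
  have hν' : -ν + (-ν) ^ 3 = 0 := by linear_combination -hν
  have hνν : (ν + ν) + (ν + ν) ^ 3 = 0 := by
    rw [add_pow_q D.hF]
    linear_combination 2 * hν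
  obtain ⟨c, hc⟩ : ∃ c, U.el (transv D.hF u huu ν hν) = c := ⟨_, rfl⟩
  have hxc : x * c * x⁻¹ = c⁻¹ := by
    rw [← hc, hx _ (transv D.hF u huu (-ν) hν'), ← map_inv]
    · congr 1
      rw [eq_inv_iff_mul_eq_one, transv_mul]
      have h0' : (0 : F) + 0 ^ 3 = 0 := by ring
      rw [← transv_zero D.hF huu h0']
      congr 1
      ring
    · intro v
      have k1 : H (T v) u = (H v u) ^ 3 := by
        have h1 := D.Therm v u
        rwa [hTu] at h1
      rw [act_transv, act_transv, D.Tadd, D.Tsmul, hTu, k1, mul_pow]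
      congr 2
      linear_combination (H v u) ^ 3 * hν
  have hct : t * c = c * t := by
    rw [← hc, ← ht]
    exact UEnv.Q_comm (hu := huu) hν (UEnv.siegel_mem_Q h2)
  -- (4) the cover `t`, `c²`
  have cov3 : ∀ ω : Ω, t • ω = ω ∨ (c * c) • ω = ω := by
    refine mvstep (fun ω => (cov2 ω).symm) hct ?_
    have h1 : x * c = c⁻¹ * x := mul_inv_eq_iff_eq_mul.1 hxc
    rw [h1]
    group
  have hcc : c * c = U.el (transv D.hF u huu (ν + ν) hνν) := by
    rw [← hc, ← map_mul, transv_mul]
  have hν2 : ν + ν ≠ 0 := by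
    intro h
    apply hν0
    linear_combination -h + ν * D.h3
  rw [hcc] at cov3
  -- (5) the end
  refine not_cov_one U.env (U := U.Q u huu) (fun ω => (cov3 ω).symm) (fun y hy => UEnv.Q_comm hνν hy)
    (U.el_transv_ne huu hu0 hνν hν2) ?_
  obtain ⟨b, hb⟩ := exists_sub_pow D.hF hνν
  obtain ⟨z, hz1, hz2⟩ := exists_perp_eq D.hF hwu b
  obtain ⟨κ, hκ⟩ := exists_mu D.hF huu hz1
  have h5 := mem_cmm (U := U.Q u huu) (x := t) (UEnv.siegel_mem_Q (U := U) (hu := huu) hκ)
  rw [← ht, ← map_inv, ← map_inv, ← map_mul, ← map_mul, ← map_mul] at h5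
  rw [siegel_comm D.hF hκ h2 hνν (by rw [herm_swap D.hF z, hz2, hb]), ht] at h5
  exact h5

end G43

theorem graph43 : GraphFourThree := by
  intro G Ω _ _ _ _ _ N F _ _ n q U ι _ x f r hfam hcov hP
  obtain ⟨rfl, rfl, i0, j0, T, hT, ⟨v, hTv, hv⟩, hr5, hall⟩ := hP
  have c3 : (3 : F) = 0 := G43.three_eq_zero U.hF
  have hj0 : j0 ≠ i0 := by
    rintro rfl
    have := hT.r2
    omega
  obtain ⟨ε, hε, hherm⟩ := hT.herm
  have hε1 : ε = 1 := by
    rcases hε with h | h
    · exact h
    · exfalso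
      have h1 := hherm v v
      rw [hTv, herm_self_pow U.hF, h] at h1
      apply hv
      linear_combination -h1 + hermForm 4 F 3 v v * c3
  obtain ⟨ρ, hρ1, hρ2⟩ := UEnv.Lft.ind (hfam.lft j0) |>.exists_rho
  have hlin := hT.lin j0 hj0
  have hf0 : ∀ v, f j0 v = 0 → v = 0 := by
    intro v hv
    apply Ind.injective (hfam.lft j0)
    rw [hv, Ind.map_zero (hfam.lft j0)]
  have hv0 : v ≠ 0 := by
    rintro rfl
    exact hv (herm_zero_left _)
  have hρ : ∀ c, ρ c = c := by
    intro c
    have h1 := hlin c v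
    rw [hρ1] at h1
    have h2 : (ρ c - c) • f j0 v = 0 := by rw [sub_smul, h1, sub_self]
    rcases smul_eq_zero.1 h2 with h | h
    · exact sub_eq_zero.1 h
    · exact absurd (hf0 v h) hv0
  have hne : x j0 ≠ 1 := hfam.pf.ne j0
  -- `s ^ 5 = 1`
  have hs5 : ∀ v, (f j0)^[5] v = v := by
    have hp := hfam.pf.pow j0
    rw [hr5] at hp
    obtain ⟨c, hc⟩ := ((hfam.lft j0).pow 5).eq_one_iff.1 hp
    obtain ⟨k, hk⟩ := hfam.ord j0
    rw [hr5] at hk
    have hit : ∀ m v, (f j0)^[5 * m] v = c ^ m • v := by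
      intro m
      induction m with
      | zero => intro v; simp
      | succ m ih =>
        intro v
        rw [Nat.mul_succ, Function.iterate_add_apply, hc, ih, smul_smul, pow_succ]
    have hcv : c ^ 5 ^ k = 1 := by
      have h1 : (f j0)^[5 * 5 ^ k] v = v := by
        rw [← pow_succ']
        rw [pow_succ, Function.iterate_mul]
        exact Function.iterate_fixed (hk v) 5
      rw [hit] at h1
      have h2 : (c ^ 5 ^ k - 1) • v = 0 := by rw [sub_smul, h1, one_smul, sub_self]
      exact sub_eq_zero.1 ((smul_eq_zero.1 h2).resolve_right hv0)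
    have hc0 : c ≠ 0 := by
      rintro rfl
      rw [zero_pow (by positivity)] at hcv
      exact zero_ne_one hcv
    have hc8 : c ^ 8 = 1 := by
      have h1 := FiniteField.pow_card_sub_one_eq_one c hc0
      rw [U.hF] at h1
      exact h1
    have hc1 : c = 1 := by
      have h1 : orderOf c ∣ 5 ^ k := orderOf_dvd_of_pow_eq_one hcv
      have h2 : orderOf c ∣ 8 := orderOf_dvd_of_pow_eq_one hc8
      have h3 : orderOf c ∣ 1 := by
        have h4 : Nat.Coprime (5 ^ k) 8 := Nat.Coprime.pow_left k (by norm_num)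
        rw [← h4]
        exact Nat.dvd_gcd h1 h2
      exact orderOf_eq_one_iff.1 (Nat.dvd_one.1 h3)
    intro v
    rw [hc, hc1, one_smul]
  have D : G43.Dat T (f j0) :=
    { hF := U.hF
      Tadd := hT.add
      Tsmul := hT.smul
      TT := hT.TT
      Therm := fun u v => by rw [hherm, hε1, one_mul]
      sadd := Ind.map_add (hfam.lft j0)
      ssmul := hlin
      sherm := fun u v => by rw [hρ2, hρ]
      s5 := hs5
      sT := hT.comm j0 hj0
      sne := by
        by_contra hcon
        push Not at hcon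
        exact hne ((hfam.lft j0).eq_one_iff.2 ⟨1, fun v => by rw [hcon, one_smul]⟩) }
  refine G43.fin (Ω := Ω) U (x := x i0) (y := x j0) (fun ω => ?_) D (hfam.lft j0) ?_
  · obtain ⟨i, hi⟩ := hcov ω
    rcases hall i with rfl | rfl
    · exact Or.inl hi
    · exact Or.inr hi
  · intro σ σ' h
    obtain ⟨b, hb0, hb⟩ := hT.eq
    apply (hfam.lft i0).conj_el
    intro v
    have h1 := h v
    rw [hb, hb, act_smul] at h1
    exact smul_right_injective _ hb0 h1

end Cfsg.Agent.H188.RC
end

-- part: H906/RC/CaseOne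
section
/-!
# S3510, family E (unitary groups), box E9: case I, all elements linear, of order prime to `p` (helper906)

`case_one` : `CaseOne` from the structure theorem `StrStmt` (E8), the subspace lemmas `DecStmt`, `GDecStmt`, `DStmt`,
`LStmt`, the irreducible case `IrrStmt`, the arithmetic `SmallStmt` and the point rule `UEnv.point`.
-/

set_option autoImplicit false

namespace Cfsg.Agent.H906.RC

open Matrix Cfsg Cfsg.Agent.LieClassical.HermBasic Cfsg.Agent.H380.RC

/-- roots of unity of a finite field are powers of one of them -/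
theorem exists_root_gen {F : Type*} [Field F] [Fintype F] {d : ℕ} (hd : d ∣ Nat.card Fˣ) :
    ∃ ζ : F, ζ ^ d = 1 ∧ ∀ z : F, z ^ d = 1 → ∃ k : ℕ, z = ζ ^ k := by
  classical
  obtain ⟨γ, hγ⟩ := IsCyclic.exists_generator (α := Fˣ)
  obtain ⟨m, hm⟩ := hd
  have hpos : 0 < Nat.card Fˣ := Nat.card_pos
  have hd0 : 0 < d := by
    rcases Nat.eq_zero_or_pos d with h0 | h0
    · rw [h0, zero_mul] at hm; omega
    · exact h0
  have hord : orderOf γ = Nat.card Fˣ := orderOf_eq_card_of_forall_mem_zpowers hγ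
  refine ⟨(γ : F) ^ m, ?_, fun z hz => ?_⟩
  · rw [← pow_mul, mul_comm m d, ← hm, ← Units.val_pow_eq_pow_val, pow_card_eq_one', Units.val_one]
  · have hz0 : z ≠ 0 := by
      rintro rfl
      rw [zero_pow hd0.ne'] at hz
      exact zero_ne_one hz
    obtain ⟨k, hk⟩ := (Submonoid.mem_powers_iff _ _).1 ((mem_powers_iff_mem_zpowers).2 (hγ (Units.mk0 z hz0)))
    have h1 : γ ^ (k * d) = 1 := by
      rw [pow_mul, hk]
      apply Units.ext
      rw [Units.val_pow_eq_pow_val, Units.val_mk0, hz, Units.val_one]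
    have h2 : d * m ∣ k * d := by
      rw [← hm, ← hord]
      exact orderOf_dvd_of_pow_eq_one h1
    have h3 : m ∣ k := by
      rw [mul_comm k d] at h2
      exact Nat.dvd_of_mul_dvd_mul_left hd0 h2
    obtain ⟨t, rfl⟩ := h3
    refine ⟨t, ?_⟩
    have h4 := congrArg Units.val hk
    rw [Units.val_pow_eq_pow_val, Units.val_mk0, pow_mul] at h4
    exact h4.symm

section frame

variable {F : Type} [Field F] [Fintype F] {q : ℕ}

/-- expansion with respect to an orthonormal frame -/
theorem frame_expand (hF : Fintype.card F = q ^ 2) {w : Fin 3 → (Fin 3 → F)}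
    (hw : ∀ i j, hermForm 3 F q (w i) (w j) = if i = j then 1 else 0) (v : Fin 3 → F) :
    v = ∑ j, hermForm 3 F q v (w j) • w j := by
  have hli : LinearIndependent F w := by
    rw [Fintype.linearIndependent_iff]
    intro g hg i
    have h1 := congrArg (fun v => hermForm 3 F q v (w i)) hg
    rw [herm_sum_left, herm_zero_left] at h1
    simp only [herm_smul_left, hw, mul_ite, mul_one, mul_zero, Finset.sum_ite_eq', Finset.mem_univ, if_true] at h1
    exact h1
  have hsp : Submodule.span F (Set.range w) = ⊤ :=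
    hli.span_eq_top_of_card_eq_finrank (by rw [Fintype.card_fin, Module.finrank_fin_fun])
  rw [← sub_eq_zero]
  apply herm_nondeg hF
  intro u
  have hu : u ∈ Submodule.span F (Set.range w) := hsp ▸ Submodule.mem_top
  induction hu using Submodule.span_induction with
  | mem u hu =>
    obtain ⟨i, rfl⟩ := hu
    rw [herm_sub_left, herm_sum_left]
    simp only [herm_smul_left, hw, mul_ite, mul_one, mul_zero, Finset.sum_ite_eq', Finset.mem_univ, if_true, sub_self]
  | zero => exact herm_zero_right hF _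
  | add a b _ _ ha hb => rw [herm_add_right hF, ha, hb, add_zero]
  | smul c a _ ha => rw [herm_smul_right, ha, mul_zero]

end frame

section gdec

variable {G Ω : Type} [Group G] [Finite G] [Finite Ω] [Nonempty Ω] [MulAction G Ω] {N : Subgroup G} {F : Type}
  [Field F] [Fintype F] {q : ℕ} {ι : Type} [Finite ι]

/-- the plane spanned by two vectors of an orthonormal frame -/
theorem frame_plane (hgdec : GDecStmt) (U : UEnv G Ω N F 3 q) {x : ι → G} {f : ι → (Fin 3 → F) → (Fin 3 → F)}
    {r : ι → ℕ} (hfam : UFam U x f r) (hcov : H106.RC.Cov Ω x) (hlin : ∀ i, Lin (f i)) (hcop : ∀ i, (r i).Coprime q)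
    {w : Fin 3 → (Fin 3 → F)} (hw : ∀ i j, hermForm 3 F q (w i) (w j) = if i = j then 1 else 0)
    {c : ι → Fin 3 → F} (hc : ∀ i j, f i (w j) = c i j • w j) (hq : 4 ≤ q)
    {a b : Fin 3} (hab : a ≠ b) {ζ : F} (hζ : ζ * ζ ^ q = 1) (hk : ∀ i, ∃ k : ℕ, c i b = c i a * ζ ^ k)
    (halt : (∀ (K : Type) [Field K] [Fintype K], Fintype.card K = q →
        H106.RC.RC (Matrix.ProjectiveSpecialLinearGroup (Fin 2) K)) ∨ (∃ l : ℕ, l.Prime ∧ ζ ^ l = 1)) : False := by
  have haa : hermForm 3 F q (w a) (w a) = 1 := by rw [hw, if_pos rfl]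
  have hbb : hermForm 3 F q (w b) (w b) = 1 := by rw [hw, if_pos rfl]
  have hab' : hermForm 3 F q (w a) (w b) = 0 := by rw [hw, if_neg hab]
  have hba' : hermForm 3 F q (w b) (w a) = 0 := by rw [hw, if_neg hab.symm]
  set A : Submodule F (Fin 3 → F) := Submodule.span F {w a, w b} with hA
  have hmem : ∀ v, v ∈ A ↔ ∃ s t : F, s • w a + t • w b = v := fun v => Submodule.mem_span_pair
  have hfr : Module.finrank F A = 2 := by
    have h1 : LinearIndependent F ![w a, w b] := by
      rw [LinearIndependent.pair_iff]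
      intro s t hst
      have h1 := congrArg (fun v => hermForm 3 F q v (w a)) hst
      have h2 := congrArg (fun v => hermForm 3 F q v (w b)) hst
      simp only [herm_add_left, herm_smul_left, haa, hba', herm_zero_left, mul_one, mul_zero, add_zero] at h1
      simp only [herm_add_left, herm_smul_left, hbb, hab', herm_zero_left, mul_one, mul_zero, zero_add] at h2
      exact ⟨h1, h2⟩
    have h2 := finrank_span_eq_card h1
    rw [Matrix.range_cons, Matrix.range_cons, Matrix.range_empty, Set.union_empty, Fintype.card_fin,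
      Set.singleton_union] at h2
    exact h2
  have hgw : ∀ s t : F, (s • w a + t • w b) + ((ζ - 1) * hermForm 3 F q (s • w a + t • w b) (w b)) • w b =
      s • w a + (ζ * t) • w b := by
    intro s t
    rw [herm_add_left, herm_smul_left, herm_smul_left, hab', hbb, mul_zero, zero_add, mul_one, add_assoc, ← add_smul]
    congr 2
    ring
  set g : (Fin 3 → F) → (Fin 3 → F) := fun v => v + ((ζ - 1) * hermForm 3 F q v (w b)) • w b with hg
  have hgw' : ∀ s t : F, g (s • w a + t • w b) = s • w a + (ζ * t) • w b := hgw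
  have hit : ∀ (k : ℕ) (s t : F), g^[k] (s • w a + t • w b) = s • w a + (ζ ^ k * t) • w b := by
    intro k
    induction k with
    | zero => intro s t; rw [Function.iterate_zero, pow_zero, one_mul]; rfl
    | succ k ih => intro s t; rw [Function.iterate_succ_apply', ih, hgw', pow_succ', mul_assoc]
  refine hgdec U x f ⟨hfam.pf.ne, hfam.lft, hfam.comm⟩ hcov A g ?_ ?_ hfr.ge (fun h => ?_) (fun h => ?_) (fun i => ?_)
    (fun i _ => ⟨r i, hfam.pf.prime i, hcop i, hfam.pf.pow i⟩) ?_ ?_ ?_ ?_ (fun i => ?_) ?_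
  · intro v hv hv'
    obtain ⟨s, t, rfl⟩ := (hmem v).1 hv
    have h1 := hv' (w a) (Submodule.subset_span (Set.mem_insert _ _))
    have h2 := hv' (w b) (Submodule.subset_span (Set.mem_insert_of_mem _ rfl))
    rw [herm_add_left, herm_smul_left, herm_smul_left, haa, hba', mul_one, mul_zero, add_zero] at h1
    rw [herm_add_left, herm_smul_left, herm_smul_left, hbb, hab', mul_one, mul_zero, zero_add] at h2
    rw [h1, h2, zero_smul, zero_smul, add_zero]
  · intro h
    rw [h, finrank_top, Module.finrank_fin_fun] at hfr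
    omega
  · omega
  · omega
  · refine ⟨hlin i, fun v hv => ?_⟩
    obtain ⟨s, t, rfl⟩ := (hmem v).1 hv
    rw [(hfam.lft i).ind.map_add, hlin, hlin, hc, hc, smul_smul, smul_smul]
    exact (hmem _).2 ⟨_, _, rfl⟩
  · intro v v'
    simp only [hg]
    rw [herm_add_left, mul_add, add_smul]
    abel
  · intro d v
    simp only [hg]
    rw [herm_smul_left, smul_add, smul_smul]
    congr 2
    ring
  · intro v hv
    obtain ⟨s, t, rfl⟩ := (hmem v).1 hv
    rw [hgw']
    exact (hmem _).2 ⟨_, _, rfl⟩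
  · intro v hv v' hv'
    obtain ⟨s, t, rfl⟩ := (hmem v).1 hv
    obtain ⟨s', t', rfl⟩ := (hmem v').1 hv'
    rw [hgw', hgw']
    simp only [herm_add_left, herm_smul_left, herm_add_right U.hF, herm_smul_right, haa, hbb, hab', hba', mul_zero,
      mul_one, add_zero, zero_add, mul_pow]
    linear_combination (t' ^ q * t) * hζ
  · obtain ⟨k, hk⟩ := hk i
    refine ⟨k, c i a, fun v hv => ?_⟩
    obtain ⟨s, t, rfl⟩ := (hmem v).1 hv
    rw [hit, (hfam.lft i).ind.map_add, hlin, hlin, hc, hc, hk, smul_add, smul_smul, smul_smul, smul_smul, smul_smul]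
    congr 2
    · ring
    · ring
  · rcases halt with h | ⟨l, hl, hl1⟩
    · exact Or.inr (Or.inl ⟨hfr, h⟩)
    · refine Or.inr (Or.inr ⟨l, 1, hl, 1, fun v hv => ?_⟩)
      obtain ⟨s, t, rfl⟩ := (hmem v).1 hv
      rw [hit, pow_one, hl1, one_mul, one_smul]

/-- the case of an orthonormal frame of common eigenvectors -/
theorem case_frame (hgdec : GDecStmt) (U : UEnv G Ω N F 3 q) {x : ι → G} {f : ι → (Fin 3 → F) → (Fin 3 → F)}
    {r : ι → ℕ} (hfam : UFam U x f r) (hcov : H106.RC.Cov Ω x) (hlin : ∀ i, Lin (f i)) (hcop : ∀ i, (r i).Coprime q)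
    (hiso : ∀ i v w, hermForm 3 F q (f i v) (f i w) = hermForm 3 F q v w)
    (se : ∀ (K : Type) [Field K] [Fintype K], Fintype.card K = q → 4 ≤ q → q ≠ 4 → q ≠ 5 → q ≠ 9 →
      H106.RC.RC (Matrix.ProjectiveSpecialLinearGroup (Fin 2) K))
    {w : Fin 3 → (Fin 3 → F)} (hw : ∀ i j, hermForm 3 F q (w i) (w j) = if i = j then 1 else 0)
    (hfw : ∀ i j, ∃ c : F, f i (w j) = c • w j) : False := by
  have pf := hfam.pf
  have hF := U.hF
  have hq2 := two_le hF
  have hq2' : q ≠ 2 := fun h => U.h32 ⟨rfl, h⟩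
  choose c hc using hfw
  have hcn : ∀ i j, c i j * c i j ^ q = 1 := by
    intro i j
    have h1 := hiso i (w j) (w j)
    rw [hc, herm_smul_left, herm_smul_right, hw, if_pos rfl, mul_one] at h1
    exact h1
  have hc0 : ∀ i j, c i j ≠ 0 := by
    intro i j h
    have h1 := hcn i j
    rw [h, zero_mul] at h1
    exact zero_ne_one h1
  have hcn' : ∀ i j, c i j ^ (q + 1) = 1 := fun i j => by rw [pow_succ', hcn]
  have hit : ∀ i j (k : ℕ), (f i)^[k] (w j) = c i j ^ k • w j := by
    intro i j k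
    induction k with
    | zero => rw [Function.iterate_zero, pow_zero, one_smul]; rfl
    | succ k ih => rw [Function.iterate_succ_apply', ih, hlin, hc, smul_smul, pow_succ]
  have hw0 : ∀ j, w j ≠ 0 := by
    intro j h
    have h1 := hw j j
    rw [h, herm_zero_left, if_pos rfl] at h1
    exact zero_ne_one h1
  -- the primes divide `q + 1`
  have hdvd : ∀ i, r i ∣ q + 1 := by
    intro i
    have h1 : x i ^ (q + 1) = 1 := by
      have h2 := (hfam.lft i).pow (q + 1)
      refine h2.eq_one_iff.2 ⟨1, fun v => ?_⟩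
      rw [one_smul]
      have h3 : ∀ s : Finset (Fin 3), (f i)^[q + 1] (∑ j ∈ s, hermForm 3 F q v (w j) • w j) =
          ∑ j ∈ s, hermForm 3 F q v (w j) • w j := by
        intro s
        induction s using Finset.induction_on with
        | empty => rw [Finset.sum_empty]; exact h2.ind.map_zero
        | insert j s hj ih =>
          rw [Finset.sum_insert hj, h2.ind.map_add, ih]
          congr 1
          have h4 : ∀ (k : ℕ) (d : F) (u : Fin 3 → F), (f i)^[k] (d • u) = d • (f i)^[k] u := by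
            intro k
            induction k with
            | zero => intro d u; rfl
            | succ k ih => intro d u; rw [Function.iterate_succ_apply', Function.iterate_succ_apply', ih, hlin]
          rw [h4, hit, hcn', one_smul]
      have h4 := h3 Finset.univ
      rw [← frame_expand hF hw v] at h4
      exact h4
    have := Fact.mk (pf.prime i)
    have h5 : orderOf (x i) = r i := orderOf_eq_prime (pf.pow i) (pf.ne i)
    exact h5 ▸ orderOf_dvd_of_pow_eq_one h1
  -- not all primes are equal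
  have htwo : ∀ l : ℕ, ¬ ∀ i, r i = l := by
    intro l hl
    obtain ⟨ω⟩ := (inferInstance : Nonempty Ω)
    obtain ⟨i, -⟩ := hcov ω
    obtain ⟨j, hj⟩ := H106.RC.Cov.two U.env hcov pf.ne i
    exact hj (pf.inj ((hl j).trans (hl i).symm))
  have hcu := card_units_eq hF
  have hratio : ∀ i (a b : Fin 3) (d : ℕ), c i a ^ d = c i b ^ d → (c i b / c i a) ^ d = 1 := by
    intro i a b d h
    rw [div_pow, h, div_self (pow_ne_zero _ (hc0 i b))]
  by_cases hq3 : q = 3
  · refine htwo 2 fun i => ?_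
    have h1 : r i ∣ 2 ^ 2 := by
      have := hdvd i
      rw [hq3] at this
      exact this
    exact (Nat.prime_dvd_prime_iff_eq (pf.prime i) Nat.prime_two).1 ((pf.prime i).dvd_of_dvd_pow h1)
  have hq4 : 4 ≤ q := by omega
  by_cases hqe : q ≠ 4 ∧ q ≠ 5 ∧ q ≠ 9
  · obtain ⟨ζ, hζ, hζ'⟩ := exists_root_gen (F := F) (d := q + 1) (hcu ▸ dvd_mul_right _ _)
    refine frame_plane hgdec U hfam hcov hlin hcop hw hc hq4 (a := 0) (b := 1) (by decide)
      (ζ := ζ) (by rw [← pow_succ', hζ]) (fun i => ?_) (Or.inl fun K _ _ hK => se K hK hq4 hqe.1 hqe.2.1 hqe.2.2)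
    obtain ⟨k, hk⟩ := hζ' (c i 1 / c i 0) (hratio i 0 1 (q + 1) ((hcn' i 0).trans (hcn' i 1).symm))
    exact ⟨k, by rw [← hk, mul_div_cancel₀ _ (hc0 i 0)]⟩
  -- the small fields
  obtain ⟨l, hl, hl2, hlq, hlr⟩ : ∃ l : ℕ, l.Prime ∧ l ≠ 2 ∧ l ∣ q + 1 ∧ ∀ i, r i = 2 ∨ r i = l := by
    have h1 : q = 4 ∨ q = 5 ∨ q = 9 := by (clear * - hqe; tauto)
    rcases h1 with rfl | rfl | rfl
    · refine ⟨5, by norm_num, by decide, by decide, fun i => Or.inr ?_⟩
      exact (Nat.prime_dvd_prime_iff_eq (pf.prime i) (by norm_num)).1 (hdvd i)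
    · refine ⟨3, by norm_num, by decide, by decide, fun i => ?_⟩
      have h2 : r i ∣ 2 * 3 := hdvd i
      rcases (Nat.Prime.dvd_mul (pf.prime i)).1 h2 with h3 | h3
      · exact Or.inl ((Nat.prime_dvd_prime_iff_eq (pf.prime i) (by norm_num)).1 h3)
      · exact Or.inr ((Nat.prime_dvd_prime_iff_eq (pf.prime i) (by norm_num)).1 h3)
    · refine ⟨5, by norm_num, by decide, by decide, fun i => ?_⟩
      have h2 : r i ∣ 2 * 5 := hdvd i
      rcases (Nat.Prime.dvd_mul (pf.prime i)).1 h2 with h3 | h3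
      · exact Or.inl ((Nat.prime_dvd_prime_iff_eq (pf.prime i) (by norm_num)).1 h3)
      · exact Or.inr ((Nat.prime_dvd_prime_iff_eq (pf.prime i) (by norm_num)).1 h3)
  obtain ⟨i₂, hi₂⟩ : ∃ i, r i = 2 := by
    by_contra h
    push Not at h
    exact htwo l fun i => (hlr i).resolve_left (h i)
  have hlr' : ∀ j, j ≠ i₂ → r j = l := fun j hj => (hlr j).resolve_left fun h => hj (pf.inj (h.trans hi₂.symm))
  -- powers
  have hpw : ∀ i (a b : Fin 3), c i a ^ r i = c i b ^ r i := by
    intro i a b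
    obtain ⟨d, hd⟩ := ((hfam.lft i).pow (r i)).eq_one_iff.1 (pf.pow i)
    have h1 : ∀ a, c i a ^ r i = d := by
      intro a
      have h2 := hd (w a)
      rw [hit] at h2
      have h3 : (c i a ^ r i - d) • w a = 0 := by rw [sub_smul, h2, sub_self]
      exact sub_eq_zero.1 ((smul_eq_zero.1 h3).resolve_right (hw0 a))
    rw [h1, h1]
  obtain ⟨a, b, hab, hcab⟩ : ∃ a b : Fin 3, a ≠ b ∧ c i₂ a = c i₂ b := by
    have h1 : ∀ a b, c i₂ a = c i₂ b ∨ c i₂ a = - c i₂ b := by
      intro a b
      have h2 := hpw i₂ a b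
      rw [hi₂] at h2
      exact sq_eq_sq_iff_eq_or_eq_neg.1 h2
    rcases h1 0 1 with h2 | h2
    · exact ⟨0, 1, by decide, h2⟩
    · rcases h1 0 2 with h3 | h3
      · exact ⟨0, 2, by decide, h3⟩
      · exact ⟨1, 2, by decide, neg_injective (h2.symm.trans h3)⟩
  obtain ⟨ζ, hζ, hζ'⟩ := exists_root_gen (F := F) (d := l) (hcu ▸ hlq.trans (dvd_mul_right _ _))
  refine frame_plane hgdec U hfam hcov hlin hcop hw hc hq4 hab (ζ := ζ) ?_ (fun i => ?_) (Or.inr ⟨l, hl, hζ⟩)
  · obtain ⟨m, hm⟩ := hlq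
    rw [← pow_succ', hm, pow_mul, hζ, one_pow]
  · by_cases hi : i = i₂
    · subst hi
      exact ⟨0, by rw [pow_zero, mul_one, hcab]⟩
    · obtain ⟨k, hk⟩ := hζ' (c i b / c i a) (hratio i a b l (hlr' i hi ▸ hpw i a b))
      exact ⟨k, by rw [← hk, mul_div_cancel₀ _ (hc0 i a)]⟩

end gdec

section halves

variable {F : Type} [Field F] [Fintype F] {n q : ℕ}

/-- two totally singular halves have the same dimension (one inequality) -/
theorem finrank_le_of_ts (hF : Fintype.card F = q ^ 2) {W W' : Submodule F (Fin n → F)} (hW : TS q W)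
    (hc : W ⊔ W' = ⊤) : Module.finrank F W ≤ Module.finrank F W' := by
  set b := Module.finBasis F W' with hb
  let T : W →ₗ[F] (Fin (Module.finrank F W') → F) :=
    { toFun := fun w j => hermForm n F q w (b j : Fin n → F)
      map_add' := fun u v => by
        funext j
        change hermForm n F q ((u : Fin n → F) + v) _ = _
        rw [herm_add_left]
        rfl
      map_smul' := fun c u => by
        funext j
        change hermForm n F q (c • (u : Fin n → F)) _ = _
        rw [herm_smul_left]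
        rfl }
  have hT : Function.Injective T := by
    rw [injective_iff_map_eq_zero]
    intro w hw
    apply Subtype.ext
    change (w : Fin n → F) = 0
    apply herm_nondeg hF
    intro v
    have hv : v ∈ W ⊔ W' := hc ▸ Submodule.mem_top
    obtain ⟨a, ha, a', ha', rfl⟩ := Submodule.mem_sup.1 hv
    rw [herm_add_right hF, hW w w.2 a ha, zero_add]
    have h1 : a' = ∑ j, (b.repr ⟨a', ha'⟩ j) • (b j : Fin n → F) := by
      have h2 := congrArg Subtype.val (b.sum_repr ⟨a', ha'⟩)
      rw [Submodule.coe_sum] at h2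
      exact h2.symm
    rw [h1, herm_sum_right hF]
    refine Finset.sum_eq_zero fun j _ => ?_
    rw [herm_smul_right]
    have h3 := congrFun hw j
    change hermForm n F q w (b j : Fin n → F) = 0 at h3
    rw [h3, mul_zero]
  have h1 := LinearMap.finrank_le_finrank_of_injective hT
  rwa [Module.finrank_fin_fun] at h1

theorem finrank_half (hF : Fintype.card F = q ^ 2) {W W' : Submodule F (Fin n → F)} (hW : TS q W) (hW' : TS q W')
    (hc : IsCompl W W') : n = 2 * Module.finrank F W := by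
  have h1 := finrank_le_of_ts hF hW hc.sup_eq_top
  have h2 := finrank_le_of_ts hF hW' (sup_comm W W' ▸ hc.sup_eq_top)
  have h3 := Submodule.finrank_add_eq_of_isCompl hc
  rw [Module.finrank_fin_fun] at h3
  omega

/-- a map of prime power order without nonzero fixed vectors -/
theorem prime_dvd_of_no_fixed {V : Type*} [AddCommGroup V] [Finite V] {g : V → V} (hg0 : g 0 = 0) {r k : ℕ}
    (hr : r.Prime) (hg : ∀ v, g^[r ^ k] v = v) (hfix : ∀ v, g v = v → v = 0) : r ∣ Nat.card V - 1 := by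
  classical
  have := Fact.mk hr
  have := Fintype.ofFinite V
  let g' : Function.End V := g
  have h0 : ∀ m : ℕ, g' ^ m = (g^[m] : V → V) := by
    intro m
    induction m with
    | zero => rfl
    | succ m ih => rw [pow_succ', ih]; funext v; exact (Function.iterate_succ_apply' g m v).symm
  have h1 : g' ^ r ^ k = 1 := by
    rw [h0]
    funext v
    exact hg v
  have h2 := Equiv.Perm.card_fixedPoints_modEq h1
  have h3 : Fintype.card (Function.fixedPoints g) = 1 := by
    rw [Fintype.card_eq_one_iff]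
    exact ⟨⟨0, hg0⟩, fun v => Subtype.ext (hfix v.1 v.2)⟩
  have h4 : Fintype.card (Function.fixedPoints g') = 1 := h3
  rw [Nat.card_eq_fintype_card]
  refine (Nat.modEq_iff_dvd' Fintype.card_pos).1 (Nat.ModEq.symm ?_)
  have h5 := h4 ▸ h2
  exact h5

end halves

section four

variable {G Ω : Type} [Group G] [Finite G] [Finite Ω] [Nonempty Ω] [MulAction G Ω] {N : Subgroup G} {F : Type}
  [Field F] [Fintype F] {n q : ℕ} {ι : Type} [Finite ι]

theorem case_halves (hd : DStmt) (U : UEnv G Ω N F n q) {x : ι → G} {f : ι → (Fin n → F) → (Fin n → F)}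
    {r : ι → ℕ} (hfam : UFam U x f r) (hcov : H106.RC.Cov Ω x) (h42 : ¬ (n = 4 ∧ q = 2)) (hlin : ∀ i, Lin (f i))
    (hcop : ∀ i, (r i).Coprime q)
    (sc : ∀ d, n = 2 * d → ¬ (d = 2 ∧ q ≤ 3) → H106.RC.RC (Matrix.ProjectiveSpecialLinearGroup (Fin d) F))
    {W W' : Submodule F (Fin n → F)} (hW : TS q W) (hW' : TS q W') (hc : IsCompl W W')
    (hst : ∀ i, Stab (f i) W ∧ Stab (f i) W') : False := by
  have pf := hfam.pf
  have hF := U.hF
  have hn2 := finrank_half hF hW hW' hc
  by_cases hsm : ¬ (Module.finrank F W = 2 ∧ q ≤ 3)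
  · exact hd U x f r hfam hcov ⟨W, W', hW, hW', hc, hst, Or.inl (sc _ hn2 hsm)⟩
  push Not at hsm
  obtain ⟨hfr, hq3⟩ := hsm
  have hn4 : n = 4 := by omega
  have hq : q = 3 := by
    have := two_le hF
    by_contra h
    exact h42 ⟨hn4, by omega⟩
  have hadd := fun i => (hfam.lft i).ind.map_add
  have h0 := fun i => (hfam.lft i).ind.map_zero
  by_cases hev : ∃ i, ¬ ScalOn (f i) W ∧ ∃ e ∈ W, e ≠ 0 ∧ ∃ c : F, f i e = c • e
  · -- a common eigenvector
    obtain ⟨i, hi, e, heW, he0, c, hce⟩ := hev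
    refine U.point pf.prime hcop pf.pow pf.ne pf.comm hfam.lft hcov he0 (hW e heW e heW) fun j => ?_
    let E : Submodule F (Fin n → F) :=
      { carrier := {v | v ∈ W ∧ f i v = c • v}
        add_mem' := fun {u v} hu hv => ⟨W.add_mem hu.1 hv.1, by rw [hadd, hu.2, hv.2, smul_add]⟩
        zero_mem' := ⟨W.zero_mem, by rw [h0, smul_zero]⟩
        smul_mem' := fun a u hu => ⟨W.smul_mem a hu.1, by rw [hlin, hu.2, smul_comm]⟩ }
    have hEW : E ≤ W := fun v hv => hv.1
    have hE2 : Module.finrank F E ≤ 2 := hfr ▸ Submodule.finrank_mono hEW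
    have hE2' : Module.finrank F E ≠ 2 := by
      intro h
      have h1 : E = W := Submodule.eq_of_le_of_finrank_eq hEW (h.trans hfr.symm)
      exact hi ⟨c, fun v hv => ((h1 ▸ hv : v ∈ E)).2⟩
    have heE : e ∈ E := ⟨heW, hce⟩
    have hE0 : 0 < Module.finrank F E := by
      have : Nontrivial E := ⟨⟨⟨e, heE⟩, 0, fun h => he0 (congrArg Subtype.val h)⟩⟩
      exact Module.finrank_pos
    have hfe : f j e ∈ E := ⟨(hst j).1 e heW, by rw [hfam.comm, hce, hlin]⟩
    obtain ⟨d, hd'⟩ := exists_smul_eq_of_finrank_eq_one (by omega : Module.finrank F E = 1)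
      (x := (⟨e, heE⟩ : E)) (fun h => he0 (congrArg Subtype.val h)) ⟨f j e, hfe⟩
    exact ⟨d, (congrArg Subtype.val hd').symm⟩
  · -- no eigenvectors: the prime is 5
    push Not at hev
    subst hq
    have h5 : ∀ i, ¬ ScalOn (f i) W → r i = 5 := by
      intro i hi
      obtain ⟨c, hcc, hc'⟩ := U.lft_one.unique (show U.Lft 1 (f i)^[r i] from pf.pow i ▸ (hfam.lft i).pow (r i))
      have hc4 : c ^ 4 = 1 := by rw [← hcc]; ring
      have hc0 : c ≠ 0 := by
        rintro rfl
        rw [zero_mul] at hcc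
        exact zero_ne_one hcc
      have hev' : ∀ v ∈ W, ∀ d : F, f i v = d • v → v = 0 := by
        intro v hv d hd'
        by_contra h
        exact hev i hi v hv h d hd'
      by_cases hr2 : r i = 2
      · exfalso
        have hch : ringChar F ≠ 2 := by
          intro h
          have h1 := FiniteField.even_card_iff_char_two.1 h
          rw [hF] at h1
          omega
        have hsq : IsSquare c := by
          rw [FiniteField.isSquare_iff hch hc0, hF]
          exact hc4
        obtain ⟨a, ha⟩ := hsq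
        obtain ⟨w, hw⟩ : ∃ w : W, w ≠ 0 := by
          have : Nontrivial W := Module.nontrivial_of_finrank_pos (R := F) (by omega)
          exact exists_ne 0
        have h2 : f i (f i w) = (a * a) • (w : Fin n → F) := by
          rw [← ha]
          have h3 := hc' w
          rw [hr2] at h3
          exact h3
        have h3 : f i (f i w + a • (w : Fin n → F)) = a • (f i w + a • (w : Fin n → F)) := by
          rw [hadd, hlin, h2, smul_add, smul_smul, add_comm]
        have h4 := hev' _ (W.add_mem ((hst i).1 w w.2) (W.smul_mem a w.2)) a h3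
        have h5 := hev' w w.2 (-a) (by rw [neg_smul]; exact eq_neg_of_add_eq_zero_left h4)
        exact hw (Subtype.ext h5)
      · have hodd : r i % 2 = 1 := by
          rcases (pf.prime i).eq_two_or_odd with h | h
          · exact absurd h hr2
          · exact h
        set d : F := c ^ (3 * r i) with hd'
        have hd0 : d ≠ 0 := pow_ne_zero _ hc0
        have hit : ∀ (k : ℕ) (v : Fin n → F), (fun v => d • f i v)^[k] v = d ^ k • (f i)^[k] v := by
          intro k
          induction k with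
          | zero => intro v; rw [Function.iterate_zero, pow_zero, one_smul]; rfl
          | succ k ih =>
            intro v
            rw [Function.iterate_succ_apply', ih, Function.iterate_succ_apply', hlin, smul_smul, pow_succ']
        have hdr : d ^ r i * c = 1 := by
          rw [hd', ← pow_mul, ← pow_succ]
          obtain ⟨m, hm⟩ : ∃ m, r i = 2 * m + 1 := ⟨r i / 2, by omega⟩
          have h6 : 3 * r i * r i + 1 = 4 * (3 * m * m + 3 * m + 1) := by
            rw [hm]; ring
          rw [h6, pow_mul, hc4, one_pow]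
        let g : W → W := fun v => ⟨d • f i v, W.smul_mem _ ((hst i).1 v v.2)⟩
        have hg : ∀ (k : ℕ) (v : W), ((g^[k] v : W) : Fin n → F) = (fun v => d • f i v)^[k] v := by
          intro k
          induction k with
          | zero => intro v; rfl
          | succ k ih => intro v; rw [Function.iterate_succ_apply', Function.iterate_succ_apply', ← ih]
        have h7 : r i ∣ Nat.card W - 1 := by
          refine prime_dvd_of_no_fixed (g := g) (k := 1) ?_ (pf.prime i) ?_ ?_
          · apply Subtype.ext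
            change d • f i ((0 : W) : Fin n → F) = 0
            rw [Submodule.coe_zero, h0, smul_zero]
          · intro v
            apply Subtype.ext
            rw [pow_one, hg, hit, hc', smul_smul, hdr, one_smul]
          · intro v hv
            have h8 : d • f i v = (v : Fin n → F) := congrArg Subtype.val hv
            apply Subtype.ext
            refine hev' v v.2 d⁻¹ ?_
            calc f i v = d⁻¹ • (d • f i v) := by rw [smul_smul, inv_mul_cancel₀ hd0, one_smul]
              _ = d⁻¹ • (v : Fin n → F) := by rw [h8]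
        have h8 : Nat.card W = 81 := by
          rw [Module.natCard_eq_pow_finrank (K := F), hfr, Nat.card_eq_fintype_card, hF]
          norm_num
        rw [h8] at h7
        have h9 : r i ∣ 2 ^ 4 * 5 := h7
        rcases (Nat.Prime.dvd_mul (pf.prime i)).1 h9 with h10 | h10
        · exact absurd ((Nat.prime_dvd_prime_iff_eq (pf.prime i) Nat.prime_two).1
            ((pf.prime i).dvd_of_dvd_pow h10)) hr2
        · exact (Nat.prime_dvd_prime_iff_eq (pf.prime i) (by norm_num)).1 h10
    exact hd U x f r hfam hcov ⟨W, W', hW, hW', hc, hst, Or.inr fun i j hi hj =>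
      pf.inj ((h5 i hi).trans (h5 j hj).symm)⟩

end four

section one

variable {G Ω : Type} [Group G] [MulAction G Ω] {N : Subgroup G} {F : Type} [Field F] [Fintype F] {n q : ℕ}
  {U : UEnv G Ω N F n q}

/-- a linear lift is an isometry -/
theorem herm_of_lin {x : G} {f : (Fin n → F) → (Fin n → F)} (h : U.Lft x f) (hl : Lin f) (v w : Fin n → F) :
    hermForm n F q (f v) (f w) = hermForm n F q v w := by
  obtain ⟨ρ, h1, h2⟩ := h.ind.exists_rho
  have hn := U.hn
  have h3 : ∀ c : F, ρ c = c := by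
    intro c
    have h4 : f (Pi.single ⟨0, by omega⟩ 1) ≠ 0 := by
      intro h5
      have h6 : (Pi.single (⟨0, by omega⟩ : Fin n) 1 : Fin n → F) = 0 := h.ind.injective (h5.trans h.ind.map_zero.symm)
      have h7 := congrFun h6 ⟨0, by omega⟩
      rw [Pi.single_eq_same] at h7
      exact one_ne_zero h7
    have h5 := (h1 c (Pi.single ⟨0, by omega⟩ 1)).symm.trans (hl c (Pi.single ⟨0, by omega⟩ 1))
    by_contra hne
    have h6 : (ρ c - c) • f (Pi.single ⟨0, by omega⟩ 1) = 0 := by rw [sub_smul, h5, sub_self]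
    rcases smul_eq_zero.1 h6 with h7 | h7
    · exact hne (sub_eq_zero.1 h7)
    · exact h4 h7
  rw [h2, h3]

end one

/-- **E9** : case I -/
theorem case_one (hstr : StrStmt) (hdec : DecStmt) (hd : DStmt) (hl : LStmt) (hirr : IrrStmt) (hgdec : GDecStmt)
    (hsmall : SmallStmt) : CaseOne := by
  intro G Ω _ _ _ _ _ N F _ _ n q U ι _ x f r hfam hcov ⟨h42, hlin, hcop, hIH⟩
  obtain ⟨sa, -, -, sc, -, se, -⟩ := hsmall U.hF U.hn U.h32 hIH
  have hadd := fun i => (hfam.lft i).ind.map_add
  have hiso := fun i => herm_of_lin (hfam.lft i) (hlin i)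
  have hord : ∀ i, ∃ m : ℕ, m.Coprime q ∧ ∀ v, (f i)^[m] v = v := fun i => by
    obtain ⟨k, hk⟩ := hfam.ord i
    exact ⟨r i ^ k, (hcop i).pow_left k, hk⟩
  have pf := hfam.pf
  rcases hstr U.hF U.hn f hlin hadd hiso hfam.comm hord with h | h | h | h | h | h | h
  · obtain ⟨e, he0, he, hfe⟩ := h
    exact U.point pf.prime hcop pf.pow pf.ne pf.comm hfam.lft hcov he0 he hfe
  · obtain ⟨A, hA, hA1, hA3, hA32, hst⟩ := h
    have hlt : Module.finrank F A < n := by
      have h1 := Submodule.finrank_lt hA1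
      rwa [Module.finrank_fin_fun] at h1
    exact hdec U x f r hfam hcov ⟨A, hA, hA1, hA3, hA32, hst, fun i _ => hcop i, sa _ hA3 hlt hA32⟩
  · obtain ⟨W, W', hW, hW', hc, hst⟩ := h
    exact case_halves hd U hfam hcov h42 hlin hcop sc hW hW' hc hst
  · obtain ⟨K, _, _, _, _, _, h1, h2, h3, h4⟩ := h
    exact hl U x f r hfam hcov ⟨K, inferInstance, inferInstance, inferInstance, inferInstance, inferInstance,
      h1, h2, h3, h4, hIH⟩
  · obtain ⟨hodd, h1⟩ := h
    refine hirr U x f r hfam hcov ⟨hodd, hlin, hcop, fun i => ?_⟩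
    rcases h1 i with h2 | h2
    · exfalso
      obtain ⟨c, hc⟩ := h2
      exact pf.ne i ((hfam.lft i).eq_one_iff.2 ⟨c, fun v => hc v Submodule.mem_top⟩)
    · exact h2
  · obtain ⟨hn3, w, hw, hfw⟩ := h
    subst hn3
    exact case_frame hgdec U hfam hcov hlin hcop hiso se hw hfw
  · obtain ⟨-, h1⟩ := h
    have h2 : ∀ i, r i = 3 := by
      intro i
      have h3 : U.Lft (x i ^ 9) (fun v => v) := by
        have h4 := (hfam.lft i).pow 9
        have h5 : (f i)^[9] = fun v => v := funext fun v => h1 i v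
        rwa [h5] at h4
      have h4 : x i ^ 9 = 1 := h3.inj U.lft_one
      have h5 : orderOf (x i) = r i := by
        have := Fact.mk (pf.prime i)
        exact orderOf_eq_prime (pf.pow i) (pf.ne i)
      have h6 : r i ∣ 9 := h5 ▸ orderOf_dvd_of_pow_eq_one h4
      have h7 : r i ∣ 3 := by
        have h8 : r i ∣ 3 ^ 2 := h6
        exact (pf.prime i).dvd_of_dvd_pow h8
      exact (Nat.prime_dvd_prime_iff_eq (pf.prime i) Nat.prime_three).1 h7
    obtain ⟨ω⟩ := (inferInstance : Nonempty Ω)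
    obtain ⟨i, -⟩ := hcov ω
    obtain ⟨j, hj⟩ := H106.RC.Cov.two U.env hcov pf.ne i
    exact hj (pf.inj ((h2 j).trans (h2 i).symm))

end Cfsg.Agent.H906.RC
end

-- part: H188/RC/SymBC
section
/-!
# S3510, family E, box E13, cases (1b) and (1c) (helper188)

* `symBeta (hD : DStmt) (hS : SmallStmt) : SymBeta`;
* `symGamma (hDS : DSwapStmt) (hS : SmallStmt) (h43 : GraphFourThree) : SymGamma`.

For `n = 4`, `q = 3` one counts fixed points of elements of prime power order on a plane over `F₉`.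
-/

set_option autoImplicit false

namespace Cfsg.Agent.H188.RC.SymBC

open Matrix Cfsg Cfsg.Agent.LieClassical.HermBasic Cfsg.Agent.LieClassical.HermSiegel
  Cfsg.Agent.LieClassical.HermGen Cfsg.Agent.LieClassical.SUBasic Cfsg.Agent.ClassicalGeometry.PSUAutBasic
  Cfsg.Agent.ClassicalGeometry.PSUAutCount Cfsg.Agent.H380.RC Cfsg.Agent.H438.RC

section count

/-- fixed points of a map of prime power order -/
theorem card_fix {V : Type*} [Finite V] {g : V → V} {r k : ℕ} (hr : r.Prime) (hg : ∀ v, g^[r ^ k] v = v) :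
    Nat.card V ≡ Nat.card {v // g v = v} [MOD r] := by
  classical
  have := Fact.mk hr
  have := Fintype.ofFinite V
  let g' : Function.End V := g
  have h0 : ∀ m : ℕ, g' ^ m = (g^[m] : V → V) := by
    intro m
    induction m with
    | zero => rfl
    | succ m ih => rw [pow_succ', ih]; funext v; exact (Function.iterate_succ_apply' g m v).symm
  have h1 : g' ^ r ^ k = 1 := by
    rw [h0]
    funext v
    exact hg v
  have h2 := Equiv.Perm.card_fixedPoints_modEq h1
  rw [Nat.card_eq_fintype_card]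
  refine h2.trans (Nat.ModEq.symm ?_)
  rw [Nat.card_eq_fintype_card]
  exact congrArg (· % r) (Fintype.card_congr (Equiv.refl _))

variable {F : Type*} [Field F] {n : ℕ}

/-- the vectors of `K` fixed by the linear map `g` -/
def Fx {g : (Fin n → F) → (Fin n → F)} (hadd : ∀ v w, g (v + w) = g v + g w) (hlin : Lin g)
    (K : Submodule F (Fin n → F)) : Submodule F (Fin n → F) where
  carrier := {v | v ∈ K ∧ g v = v}
  add_mem' := by
    rintro a b ⟨h1, h2⟩ ⟨h3, h4⟩
    exact ⟨K.add_mem h1 h3, by rw [hadd, h2, h4]⟩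
  zero_mem' := ⟨K.zero_mem, by simpa using hlin 0 0⟩
  smul_mem' := by
    rintro c a ⟨h1, h2⟩
    exact ⟨K.smul_mem c h1, by rw [hlin, h2]⟩

variable {g : (Fin n → F) → (Fin n → F)}

theorem stab_iter {K : Submodule F (Fin n → F)} (hK : Stab g K) (m : ℕ) : Stab g^[m] K := by
  induction m with
  | zero => exact fun v hv => hv
  | succ m ih =>
    intro v hv
    rw [Function.iterate_succ_apply']
    exact hK _ (ih v hv)

theorem iter_add (hadd : ∀ v w, g (v + w) = g v + g w) (m : ℕ) (v w : Fin n → F) :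
    g^[m] (v + w) = g^[m] v + g^[m] w := by
  induction m with
  | zero => rfl
  | succ m ih => rw [Function.iterate_succ_apply', Function.iterate_succ_apply', Function.iterate_succ_apply', ih, hadd]

theorem iter_lin (hlin : Lin g) (m : ℕ) : Lin g^[m] := by
  intro c v
  induction m with
  | zero => rfl
  | succ m ih => rw [Function.iterate_succ_apply', Function.iterate_succ_apply', ih, hlin]

omit [Field F] in
theorem iter_comm {h : (Fin n → F) → (Fin n → F)} (hc : ∀ v, g (h v) = h (g v)) (m : ℕ) (v : Fin n → F) :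
    g^[m] (h v) = h (g^[m] v) := by
  induction m with
  | zero => rfl
  | succ m ih => rw [Function.iterate_succ_apply', Function.iterate_succ_apply', ih, hc]

omit [Field F] in
/-- fixed points in an invariant subset -/
theorem card_fix_set (S : Set (Fin n → F)) [Finite S] (hS : ∀ v ∈ S, g v ∈ S) {r k : ℕ} (hr : r.Prime)
    (hg : ∀ v ∈ S, g^[r ^ k] v = v) : Nat.card S ≡ Nat.card {v : Fin n → F // v ∈ S ∧ g v = v} [MOD r] := by
  let g' : S → S := fun v => ⟨g v, hS v v.2⟩
  have h0 : ∀ (m : ℕ) (v : S), ((g'^[m] v : S) : Fin n → F) = g^[m] v := by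
    intro m
    induction m with
    | zero => intro v; rfl
    | succ m ih => intro v; rw [Function.iterate_succ_apply', Function.iterate_succ_apply', ← ih]
  have h1 := card_fix (g := g') hr (k := k) (fun v => Subtype.ext (by rw [h0]; exact hg v v.2))
  refine h1.trans (Nat.ModEq.symm ?_)
  refine congrArg (· % r) (Nat.card_congr ?_)
  exact
    { toFun := fun v => ⟨⟨v.1, v.2.1⟩, Subtype.ext v.2.2⟩
      invFun := fun v => ⟨v.1.1, v.1.2, congrArg Subtype.val v.2⟩
      left_inv := fun v => rfl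
      right_inv := fun v => rfl }

variable [Fintype F]

theorem card_sub (K : Submodule F (Fin n → F)) : Nat.card K = Fintype.card F ^ Module.finrank F K := by
  rw [Module.natCard_eq_pow_finrank (K := F), Nat.card_eq_fintype_card]

/-- elements of prime power order on a plane over `F₉` -/
theorem triv_or (hF : Fintype.card F = 9) {W : Submodule F (Fin n → F)} (hW : Module.finrank F W = 2)
    (hadd : ∀ v w, g (v + w) = g v + g w) (hlin : Lin g) (hst : Stab g W) {r k : ℕ} (hr : r.Prime) (h2 : r ≠ 2)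
    (h3 : r ≠ 3) (hg : ∀ v ∈ W, g^[r ^ k] v = v) :
    (∀ v ∈ W, g v = v) ∨ (r = 5 ∧ ∀ v ∈ W, g v = v → v = 0) := by
  have h4 := card_fix_set (W : Set (Fin n → F)) hst hr hg
  have h5 : Nat.card W = 81 := by rw [card_sub, hF, hW]; norm_num
  have h6 : Nat.card {v : Fin n → F // v ∈ (W : Set (Fin n → F)) ∧ g v = v} = 9 ^ Module.finrank F (Fx hadd hlin W) := by
    rw [← hF, ← card_sub]
    exact Nat.card_congr (Equiv.refl _)
  have h7 : Module.finrank F (Fx hadd hlin W) ≤ 2 := by
    rw [← hW]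
    exact Submodule.finrank_mono fun v hv => hv.1
  rw [h6] at h4
  change Nat.card W ≡ _ [MOD r] at h4
  rw [h5] at h4
  obtain ⟨c, hc⟩ : ∃ c, Module.finrank F (Fx hadd hlin W) = c := ⟨_, rfl⟩
  rw [hc] at h4 h7
  have hc3 : c = 0 ∨ c = 1 ∨ c = 2 := by omega
  rcases hc3 with rfl | rfl | rfl
  · right
    have h8 : r ∣ 80 := by
      have := (Nat.modEq_iff_dvd' (by norm_num)).1 h4.symm
      simpa using this
    have h9 : r ∣ 2 ^ 4 * 5 := by simpa using h8
    refine ⟨?_, ?_⟩
    · rcases hr.dvd_mul.1 h9 with h | h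
      · exact absurd ((Nat.prime_dvd_prime_iff_eq hr Nat.prime_two).1 (hr.dvd_of_dvd_pow h)) h2
      · exact (Nat.prime_dvd_prime_iff_eq hr (by norm_num)).1 h
    · intro v hv hgv
      have h10 : v ∈ Fx hadd hlin W := ⟨hv, hgv⟩
      rw [Submodule.finrank_eq_zero.1 hc] at h10
      exact h10
  · exfalso
    have h8 : r ∣ 72 := by
      have := (Nat.modEq_iff_dvd' (by norm_num)).1 h4.symm
      simpa using this
    have h9 : r ∣ 2 ^ 3 * 3 ^ 2 := by simpa using h8
    rcases hr.dvd_mul.1 h9 with h | h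
    · exact absurd ((Nat.prime_dvd_prime_iff_eq hr Nat.prime_two).1 (hr.dvd_of_dvd_pow h)) h2
    · exact absurd ((Nat.prime_dvd_prime_iff_eq hr Nat.prime_three).1 (hr.dvd_of_dvd_pow h)) h3
  · left
    intro v hv
    have h8 : Fx hadd hlin W = W := Submodule.eq_of_le_of_finrank_eq (fun v hv => hv.1) (by rw [hc, hW])
    rw [← h8] at hv
    exact hv.2

/-- an element of order 3 commuting with an element of order 5 on a plane over `F₉` -/
theorem no_three (hF : Fintype.card F = 9) {W : Submodule F (Fin n → F)} (hW : Module.finrank F W = 2)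
    {u h : (Fin n → F) → (Fin n → F)} (hadd : ∀ v w, u (v + w) = u v + u w) (hlin : Lin u) (hst : Stab u W)
    (hst' : Stab h W) (hcomm : ∀ v, u (h v) = h (u v)) {k : ℕ} (hu : ∀ v ∈ W, u^[3 ^ k] v = v)
    (hh : ∀ v ∈ W, h^[5] v = v) (h0 : ∀ v ∈ W, h v = v → v = 0) (hz : h 0 = 0) : ∀ v ∈ W, u v = v := by
  have h4 := card_fix_set (W : Set (Fin n → F)) hst Nat.prime_three hu
  have h5 : Nat.card W = 81 := by rw [card_sub, hF, hW]; norm_num
  have h6 : Nat.card {v : Fin n → F // v ∈ (W : Set (Fin n → F)) ∧ u v = v} = 9 ^ Module.finrank F (Fx hadd hlin W) := by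
    rw [← hF, ← card_sub]
    exact Nat.card_congr (Equiv.refl _)
  have h7 : Module.finrank F (Fx hadd hlin W) ≤ 2 := by
    rw [← hW]
    exact Submodule.finrank_mono fun v hv => hv.1
  rw [h6] at h4
  change Nat.card W ≡ _ [MOD 3] at h4
  rw [h5] at h4
  -- `h` acts on the fixed points
  have h8 := card_fix_set (g := h) (r := 5) (k := 1) (Fx hadd hlin W : Set (Fin n → F))
    (fun v hv => ⟨hst' v hv.1, by rw [hcomm, hv.2]⟩) (by norm_num) (fun v hv => by rw [pow_one]; exact hh v hv.1)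
  have h9 : Nat.card {v : Fin n → F // v ∈ (Fx hadd hlin W : Set (Fin n → F)) ∧ h v = v} = 1 := by
    rw [Nat.card_eq_one_iff_exists]
    exact ⟨⟨0, (Fx hadd hlin W).zero_mem, hz⟩, fun v => Subtype.ext (h0 _ v.2.1.1 v.2.2)⟩
  rw [h9] at h8
  change Nat.card (Fx hadd hlin W) ≡ 1 [MOD 5] at h8
  rw [card_sub, hF] at h8
  obtain ⟨c, hc⟩ : ∃ c, Module.finrank F (Fx hadd hlin W) = c := ⟨_, rfl⟩
  rw [hc] at h4 h7 h8
  have hc3 : c = 0 ∨ c = 1 ∨ c = 2 := by omega
  rcases hc3 with rfl | rfl | rfl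
  · exact absurd h4 (by decide)
  · exact absurd h8 (by decide)
  · intro v hv
    have h8 : Fx hadd hlin W = W := Submodule.eq_of_le_of_finrank_eq (fun v hv => hv.1) (by rw [hc, hW])
    rw [← h8] at hv
    exact hv.2

/-- no element of order 5 on a plane over `F₉` with a real structure -/
theorem no_five (hF : Fintype.card F = 3 ^ 2) {W : Submodule F (Fin n → F)} (hW : Module.finrank F W = 2)
    {T h : (Fin n → F) → (Fin n → F)} (hT : SymT 3 T) (hTW : Stab T W) (hst' : Stab h W)
    (hcomm : ∀ v, h (T v) = T (h v)) {k : ℕ}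
    (hh : ∀ v ∈ W, h^[5 ^ k] v = v) (h0 : ∀ v ∈ W, h v = v → v = 0) (hz : h 0 = 0) : False := by
  let S : AddSubgroup (Fin n → F) :=
    { carrier := {v | v ∈ W ∧ T v = v}
      add_mem' := by
        rintro a b ⟨h1, h2⟩ ⟨h3, h4⟩
        exact ⟨W.add_mem h1 h3, by rw [hT.add, h2, h4]⟩
      zero_mem' := ⟨W.zero_mem, hT.zero⟩
      neg_mem' := by
        rintro a ⟨h1, h2⟩
        exact ⟨W.neg_mem h1, by rw [hT.neg, h2]⟩ }
  have h5 : Nat.card W.toAddSubgroup = 3 ^ 4 := by
    change Nat.card W = _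
    rw [card_sub, hF, hW]
    norm_num
  have h6 : Nat.card S ∣ 3 ^ 4 := by
    rw [← h5]
    exact AddSubgroup.card_dvd_of_le fun v hv => hv.1
  have h8 := card_fix_set (g := h) (r := 5) (k := k) (S : Set (Fin n → F))
    (fun v hv => ⟨hst' v hv.1, by rw [← hcomm, hv.2]⟩) (by norm_num) (fun v hv => hh v hv.1)
  have h9 : Nat.card {v : Fin n → F // v ∈ (S : Set (Fin n → F)) ∧ h v = v} = 1 := by
    rw [Nat.card_eq_one_iff_exists]
    exact ⟨⟨0, S.zero_mem, hz⟩, fun v => Subtype.ext (h0 _ v.2.1.1 v.2.2)⟩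
  rw [h9] at h8
  change Nat.card S ≡ 1 [MOD 5] at h8
  obtain ⟨c, hc, hc'⟩ := (Nat.dvd_prime_pow Nat.prime_three).1 h6
  rw [hc'] at h8
  -- a vector of `W`
  obtain ⟨w, hw, hw0⟩ : ∃ w ∈ W, w ≠ 0 := by
    by_contra hcon
    push Not at hcon
    have : W = ⊥ := by
      rw [eq_bot_iff]
      exact fun v hv => hcon v hv
    rw [this, finrank_bot] at hW
    omega
  obtain ⟨a, ha⟩ := exists_not_fixed hF
  have hc3 : c = 0 ∨ c = 1 ∨ c = 2 ∨ c = 3 ∨ c = 4 := by omega
  rcases hc3 with rfl | rfl | rfl | rfl | rfl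
  · rw [pow_zero] at hc'
    have key : ∀ v ∈ W, T v = -v := by
      intro v hv
      have h1 : v + T v ∈ S := ⟨W.add_mem hv (hTW v hv), by rw [hT.add, hT.TT, add_comm]⟩
      rw [AddSubgroup.card_eq_one] at hc'
      rw [hc', AddSubgroup.mem_bot] at h1
      exact (neg_eq_of_add_eq_zero_right h1).symm
    have h1 := key _ (W.smul_mem a hw)
    rw [hT.smul, key w hw, smul_neg, neg_inj] at h1
    have h2 : (a ^ 3 - a) • w = 0 := by rw [sub_smul, h1, sub_self]
    exact ha (sub_eq_zero.1 ((smul_eq_zero.1 h2).resolve_right hw0))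
  · exact absurd h8 (by decide)
  · exact absurd h8 (by decide)
  · exact absurd h8 (by decide)
  · have key : ∀ v ∈ W, T v = v := by
      intro v hv
      have h1 : S = W.toAddSubgroup := AddSubgroup.eq_of_le_of_card_ge (fun v hv => hv.1) (by rw [h5, hc'])
      have h2 : v ∈ W.toAddSubgroup := hv
      rw [← h1] at h2
      exact h2.2
    have h1 := key _ (W.smul_mem a hw)
    rw [hT.smul, key w hw] at h1
    have h2 : (a ^ 3 - a) • w = 0 := by rw [sub_smul, h1, sub_self]
    exact ha (sub_eq_zero.1 ((smul_eq_zero.1 h2).resolve_right hw0))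

theorem ne_two_three {m l : ℕ} (hm : m.Coprime 6) (hl : l ∣ m) (hl1 : l.Prime) : l ≠ 2 ∧ l ≠ 3 := by
  have h1 : l.Coprime 6 := Nat.Coprime.coprime_dvd_left hl hm
  constructor
  · rintro rfl
    exact absurd h1 (by decide)
  · rintro rfl
    exact absurd h1 (by decide)

/-- an element of order prime to 6 on a plane over `F₉` with a real structure is trivial -/
theorem triv_real (hF : Fintype.card F = 3 ^ 2) {W : Submodule F (Fin n → F)} (hW : Module.finrank F W = 2)
    (hadd : ∀ v w, g (v + w) = g v + g w) (hlin : Lin g) (hst : Stab g W)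
    {T : (Fin n → F) → (Fin n → F)} (hT : SymT 3 T) (hTW : Stab T W) (hcomm : ∀ v, g (T v) = T (g v)) :
    ∀ m : ℕ, m.Coprime 6 → (∀ v ∈ W, g^[m] v = v) → ∀ v ∈ W, g v = v := by
  intro m
  induction m using Nat.strong_induction_on with
  | _ m ih =>
    intro hm hg
    by_cases hm1 : m = 1
    · rw [hm1] at hg
      exact hg
    · have hl := Nat.minFac_prime hm1
      obtain ⟨m', hm'⟩ := Nat.minFac_dvd m
      obtain ⟨l, hl'⟩ : ∃ l, m.minFac = l := ⟨_, rfl⟩
      have hlm : l ∣ m := hl' ▸ Nat.minFac_dvd m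
      rw [hl'] at hl hm'
      obtain ⟨l2, l3⟩ := ne_two_three hm hlm hl
      have hm0 : m ≠ 0 := by
        rintro rfl
        exact absurd hm (by decide)
      have hm'0 : m' ≠ 0 := by
        rintro rfl
        exact hm0 (by rw [hm', mul_zero])
      have hlt : m' < m := by
        rw [hm']
        have := hl.one_lt
        nlinarith only [this, Nat.pos_of_ne_zero hm'0]
      have hcop : m'.Coprime 6 := Nat.Coprime.coprime_dvd_left ⟨l, by rw [hm']; ring⟩ hm
      have hit : ∀ v ∈ W, (g^[m'])^[l ^ 1] v = v := by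
        intro v hv
        rw [pow_one, ← Function.iterate_mul, mul_comm, ← hm']
        exact hg v hv
      rcases triv_or (by rw [hF]; norm_num) hW (iter_add hadd m') (iter_lin hlin m') (stab_iter hst m') hl l2 l3 hit with
        h1 | ⟨h1, h2⟩
      · exact ih m' hlt hcop h1
      · subst h1
        exact absurd (no_five hF hW hT hTW (stab_iter hst m') (iter_comm hcomm m') hit h2
          (by simpa using iter_lin hlin m' 0 0)) id

/-- an element of order prime to 6 on a plane over `F₉`, not trivial, has a power of order 5 -/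
theorem exists_five (hF : Fintype.card F = 3 ^ 2) {W : Submodule F (Fin n → F)} (hW : Module.finrank F W = 2)
    (hadd : ∀ v w, g (v + w) = g v + g w) (hlin : Lin g) (hst : Stab g W) (hne : ∃ v ∈ W, g v ≠ v) :
    ∀ m : ℕ, m.Coprime 6 → (∀ v ∈ W, g^[m] v = v) →
      ∃ e : ℕ, (∀ v ∈ W, (g^[e])^[5] v = v) ∧ ∀ v ∈ W, g^[e] v = v → v = 0 := by
  intro m
  induction m using Nat.strong_induction_on with
  | _ m ih =>
    intro hm hg
    by_cases hm1 : m = 1
    · rw [hm1] at hg
      obtain ⟨v, hv, hv'⟩ := hne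
      exact absurd (hg v hv) hv'
    · have hl := Nat.minFac_prime hm1
      obtain ⟨m', hm'⟩ := Nat.minFac_dvd m
      obtain ⟨l, hl'⟩ : ∃ l, m.minFac = l := ⟨_, rfl⟩
      have hlm : l ∣ m := hl' ▸ Nat.minFac_dvd m
      rw [hl'] at hl hm'
      obtain ⟨l2, l3⟩ := ne_two_three hm hlm hl
      have hm0 : m ≠ 0 := by
        rintro rfl
        exact absurd hm (by decide)
      have hm'0 : m' ≠ 0 := by
        rintro rfl
        exact hm0 (by rw [hm', mul_zero])
      have hlt : m' < m := by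
        rw [hm']
        have := hl.one_lt
        nlinarith only [this, Nat.pos_of_ne_zero hm'0]
      have hcop : m'.Coprime 6 := Nat.Coprime.coprime_dvd_left ⟨l, by rw [hm']; ring⟩ hm
      have hit : ∀ v ∈ W, (g^[m'])^[l ^ 1] v = v := by
        intro v hv
        rw [pow_one, ← Function.iterate_mul, mul_comm, ← hm']
        exact hg v hv
      rcases triv_or (by rw [hF]; norm_num) hW (iter_add hadd m') (iter_lin hlin m') (stab_iter hst m') hl l2 l3 hit with
        h1 | ⟨h1, h2⟩
      · exact ih m' hlt hcop h1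
      · subst h1
        rw [pow_one] at hit
        exact ⟨m', hit, h2⟩

end count

section aniso

variable {F : Type*} [Field F] [Fintype F] {n q : ℕ} {T : (Fin n → F) → (Fin n → F)}

theorem two_ne (hF : Fintype.card F = q ^ 2) (hq : Odd q) : (2 : F) ≠ 0 := by
  intro h2
  obtain ⟨p, k, hp, hchar, hk, hk0⟩ := exists_prime_pow hF
  have h1 : p ∣ 2 := (CharP.cast_eq_zero_iff F p 2).1 (by exact_mod_cast h2)
  have h3 : p = 2 := (Nat.prime_dvd_prime_iff_eq hp Nat.prime_two).1 h1
  rw [hk, h3] at hq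
  exact (Nat.not_even_iff_odd.2 hq) (Nat.even_pow.2 ⟨even_two, hk0.ne'⟩)

/-- the form on `Fix T` is not alternating -/
theorem exists_aniso (hF : Fintype.card F = q ^ 2) (hq : Odd q) (hT : SymT q T) (hn : 0 < n) :
    ∃ v, T v = v ∧ hermForm n F q v v ≠ 0 := by
  by_contra hcon
  push Not at hcon
  have h2 := two_ne hF hq
  have key : ∀ v w, T v = v → T w = w → hermForm n F q v w = 0 := by
    intro v w hv hw
    have h1 := hcon (v + w) (by rw [hT.add, hv, hw])
    rw [herm_add_left, herm_add_right hF, herm_add_right hF, hcon v hv, hcon w hw] at h1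
    have h3 := hT.herm v w
    rw [hv, hw] at h3
    have h4 := herm_swap hF v w
    rw [← h3] at h4
    rw [h4] at h1
    have h5 : (2 : F) * hermForm n F q v w = 0 := by linear_combination h1
    exact (mul_eq_zero.1 h5).resolve_left h2
  have key2 : ∀ v w, T w = w → hermForm n F q v w = 0 := by
    intro v w hw
    obtain ⟨a, ha⟩ : ∃ a : Fin n → F, a ≠ 0 := ⟨Pi.single ⟨0, hn⟩ 1, by simp⟩
    have h1 := hT.span hF (A := ⊤) (fun _ _ => Submodule.mem_top) (δ := fun v => hermForm n F q v w • a)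
      (fun v v' => by rw [herm_add_left, add_smul])
      (fun c v => by
        change hermForm n F q (c • v) w • a = c • (hermForm n F q v w • a)
        rw [herm_smul_left, mul_smul])
      (fun v _ hv => by rw [key v w hv hw, zero_smul]) v Submodule.mem_top
    exact (smul_eq_zero.1 h1).resolve_right ha
  obtain ⟨a, ha⟩ : ∃ a : Fin n → F, a ≠ 0 := ⟨Pi.single ⟨0, hn⟩ 1, by simp⟩
  have key3 : ∀ v, hermForm n F q v a = 0 := by
    intro v
    have h1 := hT.span hF (A := ⊤) (fun _ _ => Submodule.mem_top) (δ := fun w => hermForm n F q w v • a)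
      (fun v v' => by rw [herm_add_left, add_smul])
      (fun c w => by
        change hermForm n F q (c • w) v • a = c • (hermForm n F q w v • a)
        rw [herm_smul_left, mul_smul])
      (fun w _ hw => by rw [herm_eq_zero_swap hF (key2 v w hw), zero_smul]) a Submodule.mem_top
    exact herm_eq_zero_swap hF ((smul_eq_zero.1 h1).resolve_right ha)
  obtain ⟨z, hz⟩ := exists_herm_ne_zero hF ha
  exact hz (herm_eq_zero_swap hF (key3 z))

end aniso

section main

variable {G Ω : Type} [Group G] [MulAction G Ω] {N : Subgroup G} {F : Type} [Field F] [Fintype F] {n q : ℕ}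
  {U : UEnv G Ω N F n q} {ι : Type} {x : ι → G} {f : ι → (Fin n → F) → (Fin n → F)} {r : ι → ℕ} {i₀ : ι}
  {T g : (Fin n → F) → (Fin n → F)}

omit [Fintype F] in
theorem cg_self (h : SymG q T g) : Cg g g := ⟨h.add, h.lin, fun _ => rfl⟩

/-- `q = 3` -/
theorem q_eq (U : UEnv G Ω N F n q) (hq : Odd q) (h3 : q ≤ 3) : q = 3 := by
  have h1 : 1 < Fintype.card F := Fintype.one_lt_card
  rw [U.hF] at h1
  obtain ⟨k, hk⟩ := hq
  rcases Nat.lt_or_ge q 2 with h | h
  · have : q = 1 := by omega
    rw [this] at h1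
    norm_num at h1
  · omega

omit [Fintype F] in
/-- a map which is trivial on two complements -/
theorem eq_id {u : (Fin n → F) → (Fin n → F)} (hadd : ∀ v w, u (v + w) = u v + u w)
    {W W' : Submodule F (Fin n → F)} (hc : IsCompl W W') (h1 : ∀ v ∈ W, u v = v) (h2 : ∀ v ∈ W', u v = v) (v) :
    u v = v := by
  have hv : v ∈ W ⊔ W' := by rw [hc.sup_eq_top]; trivial
  obtain ⟨w, hw, w', hw', rfl⟩ := Submodule.mem_sup.1 hv
  rw [hadd, h1 w hw, h2 w' hw']

theorem coprime_six {m : ℕ} (h1 : Odd m) (h2 : m.Coprime 3) : m.Coprime 6 := by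
  have h3 : m.Coprime 2 := Nat.coprime_two_right.2 h1
  exact Nat.Coprime.mul_right h3 h2

/-- case (1b) -/
theorem symBeta (hD : DStmt) (hsm : SmallStmt) : SymBeta := by
  intro G Ω _ _ _ _ _ N F _ _ n q U ι _ x f r i₀ T g S hIH W W' hW hW' hc hTW hTW' hst
  have hn := H906.RC.finrank_half U.hF hW hW' hc
  have hn' := H906.RC.finrank_half U.hF hW' hW hc.symm
  obtain ⟨-, -, -, hc4, -⟩ := hsm U.hF U.hn U.h32 hIH
  by_cases hex : Module.finrank F W = 2 ∧ q ≤ 3
  · obtain ⟨hd, hq3⟩ := hex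
    have hq : q = 3 := q_eq U S.odd hq3
    subst hq
    have hd' : Module.finrank F W' = 2 := by omega
    obtain ⟨m, hm1, hm2, hm3⟩ := S.symG.ord
    have hm := coprime_six hm1 hm2
    obtain ⟨s1, s2⟩ := hst g (cg_self S.symG)
    have h1 := triv_real U.hF hd S.symG.add S.symG.lin s1 S.symT hTW S.symG.comm m hm (fun v _ => hm3 v)
    have h2 := triv_real U.hF hd' S.symG.add S.symG.lin s2 S.symT hTW' S.symG.comm m hm (fun v _ => hm3 v)
    obtain ⟨v, hv⟩ := S.ne
    exact hv (eq_id S.symG.add hc h1 h2 v)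
  · refine hD U x f r S.gf.fam S.cov ⟨W, W', hW, hW', hc, fun i => ?_, Or.inl (hc4 _ hn hex)⟩
    by_cases hi : i = i₀
    · rw [hi]
      obtain ⟨b, hb0, hb⟩ := S.gf.eq
      have key : ∀ K : Submodule F (Fin n → F), Stab T K → Stab (f i₀) K := by
        intro K hK v hv
        have h1 : f i₀ v = b⁻¹ • T v := by rw [hb, smul_smul, inv_mul_cancel₀ hb0, one_smul]
        rw [h1]
        exact K.smul_mem _ (hK v hv)
      exact ⟨key W hTW, key W' hTW'⟩
    · exact hst _ (S.cg i hi)

/-- the swapping element moves some vector to a vector which is not orthogonal -/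
theorem exists_nonorth (hF : Fintype.card F = q ^ 2) (hq : Odd q) (hT : SymT q T) {W W' : Submodule F (Fin n → F)}
    (hW : TS q W) (hc : IsCompl W W') (hTW : ∀ v ∈ W', T v ∈ W) (hW0 : ∃ w ∈ W, w ≠ 0) :
    ∃ w ∈ W, hermForm n F q w (T w) ≠ 0 := by
  by_contra hcon
  push Not at hcon
  have h2 := two_ne hF hq
  have key : ∀ v ∈ W, ∀ w ∈ W, hermForm n F q v (T w) = 0 := by
    intro v hv w hw
    have h1 := hcon (v + w) (W.add_mem hv hw)
    rw [hT.add, herm_add_left, herm_add_right hF, herm_add_right hF, hcon v hv, hcon w hw] at h1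
    have h3 := hT.herm v (T w)
    rw [hT.TT] at h3
    have h4 := herm_swap hF w (T v)
    rw [h3] at h4
    have h5 := (pow_q_inj hF).1 h4
    have h6 : (2 : F) * hermForm n F q v (T w) = 0 := by linear_combination h1 + h5
    exact (mul_eq_zero.1 h6).resolve_left h2
  obtain ⟨w, hw, hw0⟩ := hW0
  obtain ⟨z, hz⟩ := exists_herm_ne_zero hF hw0
  apply hz
  have hzz : z ∈ W ⊔ W' := by rw [hc.sup_eq_top]; trivial
  obtain ⟨a, ha, b, hb, rfl⟩ := Submodule.mem_sup.1 hzz
  rw [herm_add_right hF, hW w hw a ha, zero_add]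
  have h1 := key w hw (T b) (hTW b hb)
  rwa [hT.TT] at h1

/-- case (1c) -/
theorem symGamma (hDS : DSwapStmt) (hsm : SmallStmt) (h43 : GraphFourThree) : SymGamma := by
  intro G Ω _ _ _ _ _ N F _ _ n q U ι _ x f r i₀ T g S hIH W W' hW hW' hc hTW hTW' hst
  have hn := H906.RC.finrank_half U.hF hW hW' hc
  have hn' := H906.RC.finrank_half U.hF hW' hW hc.symm
  have hn3 := U.hn
  obtain ⟨-, -, -, hc4, -⟩ := hsm U.hF U.hn U.h32 hIH
  by_cases hex : Module.finrank F W = 2 ∧ q ≤ 3
  · obtain ⟨hd, hq3⟩ := hex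
    have hq : q = 3 := q_eq U S.odd hq3
    subst hq
    have hd' : Module.finrank F W' = 2 := by omega
    have hn4 : n = 4 := by omega
    subst hn4
    obtain ⟨m, hm1, hm2, hm3⟩ := S.symG.ord
    have hm := coprime_six hm1 hm2
    obtain ⟨s1, s2⟩ := hst g (cg_self S.symG)
    have hF9 : Fintype.card F = 9 := by rw [U.hF]; norm_num
    -- `g` is not trivial on `W` and not trivial on `W'`
    have swap1 : (∀ v ∈ W, g v = v) → ∀ v ∈ W', g v = v := by
      intro h v hv
      have h1 := h _ (hTW' v hv)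
      rw [S.symG.comm] at h1
      exact S.symT.inj h1
    have swap2 : (∀ v ∈ W', g v = v) → ∀ v ∈ W, g v = v := by
      intro h v hv
      have h1 := h _ (hTW v hv)
      rw [S.symG.comm] at h1
      exact S.symT.inj h1
    have ne1 : ∃ v ∈ W, g v ≠ v := by
      by_contra hcon
      push Not at hcon
      obtain ⟨v, hv⟩ := S.ne
      exact hv (eq_id S.symG.add hc hcon (swap1 hcon) v)
    have ne2 : ∃ v ∈ W', g v ≠ v := by
      by_contra hcon
      push Not at hcon
      obtain ⟨v, hv⟩ := S.ne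
      exact hv (eq_id S.symG.add hc (swap2 hcon) hcon v)
    obtain ⟨e1, he1, he1'⟩ := exists_five U.hF hd S.symG.add S.symG.lin s1 ne1 m hm (fun v _ => hm3 v)
    obtain ⟨e2, he2, he2'⟩ := exists_five U.hF hd' S.symG.add S.symG.lin s2 ne2 m hm (fun v _ => hm3 v)
    -- a linear member which is the identity is trivial
    have hid : ∀ j, ¬ ∀ v, f j v = v := by
      intro j h
      exact S.gf.fam.pf.ne j ((S.gf.fam.lft j).eq_one_iff.2 ⟨1, fun v => by rw [h, one_smul]⟩)
    have hr5 : ∀ j, j ≠ i₀ → r j = 5 := by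
      intro j hj
      obtain ⟨t1, t2⟩ := hst _ (S.cg j hj)
      have hadd := (S.cg j hj).add
      have hlin := (S.cg j hj).lin
      have hcm := (S.cg j hj).comm
      obtain ⟨k, hk⟩ := S.gf.fam.ord j
      have hpr := S.gf.fam.pf.prime j
      by_cases hcop : (r j).Coprime 3
      · obtain ⟨k', hk'⟩ := S.pow j hj hcop
        have h3 : r j ≠ 3 := by
          intro h
          rw [h] at hcop
          exact absurd hcop (by decide)
        have h2 : r j ≠ 2 := by
          intro h
          apply hid j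
          intro v
          have a1 : Function.IsPeriodicPt (f j) (r j ^ k) v := hk v
          have a2 : Function.IsPeriodicPt (f j) m v := by
            have b1 : f j = g^[k'] := funext hk'
            change (f j)^[m] v = v
            rw [b1, ← Function.iterate_mul, mul_comm, Function.iterate_mul]
            exact Function.iterate_fixed (hm3 v) k'
          have a3 := a1.gcd a2
          have a4 : Nat.gcd (r j ^ k) m = 1 := by
            rw [h]
            exact Nat.Coprime.pow_left k (Nat.coprime_two_left.2 hm1)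
          rw [a4] at a3
          exact a3
        rcases triv_or hF9 hd hadd hlin t1 hpr h2 h3 (fun v _ => hk v) with h4 | ⟨h4, -⟩
        · rcases triv_or hF9 hd' hadd hlin t2 hpr h2 h3 (fun v _ => hk v) with h5 | ⟨h5, -⟩
          · exact absurd (eq_id hadd hc h4 h5) (hid j)
          · exact h5
        · exact h4
      · exfalso
        have h3 : r j = 3 := by
          by_contra h
          exact hcop ((Nat.coprime_primes hpr Nat.prime_three).2 h)
        rw [h3] at hk
        apply hid j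
        have z : g 0 = 0 := by simpa using S.symG.lin 0 0
        have hz : ∀ e : ℕ, g^[e] 0 = 0 := fun e => Function.iterate_fixed z e
        have hcm' : ∀ (e : ℕ) v, f j (g^[e] v) = g^[e] (f j v) := fun e v => by
          have := iter_comm (g := g) (h := f j) (fun v => (hcm v).symm) e v
          exact this.symm
        exact eq_id hadd hc
          (no_three hF9 hd hadd hlin t1 (stab_iter s1 e1) (hcm' e1) (fun v _ => hk v) he1 he1' (hz e1))
          (no_three hF9 hd' hadd hlin t2 (stab_iter s2 e2) (hcm' e2) (fun v _ => hk v) he2 he2' (hz e2))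
    obtain ⟨j₀, hj₀⟩ : ∃ j, j ≠ i₀ := by
      by_contra hcon
      push Not at hcon
      refine U.env.not_all (Ω := Ω) (S.gf.fam.pf.ne i₀) fun ω => ?_
      obtain ⟨i, hi⟩ := S.cov ω
      rw [hcon i] at hi
      exact hi
    refine h43 U x f r S.gf.fam S.cov ⟨rfl, rfl, i₀, j₀, T, S.gf, exists_aniso U.hF S.odd S.symT (by norm_num),
      hr5 j₀ hj₀, fun i => ?_⟩
    by_cases hi : i = i₀
    · exact Or.inl hi
    · exact Or.inr (S.gf.fam.pf.inj ((hr5 i hi).trans (hr5 j₀ hj₀).symm))
  · refine hDS U x f r S.gf.fam S.cov ⟨W, W', hW, hW', hc, fun i => ?_, Or.inl (hc4 _ hn hex)⟩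
    by_cases hi : i = i₀
    · right
      rw [hi]
      obtain ⟨b, hb0, hb⟩ := S.gf.eq
      have h1 : ∀ v, f i₀ v = b⁻¹ • T v := fun v => by rw [hb, smul_smul, inv_mul_cancel₀ hb0, one_smul]
      refine ⟨fun v hv => ?_, fun v hv => ?_, ?_⟩
      · rw [h1]
        exact W'.smul_mem _ (hTW v hv)
      · rw [h1]
        exact W.smul_mem _ (hTW' v hv)
      · have hW0 : ∃ w ∈ W, w ≠ 0 := by
          by_contra hcon
          push Not at hcon
          have h2 : W = ⊥ := by
            rw [eq_bot_iff]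
            exact fun v hv => hcon v hv
          rw [h2, finrank_bot] at hn
          omega
        obtain ⟨w, hw, hw'⟩ := exists_nonorth U.hF S.odd S.symT hW hc hTW' hW0
        refine ⟨w, hw, ?_⟩
        rw [h1, herm_smul_right]
        exact mul_ne_zero (pow_ne_zero _ (inv_ne_zero hb0)) hw'
    · exact Or.inl (hst _ (S.cg i hi))

end main

end Cfsg.Agent.H188.RC.SymBC
end

-- part: H398/RC/CornerB
section
/-!
# The corner field `eR` with an involution: the number of elements (helper398)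
-/

set_option autoImplicit false
set_option linter.unusedSectionVars false

namespace Cfsg.Agent.H398.RC

open Cfsg Cfsg.Agent.LieClassical.HermBasic

theorem corner_card {R : Type*} [CommRing R] [Finite R] {F : Type} [Field F] [Fintype F] {q : ℕ}
    (hF : Fintype.card F = q ^ 2) (hq : 3 ≤ q) (ι : F →+* R) (σ : R ≃+* R) (hσ : ∀ a, σ (σ a) = a)
    (hσι : ∀ c, σ (ι c) = ι (c ^ q)) {e : R} (he : e * e = e) (he0 : e ≠ 0) (hσe : σ e = e) {Q : ℕ}
    (hfld : ∀ a, a * e = a → a ≠ 0 → a ^ (Q - 1) = e) (hQ2 : 2 ≤ Q) :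
    (∀ a, a * e = a → ∃ c : F, a = ι c * e) ∨ q ^ 6 ≤ Nat.card {a : R // a * e = a} := by
  classical
  let I : Ideal R := Ideal.span {1 - e}
  have hI : ∀ a : R, a ∈ I ↔ a * e = 0 := by
    intro a
    rw [Ideal.mem_span_singleton']
    constructor
    · rintro ⟨r, rfl⟩
      rw [mul_assoc, sub_mul, one_mul, he, sub_self, mul_zero]
    · intro h
      exact ⟨a, by rw [mul_sub, mul_one, h, sub_zero]⟩
  let K := R ⧸ I
  let π : R →+* K := Ideal.Quotient.mk I
  have hπ : Function.Surjective π := Ideal.Quotient.mk_surjective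
  have hπe : π e = 1 := by
    rw [← map_one π]
    apply Ideal.Quotient.eq.2
    rw [hI, sub_mul, he, one_mul, sub_self]
  have hinj : ∀ a b : R, a * e = a → b * e = b → π a = π b → a = b := by
    intro a b ha hb h
    have h1 := (hI _).1 (Ideal.Quotient.eq.1 h)
    rw [sub_mul, ha, hb] at h1
    exact sub_eq_zero.1 h1
  have hex : ∀ x : K, ∃ a : R, a * e = a ∧ π a = x := by
    intro x
    obtain ⟨a, rfl⟩ := hπ x
    exact ⟨a * e, by rw [mul_assoc, he], by rw [map_mul, hπe, mul_one]⟩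
  choose L hLe hLπ using hex
  have hL : ∀ (a : R) (x : K), a * e = a → π a = x → L x = a := fun a x h1 h2 =>
    hinj _ _ (hLe x) h1 (by rw [hLπ, h2])
  have hLmul : ∀ x y, L (x * y) = L x * L y := fun x y =>
    hL _ _ (by rw [mul_assoc, hLe]) (by rw [map_mul, hLπ, hLπ])
  have hL1 : L 1 = e := hL _ _ he hπe
  have hLpow : ∀ x (k : ℕ), L (x ^ k) = L x ^ k * e := by
    intro x k
    apply hL
    · rw [mul_assoc, he]
    · rw [map_mul, map_pow, hLπ, hπe, mul_one]
  have hLpow' : ∀ x (k : ℕ), 0 < k → L (x ^ k) = L x ^ k := by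
    intro x k hk
    rw [hLpow, ← Nat.sub_add_cancel hk, pow_succ, mul_assoc, hLe]
  have hK : IsField K := by
    refine ⟨⟨0, 1, ?_⟩, fun x y => mul_comm x y, fun {x} hx => ⟨x ^ (Q - 2), ?_⟩⟩
    · intro h
      apply he0
      have h1 : π 0 = π e := by rw [map_zero, hπe, h]
      exact (hinj 0 e (zero_mul _) he h1).symm
    · have h1 : L x ≠ 0 := by
        intro h
        apply hx
        rw [← hLπ x, h, map_zero]
      have h2 := congrArg π (hfld _ (hLe x) h1)
      rw [map_pow, hLπ, hπe] at h2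
      rw [← pow_succ', show Q - 2 + 1 = Q - 1 by omega, h2]
  let _ : Field K := hK.toField
  have hKfin : Finite K := Finite.of_surjective π hπ
  let _ : Fintype K := Fintype.ofFinite K
  -- the involution
  let s : K ≃+* K := Ideal.quotientEquiv I I σ (by
    change I = (Ideal.span {1 - e}).map (σ : R →+* R)
    have h1 : (σ : R →+* R) (1 - e) = 1 - e := by
      change σ (1 - e) = 1 - e
      rw [map_sub, map_one, hσe]
    rw [Ideal.map_span, Set.image_singleton, h1])
  have hsπ : ∀ a, s (π a) = π (σ a) := fun a => rfl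
  have hss : ∀ x, s (s x) = x := by
    intro x
    obtain ⟨a, rfl⟩ := hπ x
    rw [hsπ, hsπ, hσ]
  let κ : F →+* K := π.comp ι
  have hκ : Function.Injective κ := κ.injective
  have hsκ : ∀ c, s (κ c) = κ (c ^ q) := by
    intro c
    change s (π (ι c)) = π (ι (c ^ q))
    rw [hsπ, hσι]
  obtain ⟨c₀, hc₀⟩ := exists_not_fixed hF
  obtain ⟨P, hP, hsP⟩ := inv_eq_pow s hss ⟨κ c₀, fun h1 => hc₀ (hκ (by rw [← hsκ, h1]))⟩
  have hLs : ∀ x, σ (L x) = L (s x) := by
    intro x
    symm
    apply hL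
    · have h1 := congrArg σ (hLe x)
      rwa [map_mul, hσe] at h1
    · rw [← hsπ, hLπ]
  have hP1 : 1 < P := by
    have h1 : 1 < Fintype.card K := Fintype.one_lt_card
    rw [hP] at h1
    by_contra h
    have h2 : P ^ 2 ≤ 1 ^ 2 := Nat.pow_le_pow_left (by omega) 2
    omega
  let _ : Algebra F K := κ.toAlgebra
  obtain ⟨b, hb⟩ : ∃ b, b = Module.finrank F K := ⟨_, rfl⟩
  have hPb : P = q ^ b := by
    have h1 := Module.card_eq_pow_finrank (K := F) (V := K)
    rw [hF, ← hb, hP, ← pow_mul, mul_comm 2 b, pow_mul] at h1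
    exact Nat.pow_left_injective (by norm_num : 2 ≠ 0) h1
  have hpowc : ∀ (c : F) (t : ℕ), c ^ (q ^ (2 * t)) = c := by
    intro c t
    rw [pow_mul, ← hF]
    exact FiniteField.pow_card_pow t c
  have hbodd : Odd b := by
    by_contra hev
    rw [Nat.not_odd_iff_even] at hev
    obtain ⟨k, hk⟩ := hev
    apply hc₀
    apply hκ
    rw [← hsκ, hsP, ← map_pow, hPb, hk, ← two_mul, hpowc]
  by_cases hb1 : b = 1
  · left
    intro a ha
    obtain ⟨c, hc⟩ := (finrank_eq_one_iff_of_nonzero' (1 : K) one_ne_zero).1 (hb.symm.trans hb1) (π a)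
    refine ⟨c, ?_⟩
    rw [← hL _ _ ha rfl]
    apply hL
    · rw [mul_assoc, he]
    · rw [map_mul, hπe, mul_one, ← hc, Algebra.smul_def, mul_one]
      rfl
  · right
    have hb3 : 3 ≤ b := by
      obtain ⟨k, hk⟩ := hbodd
      omega
    have h1 : Nat.card K ≤ Nat.card {a : R // a * e = a} := by
      refine Nat.card_le_card_of_injective (fun x => ⟨L x, hLe x⟩) fun x y h => ?_
      have h2 : L x = L y := congrArg Subtype.val h
      rw [← hLπ x, ← hLπ y, h2]
    refine le_trans ?_ h1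
    rw [Nat.card_eq_fintype_card, hP, hPb, ← pow_mul]
    exact Nat.pow_le_pow_right (by omega) (by omega)

end Cfsg.Agent.H398.RC
end

-- part: H398/RC/StrTB
section
/-!
# S3510, family E, box E13: STR-T with the dimension of the part which is not scalar (helper398)
-/

set_option autoImplicit false
set_option linter.unusedSectionVars false

namespace Cfsg.Agent.H398.RC

open Module Cfsg Cfsg.Agent.LieClassical.HermBasic Cfsg.Agent.LieClassical.HermSiegel Cfsg.Agent.ClassicalGeometry Cfsg.Agent.H380.RC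

section main

variable {F : Type} [Field F] [Fintype F] {n q : ℕ}

theorem strT_b (hF : Fintype.card F = q ^ 2) (hq : Odd q) {T g : (Fin n → F) → (Fin n → F)}
    (hTT : ∀ v, T (T v) = v) (hTa : ∀ v w, T (v + w) = T v + T w) (hTs : ∀ (c : F) v, T (c • v) = c ^ q • T v)
    (hTh : ∀ u v, hermForm n F q (T u) (T v) = (hermForm n F q u v) ^ q)
    (hga : ∀ v w, g (v + w) = g v + g w) (hgl : Lin g) (hgi : ∀ v w, hermForm n F q (g v) (g w) = hermForm n F q v w)
    (hgT : ∀ v, g (T v) = T (g v)) {N : ℕ} (hN : Odd N) (hNq : N.Coprime q) (hgN : ∀ v, g^[N] v = v) :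
    -- (0)
    (∀ v, g v = v) ∨
    -- (a)
    (∃ A B : Submodule F (Fin n → F), NDeg q A ∧ NDeg q B ∧ IsCompl A B ∧
      (∀ v ∈ A, ∀ w ∈ B, hermForm n F q v w = 0) ∧ A ≠ ⊥ ∧ B ≠ ⊥ ∧ Stab T A ∧ Stab T B ∧
      ∀ u, Cg g u → Stab u A ∧ Stab u B) ∨
    -- (b)
    (∃ W W' : Submodule F (Fin n → F), TS q W ∧ TS q W' ∧ IsCompl W W' ∧ Stab T W ∧ Stab T W' ∧
      ∀ u, Cg g u → Stab u W ∧ Stab u W') ∨
    -- (c)
    (∃ W W' : Submodule F (Fin n → F), TS q W ∧ TS q W' ∧ IsCompl W W' ∧ (∀ v ∈ W, T v ∈ W') ∧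
      (∀ v ∈ W', T v ∈ W) ∧ ∀ u, Cg g u → Stab u W ∧ Stab u W') ∨
    -- (d)
    (∃ V₁ V₂ : Submodule F (Fin n → F), NDeg q V₁ ∧ NDeg q V₂ ∧ IsCompl V₁ V₂ ∧
      (∀ v ∈ V₁, ∀ w ∈ V₂, hermForm n F q v w = 0) ∧ (∀ v ∈ V₁, T v ∈ V₂) ∧ (∀ v ∈ V₂, T v ∈ V₁) ∧
      (∀ u, Cg g u → Stab u V₁ ∧ Stab u V₂) ∧
      ∃ ρ : (Fin n → F) → (Fin n → F), (∀ v w, ρ (v + w) = ρ v + ρ w) ∧ Lin ρ ∧
        (∀ v w, hermForm n F q (ρ v) (ρ w) = hermForm n F q v w) ∧ (∀ v ∈ V₂, ρ v = v) ∧ Stab ρ V₁ ∧
        (∀ u, Cg g u → ∀ v, u (ρ v) = ρ (u v)) ∧ (∃ m : ℕ, 0 < m ∧ m.Coprime q ∧ ∀ v, ρ^[m] v = v) ∧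
        (∃ k, ∀ v ∈ V₁, g v = ρ^[k] v) ∧
        ((∃ c : F, ∀ v ∈ V₁, g v = c • v) ∨
          (3 ≤ Module.finrank F V₁ ∧ ∃ l, (∃ s : SU n F q, ∀ v, act s v = ρ^[l] v) ∧ ¬ ScalOn (ρ^[l]) V₁))) := by
  classical
  rcases Nat.eq_zero_or_pos n with hn | hn
  · subst hn
    exact Or.inl fun v => Subsingleton.elim _ _
  have hq2 := two_le hF
  have hNpos : 0 < N := hN.pos
  have : Nontrivial (Fin n → F) := by
    have : Nonempty (Fin n) := ⟨⟨0, hn⟩⟩
    infer_instance
  let G : Module.End F (Fin n → F) := { toFun := g, map_add' := hga, map_smul' := fun c v => hgl c v }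
  have hGap : ∀ v, G v = g v := fun _ => rfl
  have hGk : ∀ (k : ℕ) v, (G ^ k) v = g^[k] v := by
    intro k
    induction k with
    | zero => intro v; rfl
    | succ k ih =>
      intro v
      rw [pow_succ, Module.End.mul_apply, ih, Function.iterate_succ_apply]
      rfl
  have hGN : G ^ N = 1 := by
    apply LinearMap.ext
    intro v
    rw [hGk, hgN]
    rfl
  obtain ⟨σ, hσ, hσσ⟩ := exists_sigma (G := G) hF hgi hNpos hGN
  obtain ⟨τ, hτ, hττ⟩ := exists_tau (G := G) hF hTa hTs hTT hgT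
  obtain ⟨Q, hQ, hpow⟩ := exists_pow_eq (G := G) hF hNq hGN
  have hστ : ∀ a, σ (τ a) = τ (σ a) := by
    intro a
    apply Subtype.ext
    refine ((hσ (τ a))).unique hF ?_
    intro v w
    rw [hτ, hτ]
    have e1 : hermForm n F q (T (a.1 (T v))) w = (hermForm n F q (a.1 (T v)) (T w)) ^ q := by
      rw [← hTh, hTT]
    rw [e1, hσ a, ← hTh, hTT]
  let _ : CommRing (RG G) := RG.ring G
  have : Nontrivial (RG G) := ⟨⟨0, 1, fun h => by
    have h1 : (0 : Module.End F (Fin n → F)) = 1 := congrArg Subtype.val h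
    exact zero_ne_one h1⟩⟩
  have : Finite (Module.End F (Fin n → F)) := Module.finite_of_finite F
  have : Finite (RG G) := Subtype.finite
  have hpow' : ∀ a : RG G, a ^ Q = a := fun a => Subtype.ext (by
    have := hpow a.1 a.2
    exact this)
  have hcases := idem_cases (R := RG G) hQ hpow' σ τ hσσ hττ hστ
  have hcom : ∀ (a : RG G) u, Cg g u → ∀ v, u (a.1 v) = a.1 (u v) := by
    intro a u hu v
    let U : Module.End F (Fin n → F) := { toFun := u, map_add' := hu.1, map_smul' := fun c v => hu.2.1 c v }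
    have h1 : U * G = G * U := LinearMap.ext fun v => hu.2.2 v
    exact LinearMap.congr_fun (comm_of_mem h1 a.2) v
  have hstab : ∀ (a : RG G) u, Cg g u → Stab u (LinearMap.range a.1) ∧ Stab u (LinearMap.ker a.1) := by
    intro a u hu
    constructor
    · rintro _ ⟨v, rfl⟩
      exact ⟨u v, (hcom a u hu v).symm⟩
    · intro v hv
      rw [LinearMap.mem_ker] at hv ⊢
      rw [← hcom a u hu, hv]
      have h1 := hu.2.1 0 (0 : Fin n → F)
      rwa [zero_smul, zero_smul] at h1
  have hT0 : T 0 = 0 := by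
    have h1 := hTs 0 (0 : Fin n → F)
    rwa [zero_smul, zero_pow (by omega), zero_smul] at h1
  have hidm : ∀ a : RG G, a * a = a → a.1 * a.1 = a.1 := fun a ha => congrArg Subtype.val ha
  have hσalg : ∀ c : F, σ (algebraMap F (RG G) c) = algebraMap F (RG G) (c ^ q) := by
    intro c
    exact Subtype.ext ((hσ _).unique hF (adj_algebraMap hF c))
  have hτalg : ∀ c : F, τ (algebraMap F (RG G) c) = algebraMap F (RG G) (c ^ q) := by
    intro c
    apply Subtype.ext
    apply LinearMap.ext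
    intro v
    rw [hτ]
    change T (c • T v) = c ^ q • v
    rw [hTs, hTT]
  let Gr : RG G := ⟨G, Algebra.subset_adjoin rfl⟩
  have hσG : σ Gr = Gr ^ (N - 1) := Subtype.ext ((hσ Gr).unique hF (adj_iso hgi hNpos hGN))
  have hGrN : Gr ^ N = 1 := Subtype.ext hGN
  have hGσ : Gr * σ Gr = 1 := by
    rw [hσG, ← pow_succ', Nat.sub_add_cancel hNpos, hGrN]
  have hTE : ∀ a : RG G, τ a = a → ∀ v, a.1 (T v) = T (a.1 v) := by
    intro a ha v
    have h1 := hτ a v
    rw [ha] at h1
    rw [h1, hTT]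
  obtain ⟨c₀, hc₀⟩ := exists_not_fixed hF
  rcases hcases with hfield | ⟨s, hs, hs0, hs1, hσs, hτs⟩ | ⟨w, hw, hσw, hτw⟩ | ⟨w, hw, hσw, hτw⟩ |
    ⟨e, he, he0, hσe, hτe, hfld⟩
  · -- (0)
    left
    have hK : IsField (RG G) := by
      refine ⟨⟨0, 1, zero_ne_one⟩, fun x y => mul_comm x y, fun {x} hx => ⟨x ^ (Q - 2), ?_⟩⟩
      rw [← pow_succ', show Q - 2 + 1 = Q - 1 by omega, hfield x hx]
    let _ : Field (RG G) := hK.toField
    let _ : Fintype (RG G) := Fintype.ofFinite _
    have hinj : Function.Injective (algebraMap F (RG G)) := by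
      intro a b hab
      by_contra hne
      have h1 : a - b ≠ 0 := sub_ne_zero.2 hne
      have h2 : algebraMap F (Module.End F (Fin n → F)) a = algebraMap F (Module.End F (Fin n → F)) b :=
        congrArg Subtype.val hab
      exact hne ((algebraMap F (Module.End F (Fin n → F))).injective h2)
    obtain ⟨P₁, hP₁, hσP⟩ := inv_eq_pow (K := RG G) σ hσσ ⟨algebraMap F (RG G) c₀, fun h1 => hc₀ (hinj (by
      rw [← hσalg, h1]))⟩
    obtain ⟨P₂, hP₂, hτP⟩ := inv_eq_pow (K := RG G) τ hττ ⟨algebraMap F (RG G) c₀, fun h1 => hc₀ (hinj (by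
      rw [← hτalg, h1]))⟩
    have hP : P₁ = P₂ := Nat.pow_left_injective (by norm_num : 2 ≠ 0) (hP₁.symm.trans hP₂)
    have h1 : σ Gr = τ Gr := by rw [hσP, hτP, hP]
    have h2 : τ Gr = Gr := by
      apply Subtype.ext
      apply LinearMap.ext
      intro v
      rw [hτ]
      change T (g (T v)) = g v
      rw [hgT, hTT]
    have h3 : G * G = 1 := by
      have h4 := hGσ
      rw [h1, h2] at h4
      exact congrArg Subtype.val h4
    have h5 : G = 1 := by
      obtain ⟨k, hk⟩ := hN
      rw [hk, pow_succ, pow_mul, sq, h3, one_pow, one_mul] at hGN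
      exact hGN
    intro v
    exact LinearMap.congr_fun h5 v
  · -- (a)
    right; left
    have hE : s.1 * s.1 = s.1 := hidm s hs
    have hA : Adj q s.1 s.1 := by
      have h1 := hσ s
      rwa [hσs] at h1
    refine ⟨LinearMap.range s.1, LinearMap.ker s.1, ndeg_rng hE hA hF, ndeg_ker hE hA hF, compl_rng hE,
      fun v hv w hw => orth_rng hE hA hF hv hw, ?_, ?_, ?_, ?_, hstab s⟩
    · intro h1
      apply hs0
      apply Subtype.ext
      exact LinearMap.range_eq_bot.1 h1
    · intro h1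
      apply hs1
      apply Subtype.ext
      apply LinearMap.ext
      intro v
      have h2 : v - s.1 v ∈ LinearMap.ker s.1 := by
        rw [LinearMap.mem_ker, map_sub, ← Module.End.mul_apply, hE, sub_self]
      rw [h1, Submodule.mem_bot, sub_eq_zero] at h2
      exact h2.symm
    · rintro _ ⟨v, rfl⟩
      exact ⟨T v, hTE s hτs v⟩
    · intro v hv
      rw [LinearMap.mem_ker] at hv ⊢
      rw [hTE s hτs, hv, hT0]
  · -- (b)
    right; right; left
    have hE : w.1 * w.1 = w.1 := hidm w hw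
    have hA : Adj q w.1 (1 - w.1) := by
      have h1 := hσ w
      rwa [hσw] at h1
    refine ⟨LinearMap.range w.1, LinearMap.ker w.1, ts_rng hE hA hF, ts_ker hA hF, compl_rng hE, ?_, ?_,
      hstab w⟩
    · rintro _ ⟨v, rfl⟩
      exact ⟨T v, hTE w hτw v⟩
    · intro v hv
      rw [LinearMap.mem_ker] at hv ⊢
      rw [hTE w hτw, hv, hT0]
  · -- (c)
    right; right; right; left
    have hE : w.1 * w.1 = w.1 := hidm w hw
    have hA : Adj q w.1 (1 - w.1) := by
      have h1 := hσ w
      rwa [hσw] at h1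
    have hT1 : ∀ v, T (w.1 (T v)) = v - w.1 v := by
      intro v
      rw [← hτ, hτw]
      rfl
    have hT2 : ∀ v, w.1 (T v) = T (v - w.1 v) := by
      intro v
      rw [← hT1, hTT]
    refine ⟨LinearMap.range w.1, LinearMap.ker w.1, ts_rng hE hA hF, ts_ker hA hF, compl_rng hE, ?_, ?_,
      hstab w⟩
    · intro v hv
      rw [mem_rng hE] at hv
      rw [LinearMap.mem_ker, hT2, hv, sub_self, hT0]
    · intro v hv
      rw [LinearMap.mem_ker] at hv
      rw [mem_rng hE, hT2, hv, sub_zero]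
  · -- (d)
    right; right; right; right
    have hE : e.1 * e.1 = e.1 := hidm e he
    have hA : Adj q e.1 e.1 := by
      have h1 := hσ e
      rwa [hσe] at h1
    have hT1 : ∀ v, T (e.1 (T v)) = v - e.1 v := by
      intro v
      rw [← hτ, hτe]
      rfl
    have hT2 : ∀ v, e.1 (T v) = T (v - e.1 v) := by
      intro v
      rw [← hT1, hTT]
    have hq3 : 3 ≤ q := by
      obtain ⟨k, hk⟩ := hq
      omega
    obtain ⟨ρ₀, hρe, hρσ, ⟨m, hm0, hmq, hρm⟩, hγ, hlast⟩ := corner_field (R := RG G) hF hq3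
      (algebraMap F (RG G)) σ hσσ hσalg he he0 hσe hfld hQ
    have hcard := corner_card (R := RG G) hF hq3 (algebraMap F (RG G)) σ hσσ hσalg he he0 hσe hfld hQ
    have h1e : (1 - e) * e = 0 := by rw [sub_mul, one_mul, he, sub_self]
    have hidc : (1 - e) * (1 - e) = 1 - e := by rw [mul_sub, mul_one, h1e, sub_zero]
    -- powers of `a e + (1 - e)`
    have hpw : ∀ (a : RG G), a * e = a → ∀ k : ℕ, (a + (1 - e)) ^ k = a ^ k * e + (1 - e) := by
      intro a ha k
      induction k with
      | zero => rw [pow_zero, pow_zero, one_mul]; ring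
      | succ k ih =>
        have h2 : a * (1 - e) = 0 := by rw [mul_sub, mul_one, ha, sub_self]
        rw [pow_succ, ih]
        calc (a ^ k * e + (1 - e)) * (a + (1 - e)) =
              a ^ k * (a * e) + a ^ k * ((1 - e) * e) + a * (1 - e) + (1 - e) * (1 - e) := by ring
          _ = a ^ (k + 1) * e + (1 - e) := by rw [h1e, h2, hidc, mul_zero, add_zero, add_zero, ← mul_assoc, ← pow_succ]
    obtain ⟨r, hr⟩ : ∃ r : RG G, r = ρ₀ + (1 - e) := ⟨_, rfl⟩
    have hrσ : r * σ r = 1 := by
      have h2 : σ r = σ ρ₀ + (1 - e) := by rw [hr, map_add, map_sub, map_one, hσe]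
      have h3 : ρ₀ * (1 - e) = 0 := by rw [mul_sub, mul_one, hρe, sub_self]
      have h4 : (1 - e) * σ ρ₀ = 0 := by
        have := congrArg σ h3
        rw [map_mul, map_sub, map_one, hσe, map_zero] at this
        rw [mul_comm, this]
      rw [h2, hr]
      calc (ρ₀ + (1 - e)) * (σ ρ₀ + (1 - e)) =
            ρ₀ * σ ρ₀ + ρ₀ * (1 - e) + (1 - e) * σ ρ₀ + (1 - e) * (1 - e) := by ring
        _ = 1 := by rw [hρσ, h3, h4, hidc]; ring
    have hCg : ∀ a : RG G, Cg g a.1 := fun a => ⟨fun v w => map_add a.1 v w, fun c v => map_smul a.1 c v, fun v =>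
      LinearMap.congr_fun (comm_mem a.2 (Algebra.subset_adjoin (s := {G}) rfl)) v⟩
    have hiso : ∀ v w, hermForm n F q (r.1 v) (r.1 w) = hermForm n F q v w := by
      intro v w
      rw [hσ r]
      congr 1
      have h2 : σ r * r = 1 := by rw [mul_comm, hrσ]
      exact LinearMap.congr_fun (congrArg Subtype.val h2) w
    have hrk : ∀ (k : ℕ) v, (r.1)^[k] v = (r ^ k).1 v := by
      intro k
      induction k with
      | zero => intro v; rfl
      | succ k ih =>
        intro v
        rw [Function.iterate_succ_apply, ih, pow_succ]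
        rfl
    have hrk1 : ∀ (k : ℕ) v, v ∈ LinearMap.range e.1 → (r.1)^[k] v = (ρ₀ ^ k).1 v := by
      intro k v hv
      rw [mem_rng hE] at hv
      rw [hrk, hr, hpw ρ₀ hρe k]
      change (ρ₀ ^ k).1 (e.1 v) + (v - e.1 v) = _
      rw [hv, sub_self, add_zero]
    have hrk2 : ∀ v, v ∈ LinearMap.ker e.1 → r.1 v = v := by
      intro v hv
      rw [LinearMap.mem_ker] at hv
      have h2 : ρ₀.1 v = 0 := by
        rw [← hρe]
        change ρ₀.1 (e.1 v) = 0
        rw [hv, map_zero]
      rw [hr]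
      change ρ₀.1 v + (v - e.1 v) = v
      rw [h2, hv, sub_zero, zero_add]
    obtain ⟨γ, hγdef⟩ : ∃ γ : RG G, γ = Gr * e := ⟨_, rfl⟩
    have hγe : γ * e = γ := by rw [hγdef, mul_assoc, he]
    have hγσ : γ * σ γ = e := by
      rw [hγdef, map_mul, hσe]
      calc Gr * e * (σ Gr * e) = Gr * σ Gr * (e * e) := by ring
        _ = e := by rw [hGσ, he, one_mul]
    obtain ⟨k, hk⟩ := hγ γ hγe hγσ
    have hγv : ∀ v ∈ LinearMap.range e.1, γ.1 v = g v := by
      intro v hv
      rw [mem_rng hE] at hv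
      rw [hγdef]
      change g (e.1 v) = g v
      rw [hv]
    refine ⟨LinearMap.range e.1, LinearMap.ker e.1, ndeg_rng hE hA hF, ndeg_ker hE hA hF, compl_rng hE,
      fun v hv w hw => orth_rng hE hA hF hv hw, ?_, ?_, hstab e, r.1, fun v w => map_add _ _ _,
      fun c v => map_smul _ _ _, hiso, hrk2, (hstab e r.1 (hCg r)).1, fun u hu v => hcom r u hu v, ⟨m, hm0, hmq, ?_⟩,
      ⟨k, ?_⟩, ?_⟩
    · intro v hv
      rw [mem_rng hE] at hv
      rw [LinearMap.mem_ker, hT2, hv, sub_self, hT0]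
    · intro v hv
      rw [LinearMap.mem_ker] at hv
      rw [mem_rng hE, hT2, hv, sub_zero]
    · intro v
      rw [hrk, hr, hpw ρ₀ hρe, hρm, he]
      have h2 : e + (1 - e) = 1 := by ring
      rw [h2]
      rfl
    · intro v hv
      rw [hrk1 k v hv, ← hγv v hv, hk]
      rw [mem_rng hE] at hv
      change (ρ₀ ^ k).1 (e.1 v) = _
      rw [hv]
    · have hsc : (∀ a : RG G, a * e = a → ∃ c : F, a = algebraMap F (RG G) c * e) →
          ∃ c : F, ∀ v ∈ LinearMap.range e.1, g v = c • v := by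
        intro hl
        obtain ⟨c, hc⟩ := hl γ hγe
        refine ⟨c, fun v hv => ?_⟩
        rw [← hγv v hv, hc]
        rw [mem_rng hE] at hv
        change c • (e.1 v) = _
        rw [hv]
      rcases hcard with hl | hcard
      · exact Or.inl (hsc hl)
      rcases hlast with hl | ⟨l, hl0, ⟨d, hde, hd⟩, hns⟩
      · exact Or.inl (hsc hl)
      · right
        refine ⟨?_, l, ?_, ?_⟩
        · -- the dimension
          obtain ⟨v₀, hv₀⟩ : ∃ v, e.1 v ≠ 0 := by
            by_contra hcon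
            push Not at hcon
            exact he0 (Subtype.ext (LinearMap.ext hcon))
          have hinj : Function.Injective fun a : {a : RG G // a * e = a} =>
              (⟨a.1.1 v₀, by
                have h2 : (a.1 * e).1 v₀ = a.1.1 v₀ := by rw [a.2]
                rw [← h2, mul_comm]
                exact ⟨a.1.1 v₀, rfl⟩⟩ : LinearMap.range e.1) := by
            intro a b hab
            have h2 : a.1.1 v₀ = b.1.1 v₀ := congrArg Subtype.val hab
            by_contra hne
            have h3 : a.1 - b.1 ≠ 0 := fun h => hne (Subtype.ext (sub_eq_zero.1 h))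
            have h4 := hfld (a.1 - b.1) (by rw [sub_mul, a.2, b.2]) h3
            apply hv₀
            have h5 : (a.1 - b.1).1 v₀ = 0 := by
              change a.1.1 v₀ - b.1.1 v₀ = 0
              rw [h2, sub_self]
            rw [← h4, show Q - 1 = (Q - 2) + 1 by omega, pow_succ]
            change ((a.1 - b.1) ^ (Q - 2)).1 ((a.1 - b.1).1 v₀) = 0
            rw [h5, map_zero]
          have h2 := hcard.trans (Nat.card_le_card_of_injective _ hinj)
          rw [Module.natCard_eq_pow_finrank (K := F), Nat.card_eq_fintype_card, hF, ← pow_mul] at h2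
          have h3 := (Nat.pow_le_pow_iff_right (by omega : 1 < q)).1 h2
          omega
        · have hisok : ∀ v w, hermForm n F q ((r ^ l).1 v) ((r ^ l).1 w) = hermForm n F q v w := by
            intro v w
            rw [← hrk, ← hrk]
            generalize l = l'
            induction l' with
            | zero => rfl
            | succ l' ih => rw [Function.iterate_succ_apply', Function.iterate_succ_apply', hiso, ih]
          have hD : (d + (1 - e)) ^ (q ^ 2 - 1) = r ^ l := by
            rw [hpw d hde, ← hd, hr, hpw ρ₀ hρe]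
          have hD' : (d + (1 - e)).1 ^ (q ^ 2 - 1) = (r ^ l).1 := congrArg Subtype.val hD
          have hinv : (r ^ l) * (σ r) ^ l = 1 := by rw [← mul_pow, hrσ, one_pow]
          have hdet0 : LinearMap.det (r ^ l).1 ≠ 0 := by
            intro h0
            have h2 : (r ^ l).1 * ((σ r) ^ l).1 = 1 := congrArg Subtype.val hinv
            have h3 := congrArg LinearMap.det h2
            rw [map_mul, h0, zero_mul, map_one] at h3
            exact zero_ne_one h3
          have hdet : LinearMap.det (r ^ l).1 = 1 := by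
            rw [← hD', map_pow, ← hF]
            apply FiniteField.pow_card_sub_one_eq_one
            intro h0
            apply hdet0
            rw [← hD', map_pow, h0, zero_pow]
            have : 2 ^ 2 ≤ q ^ 2 := Nat.pow_le_pow_left hq2 2
            omega
          obtain ⟨t, ht⟩ := exists_su hisok hdet
          exact ⟨t, fun v => by rw [ht, hrk]⟩
        · rintro ⟨c, hc⟩
          apply hns
          refine ⟨c, Subtype.ext (LinearMap.ext fun v => ?_)⟩
          change (ρ₀ ^ l).1 v = c • (e.1 v)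
          have h2 : ρ₀ ^ l = ρ₀ ^ l * e := by
            rw [← Nat.sub_add_cancel hl0, pow_succ, mul_assoc, hρe]
          rw [h2]
          change (ρ₀ ^ l).1 (e.1 v) = c • (e.1 v)
          rw [← hrk1 l _ ⟨v, rfl⟩, hc _ ⟨v, rfl⟩]

end main

end Cfsg.Agent.H398.RC
end

-- part: H398/RC/StrTStmtB
section
/-!
# S3510, family E, box E13: `StrTStmtB` (helper398)
-/

set_option autoImplicit false

namespace Cfsg.Agent.H398.RC

open Cfsg Cfsg.Agent.LieClassical.HermBasic Cfsg.Agent.H380.RC Cfsg.Agent.LieClassical.HermSiegel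

/-- **STR-T** with the dimension -/
theorem strT_stmt_b : Cfsg.Agent.H438.RC.StrTStmtB := by
  intro F _ _ n q hF hq T g hT hg hne
  obtain ⟨N, hN, hNq, hgN⟩ := hg.ord
  have hCg : ∀ u, Cfsg.Agent.H438.RC.Cg g u → Cg g u := fun u hu => ⟨hu.add, hu.lin, hu.comm⟩
  rcases strT_b hF hq hT.TT hT.add hT.smul hT.herm hg.add hg.lin hg.herm hg.comm hN hNq hgN with
    h0 | ⟨A, B, h1, h2, h3, h4, h5, h6, h7, h8, h9⟩ | ⟨W, W', h1, h2, h3, h4, h5, h6⟩ |
    ⟨W, W', h1, h2, h3, h4, h5, h6⟩ | ⟨V₁, V₂, h1, h2, h3, h4, h5, h6, h7, ρ, hρ1, hρ2, hρ3, hρ4, hρ5, hρ6, -, ⟨k, hk⟩, hl⟩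
  · obtain ⟨v, hv⟩ := hne
    exact absurd (h0 v) hv
  · exact Or.inl ⟨A, B, h1, h2, h3, h5, h6, h4, h7, h8, fun u hu => h9 u (hCg u hu)⟩
  · exact Or.inr (Or.inl ⟨W, W', h1, h2, h3, h4, h5, fun u hu => h6 u (hCg u hu)⟩)
  · exact Or.inr (Or.inr (Or.inl ⟨W, W', h1, h2, h3, h4, h5, fun u hu => h6 u (hCg u hu)⟩))
  · refine Or.inr (Or.inr (Or.inr ⟨V₁, V₂, h1, h2, h3, h4, h5, h6, fun u hu => h7 u (hCg u hu), ?_⟩))
    rcases hl with ⟨c, hc⟩ | ⟨hdim, l, ⟨s, hs⟩, hns⟩
    · exact Or.inl ⟨c, hc⟩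
    · refine Or.inr ⟨hdim, s, ρ, fun v hv => ?_, fun u hu v => ?_, ?_, hρ1, hρ2, hρ5, fun v _ w _ => hρ3 v w, k, l,
        fun v hv => ⟨hk v hv, hs v⟩⟩
      · rw [hs]
        generalize l = l'
        induction l' with
        | zero => rfl
        | succ l' ih => rw [Function.iterate_succ_apply', ih, hρ4 v hv]
      · rw [hs, hs]
        generalize l = l'
        induction l' with
        | zero => rfl
        | succ l' ih => rw [Function.iterate_succ_apply', Function.iterate_succ_apply', ih, hρ6 u (hCg u hu)]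
      · rintro ⟨c, hc⟩
        exact hns ⟨c, fun v hv => by rw [← hs, hc v hv]⟩

end Cfsg.Agent.H398.RC
end

-- part: H438/RC/GraphSym
section
/-!
# S3510, E13: `GraphSym` from `SmallStmt` (helper438)
-/

set_option autoImplicit false

namespace Cfsg.Agent.H438.RC

open Matrix Cfsg Cfsg.Agent.LieClassical.HermBasic Cfsg.Agent.LieClassical.HermSiegel
  Cfsg.Agent.LieClassical.HermGen Cfsg.Agent.LieClassical.SUBasic Cfsg.Agent.ClassicalGeometry.PSUAutBasic
  Cfsg.Agent.ClassicalGeometry.PSUAutCount Cfsg.Agent.LieClassical.FieldTransfer Cfsg.Agent.ClassicalGeometry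
  Cfsg.Agent.H380.RC

theorem graphSym_of' (hDec : DecStmt) (hS : SmallStmt) (hStr : StrTStmtB) (h3 : SymThree) (h4 : SymFour)
    (hb : SymBeta) (hc : SymGamma) (hd : SymDeltaB) : GraphSym := by
  intro G Ω _ _ _ _ _ N F _ _ n q U ι _ x f r hfam hcov ⟨hq, hIH, i₀, T, hG, hv⟩
  have hT := symT_of hG hv
  obtain ⟨g, hg, hcg, hpow⟩ := exists_gen hG
  by_cases hne : ∃ v, g v ≠ v
  · have hY : Sym U x f r i₀ T g := ⟨hG, hq, hcov, hT, hg, hne, hcg, hpow⟩
    rcases hStr U.hF hq T g hT hg hne with h | h | h | h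
    · obtain ⟨A, B, h5, h6, h7, h8, h9, h10, h11, h12, h13⟩ := h
      exact sym_alpha hDec hS h3 h4 U x f r i₀ T g hY hIH A B h5 h6 h7 h8 h9 h10 h11 h12 h13
    · obtain ⟨W, W', h5, h6, h7, h8, h9, h10⟩ := h
      exact hb U x f r i₀ T g hY hIH W W' h5 h6 h7 h8 h9 h10
    · obtain ⟨W, W', h5, h6, h7, h8, h9, h10⟩ := h
      exact hc U x f r i₀ T g hY hIH W W' h5 h6 h7 h8 h9 h10
    · obtain ⟨V₁, V₂, h5, h6, h7, h8, h9, h10, h11, h12⟩ := h
      exact hd U x f r i₀ T g hY hIH V₁ V₂ h5 h6 h7 h8 h9 h10 h11 h12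
  · push Not at hne
    refine symZero U x f r i₀ T hG hq hcov hv fun j hj hjq => ?_
    obtain ⟨k, hk⟩ := hpow j hj hjq
    apply hfam.pf.ne j
    rw [(hfam.lft j).eq_one_iff]
    refine ⟨1, fun v => ?_⟩
    rw [hk, one_smul]
    exact Function.iterate_fixed (hne v) k

/-- **E13** -/
theorem graphSym (hS : SmallStmt) : GraphSym :=
  graphSym_of' H452.RC.dec_main hS H398.RC.strT_stmt_b (H398.RC.sym_three H452.RC.gdec_main hS)
    (H398.RC.sym_four H452.RC.dec_main H452.RC.gdec_main hS) (H188.RC.SymBC.symBeta H452.RC.d_main hS)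
    (H188.RC.SymBC.symGamma H452.RC.dswap_main hS H188.RC.graph43) (symDeltaB H452.RC.gdec_main hS)

end Cfsg.Agent.H438.RC
end
end

-- part: H686/RC/DeadD_mg
section
prune_inst 0x2070041d0000000018001060001c42ea00042200480c0004020c0004c1ac422403082081a005100a00004400310048110000000200000000000400011800801080000480480000020000000000000000000000000000000000000000010000000000000
set_option linter.all false
open scoped Cfsg.Agent.FastGrp

-- part: H686/RC/DeadD
section
/-!
# S3510, family D, box D3: at most one member is not scalar on a Lagrangian `W` (helper686)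

* `LP B W W'` : Lagrangian pair; `jW L : (W ≃ₗ[F] W) →* Sp B`, `jS L : SpecialLinearGroup F W →* Sp B`; `cj_jW`, `scal'`,
  `scalOn_of_comm`; `perfect_SL`, `simple_SL`, `ncomm_SL`; `mrule_hom` : M-rule for a homomorphism with central kernel;
* `us h hw c : Sp B` : `v ↦ v + c • (B v w • w' + B v w' • w)`; `dead_pair` : the line rule for this group;
* `dead_D`.
-/

set_option autoImplicit false
open Cfsg

namespace Cfsg.Agent.H686.RC.DD

open MulAction Module Cfsg.Agent.H106.RC Cfsg.Agent.H520.RC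
open scoped commutatorElement

section lag

variable {F V : Type} [Field F] [AddCommGroup V] [Module F V] [FiniteDimensional F V]
  {B : LinearMap.BilinForm F V} {W W' : Submodule F V}

/-- Lagrangian pair -/
structure LP (B : LinearMap.BilinForm F V) (W W' : Submodule F V) : Prop where
  form : NAlt B
  compl : IsCompl W W'
  t : ∀ u ∈ W, ∀ v ∈ W, B u v = 0
  t' : ∀ u ∈ W', ∀ v ∈ W', B u v = 0

omit [FiniteDimensional F V] in
theorem LP.symm (L : LP B W W') : LP B W' W := ⟨L.form, L.compl.symm, L.t', L.t⟩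

omit [FiniteDimensional F V] in
theorem LP.dec (L : LP B W W') (v : V) : ∃ a ∈ W, ∃ b ∈ W', v = a + b := by
  have : v ∈ W ⊔ W' := by rw [L.compl.sup_eq_top]; trivial
  obtain ⟨a, ha, b, hb, h⟩ := Submodule.mem_sup.1 this
  exact ⟨a, ha, b, hb, h.symm⟩

omit [FiniteDimensional F V] in
/-- an element of `W'` orthogonal to `W` is `0` -/
theorem LP.zero' (L : LP B W W') {v : V} (hv : v ∈ W') (h : ∀ w ∈ W, B w v = 0) : v = 0 := by
  apply L.form.nd'
  intro y
  obtain ⟨a, ha, b, hb, rfl⟩ := L.dec y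
  rw [map_add, LinearMap.add_apply, h a ha, L.t' b hb v hv, add_zero]

/-- the pairing -/
def pair (B : LinearMap.BilinForm F V) (W W' : Submodule F V) : W' →ₗ[F] Dual F W where
  toFun v := (B.flip (v : V)).comp W.subtype
  map_add' u v := by
    ext w
    simp only [_root_.Submodule.coe_add, _root_.map_add, _root_.LinearMap.coe_comp, _root_.Submodule.coe_subtype, _root_.Function.comp_apply, _root_.LinearMap.add_apply, _root_.LinearMap.BilinForm.flip_apply]
  map_smul' a v := by
    ext w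
    simp only [_root_.SetLike.val_smul, _root_.map_smul, _root_.LinearMap.coe_comp, _root_.LinearMap.coe_smul, _root_.Submodule.coe_subtype, _root_.Function.comp_apply, _root_.Pi.smul_apply, _root_.LinearMap.BilinForm.flip_apply, _root_.smul_eq_mul, _root_.RingHom.id_apply, _root_.LinearMap.smul_apply]

omit [FiniteDimensional F V] in
theorem pair_inj (L : LP B W W') : Function.Injective (pair B W W') := by
  rw [← LinearMap.ker_eq_bot, LinearMap.ker_eq_bot']
  intro v hv
  apply Subtype.ext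
  apply L.zero' v.2
  intro w hw
  have := congrArg (fun f => f ⟨w, hw⟩) hv
  exact this

theorem LP.finrank_eq (L : LP B W W') : finrank F W' = finrank F W := by
  have h1 := LinearMap.finrank_le_finrank_of_injective (pair_inj L)
  have h2 := LinearMap.finrank_le_finrank_of_injective (pair_inj L.symm)
  rw [Subspace.dual_finrank_eq] at h1 h2
  omega

theorem LP.finrank_two (L : LP B W W') : finrank F V = 2 * finrank F W := by
  have h1 := Submodule.finrank_add_eq_of_isCompl L.compl
  rw [L.finrank_eq] at h1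
  omega

/-- the pairing as an equivalence -/
noncomputable def pe (L : LP B W W') : W' ≃ₗ[F] Dual F W :=
  LinearEquiv.ofInjectiveOfFinrankEq (pair B W W') (pair_inj L) (by
    rw [Subspace.dual_finrank_eq, L.finrank_eq])

theorem pe_apply (L : LP B W W') (v : W') (w : W) : pe L v w = B w v := rfl

/-- contragredient -/
noncomputable def star (L : LP B W W') (g : W ≃ₗ[F] W) : W' ≃ₗ[F] W' :=
  (pe L).trans (g.symm.dualMap.trans (pe L).symm)

theorem star_spec (L : LP B W W') (g : W ≃ₗ[F] W) (w : W) (v : W') : B (g w) (star L g v) = B w v := by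
  rw [← pe_apply L, star]
  simp only [LinearEquiv.trans_apply, LinearEquiv.apply_symm_apply]
  rw [LinearEquiv.dualMap_apply, LinearEquiv.symm_apply_apply, pe_apply]

/-- the isometry of `V` induced by `g` -/
noncomputable def ex (L : LP B W W') (g : W ≃ₗ[F] W) : V ≃ₗ[F] V :=
  (Submodule.prodEquivOfIsCompl W W' L.compl).symm.trans
    ((LinearEquiv.prodCongr g (star L g)).trans (Submodule.prodEquivOfIsCompl W W' L.compl))

theorem ex_apply (L : LP B W W') (g : W ≃ₗ[F] W) (w : W) (v : W') :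
    ex L g ((w : V) + v) = (g w : V) + star L g v := by
  have h1 : (Submodule.prodEquivOfIsCompl W W' L.compl).symm ((w : V) + v) = (w, v) := by
    rw [LinearEquiv.symm_apply_eq]
    rfl
  rw [ex, LinearEquiv.trans_apply, h1]
  rfl

theorem ex_mem (L : LP B W W') (g : W ≃ₗ[F] W) : ex L g ∈ Sp B := by
  intro x y
  obtain ⟨a, ha, b, hb, rfl⟩ := L.dec x
  obtain ⟨c, hc, d, hd, rfl⟩ := L.dec y
  rw [show a + b = ((⟨a, ha⟩ : W) : V) + ((⟨b, hb⟩ : W') : V) from rfl,
    show c + d = ((⟨c, hc⟩ : W) : V) + ((⟨d, hd⟩ : W') : V) from rfl, ex_apply, ex_apply]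
  simp only [map_add, LinearMap.add_apply]
  rw [star_spec, L.t _ (g _).2 _ (g _).2, L.t' _ (star L g _).2 _ (star L g _).2,
    L.form.swap (star L g _ : V) (g _ : V), star_spec, L.t _ ha _ hc, L.t' _ hb _ hd, L.form.swap b c]

/-- uniqueness -/
theorem uniq (L : LP B W W') {s t : Sp B} (h0 : ∀ w ∈ W, s.1 w ∈ W) (h1 : ∀ w ∈ W, s.1 w = t.1 w)
    (h2 : ∀ v ∈ W', s.1 v ∈ W') (h3 : ∀ v ∈ W', t.1 v ∈ W') : s = t := by
  have hsur : ∀ w ∈ W, ∃ w0 ∈ W, s.1 w0 = w := by
    intro w hw
    have hinj : Function.Injective ((s.1 : V →ₗ[F] V).restrict h0) := by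
      intro a b h
      apply Subtype.ext
      exact s.1.injective (congrArg Subtype.val h)
    obtain ⟨w0, hw0⟩ := (LinearMap.injective_iff_surjective.1 hinj) ⟨w, hw⟩
    exact ⟨w0, w0.2, congrArg Subtype.val hw0⟩
  apply Subtype.ext
  apply LinearEquiv.ext
  intro x
  obtain ⟨a, ha, b, hb, rfl⟩ := L.dec x
  rw [map_add, map_add, h1 a ha]
  congr 1
  rw [← sub_eq_zero]
  apply L.zero' (W'.sub_mem (h2 b hb) (h3 b hb))
  intro w hw
  obtain ⟨w0, hw0, rfl⟩ := hsur w hw
  rw [map_sub, s.2 w0 b, h1 w0 hw0, t.2 w0 b, sub_self]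

/-- the embedding of `GL(W)` -/
noncomputable def jW (L : LP B W W') : (W ≃ₗ[F] W) →* Sp B where
  toFun g := ⟨ex L g, ex_mem L g⟩
  map_one' := by
    apply uniq L
    · intro w hw
      have := ex_apply L 1 ⟨w, hw⟩ 0
      simp only [Submodule.coe_zero, add_zero, map_zero] at this
      show ex L 1 w ∈ W
      rw [this]
      exact hw
    · intro w hw
      have := ex_apply L 1 ⟨w, hw⟩ 0
      simp only [Submodule.coe_zero, add_zero, map_zero] at this
      exact this
    · intro v hv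
      have := ex_apply L 1 0 ⟨v, hv⟩
      simp only [Submodule.coe_zero, zero_add, map_zero] at this
      show ex L 1 v ∈ W'
      rw [this]
      exact (star L 1 _).2
    · intro v hv
      exact hv
  map_mul' g h := by
    have hW : ∀ g (w : W), ex L g w = (g w : V) := by
      intro g w
      have := ex_apply L g w 0
      simpa only [Submodule.coe_zero, add_zero, map_zero] using this
    have hW' : ∀ g (v : W'), ex L g v = (star L g v : V) := by
      intro g v
      have := ex_apply L g 0 v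
      simpa only [Submodule.coe_zero, zero_add, map_zero] using this
    apply uniq L
    · intro w hw
      show ex L (g * h) w ∈ W
      rw [hW (g * h) ⟨w, hw⟩]
      exact ((g * h) _).2
    · intro w hw
      show ex L (g * h) w = ex L g (ex L h w)
      rw [hW (g * h) ⟨w, hw⟩, hW h ⟨w, hw⟩, hW g]
      rfl
    · intro v hv
      show ex L (g * h) v ∈ W'
      rw [hW' (g * h) ⟨v, hv⟩]
      exact (star L (g * h) _).2
    · intro v hv
      show ex L g (ex L h v) ∈ W'
      rw [hW' h ⟨v, hv⟩, hW' g]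
      exact (star L g _).2

theorem jW_apply (L : LP B W W') (g : W ≃ₗ[F] W) (w : W) : (jW L g).1 (w : V) = g w := by
  have := ex_apply L g w 0
  simp only [Submodule.coe_zero, add_zero, map_zero] at this
  exact this

theorem jW_mem' (L : LP B W W') (g : W ≃ₗ[F] W) {v : V} (hv : v ∈ W') : (jW L g).1 v ∈ W' := by
  have := ex_apply L g 0 ⟨v, hv⟩
  simp only [Submodule.coe_zero, zero_add, map_zero] at this
  show ex L g v ∈ W'
  rw [this]
  exact (star L g _).2

theorem jW_mem (L : LP B W W') (g : W ≃ₗ[F] W) {w : V} (hw : w ∈ W) : (jW L g).1 w ∈ W := by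
  rw [jW_apply L g ⟨w, hw⟩]
  exact (g _).2

theorem jW_inj (L : LP B W W') : Function.Injective (jW L) := by
  intro g h hgh
  apply LinearEquiv.ext
  intro w
  apply Subtype.ext
  rw [← jW_apply L, ← jW_apply L, hgh]

/-- restriction of a linear similitude -/
noncomputable def rs (M : SS B) (hl : M.IsLin) (hW : ∀ v ∈ W, M v ∈ W) : W ≃ₗ[F] W :=
  LinearEquiv.ofInjectiveEndo ((hl.lin : V →ₗ[F] V).restrict hW) (by
    intro a b h
    apply Subtype.ext
    exact M.injective (congrArg Subtype.val h))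

theorem rs_apply (M : SS B) (hl : M.IsLin) (hW : ∀ v ∈ W, M v ∈ W) (w : W) :
    ((rs M hl hW w : W) : V) = M w := rfl

theorem cj_jW [Finite F] (L : LP B W W') (M : SS B) (hl : M.IsLin) (hW : ∀ v ∈ W, M v ∈ W)
    (hW' : ∀ v ∈ W', M v ∈ W') (g : W ≃ₗ[F] W) :
    SS.cj M (jW L g) = jW L (rs M hl hW * g * (rs M hl hW)⁻¹) := by
  have hfV : Finite V := Module.finite_of_finite F
  have h1 : ∀ w ∈ W, ∃ w0 : W, w = M w0 := by
    intro w hw
    obtain ⟨w0, hw0⟩ := (rs M hl hW).surjective ⟨w, hw⟩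
    exact ⟨w0, by rw [← rs_apply M hl hW, hw0]⟩
  apply uniq L
  · intro w hw
    obtain ⟨w0, rfl⟩ := h1 w hw
    rw [SS.cj_apply]
    exact hW _ (jW_mem L g w0.2)
  · intro w hw
    obtain ⟨w0, rfl⟩ := h1 w hw
    rw [SS.cj_apply, jW_apply, ← rs_apply M hl hW, ← rs_apply M hl hW, jW_apply]
    congr 1
    show _ = rs M hl hW (g ((rs M hl hW).symm (rs M hl hW w0)))
    rw [LinearEquiv.symm_apply_apply]
  · intro v hv
    obtain ⟨v0, rfl⟩ := M.surjective v
    rw [SS.cj_apply]
    exact hW' _ (jW_mem' L g (M.mem_of_mem W' hW' hv))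
  · intro v hv
    exact jW_mem' L _ hv

omit [FiniteDimensional F V] in
/-- scalar on `W`: the action on `W'` -/
theorem scal' (L : LP B W W') (M : SS B) (hl : M.IsLin) (hW' : ∀ v ∈ W', M v ∈ W') {a : F} (ha : a ≠ 0)
    (hs : ∀ v ∈ W, M v = a • v) : ∀ v ∈ W', M v = (M.l * a⁻¹) • v := by
  intro v hv
  rw [← sub_eq_zero]
  apply L.zero' (W'.sub_mem (hW' v hv) (W'.smul_mem _ hv))
  intro w hw
  have h1 := hl.form w v
  rw [hs w hw, LinearMap.map_smul₂, smul_eq_mul] at h1
  rw [_root_.map_sub, _root_.map_smul, smul_eq_mul]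
  have h2 : B w (M v) = a⁻¹ * (a * B w (M v)) := by rw [inv_mul_cancel_left₀ ha]
  rw [h2, h1]
  ring

omit [FiniteDimensional F V] in
theorem ne_of_not_scal (L : LP B W W') (M : SS B) (hl : M.IsLin) (hW' : ∀ v ∈ W', M v ∈ W') {a : F} (ha : a ≠ 0)
    (hs : ∀ v ∈ W, M v = a • v) (hM : ¬ M.IsScal) : a * a ≠ M.l := by
  intro h
  apply hM
  refine ⟨a, ha, fun v => ?_⟩
  obtain ⟨c, hc, d, hd, rfl⟩ := L.dec v
  rw [M.map_add, hs c hc, scal' L M hl hW' ha hs d hd, ← h, mul_assoc, mul_inv_cancel₀ ha, mul_one, smul_add]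

theorem cj_of_scalOn (L : LP B W W') (M : SS B) (hl : M.IsLin) (hW' : ∀ v ∈ W', M v ∈ W')
    (hs : M.ScalOn W) (g : W ≃ₗ[F] W) : SS.cj M (jW L g) = jW L g := by
  obtain ⟨a, ha, hs⟩ := hs
  have h' := scal' L M hl hW' ha hs
  apply SS.cj_eq
  intro v
  obtain ⟨c, hc, d, hd, rfl⟩ := L.dec v
  rw [M.map_add, map_add, map_add, M.map_add, hs c hc, h' d hd, hs _ (jW_mem L g hc), h' _ (jW_mem' L g hd),
    map_smul, map_smul]

/-- a map commuting with `SL(W)` is a scalar on `W` -/
theorem scalOn_of_comm (L : LP B W W') (M : SS B) (hl : M.IsLin) (hW : ∀ v ∈ W, M v ∈ W)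
    (hn : 2 ≤ finrank F W)
    (hc : ∀ g : SpecialLinearGroup F W, ∀ v, M ((jW L g.1).1 v) = (jW L g.1).1 (M v)) : M.ScalOn W := by
  have h1 : ∀ w : W, ∃ c : F, (rs M hl hW : W ≃ₗ[F] W).toLinearMap.toAddMonoidHom w = c • w := by
    intro w
    obtain ⟨f, hf, hfw⟩ := Submodule.exists_le_ker_of_lt_top (Submodule.span F {w}) (by
      rw [lt_top_iff_ne_top]
      intro h
      have h2 := finrank_span_le_card (R := F) ({w} : Set W)
      rw [h, finrank_top] at h2
      simp at h2
      omega)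
    have hw : f w = 0 := hfw (Submodule.mem_span_singleton_self w)
    obtain ⟨v, hv⟩ : ∃ v, f v ≠ 0 := by
      by_contra hno
      push Not at hno
      exact hf (LinearMap.ext hno)
    have h2 := hc ⟨LinearEquiv.transvection hw, LinearEquiv.transvection.det_eq_one hw⟩ v
    have h3 : M (v : V) = ((rs M hl hW v : W) : V) := rfl
    rw [h3, jW_apply, jW_apply] at h2
    have h4 : rs M hl hW (LinearEquiv.transvection hw v) = LinearEquiv.transvection hw (rs M hl hW v) :=
      Subtype.ext h2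
    rw [LinearEquiv.transvection.apply, LinearEquiv.transvection.apply, map_add, add_right_inj, map_smul] at h4
    refine ⟨(f v)⁻¹ * f (rs M hl hW v), ?_⟩
    rw [mul_smul, ← h4, smul_smul, inv_mul_cancel₀ hv, one_smul]
    rfl
  obtain ⟨c, hc'⟩ := scal_of_lines hn _ h1
  refine ⟨c, ?_, fun v hv => ?_⟩
  · rintro rfl
    have : Nontrivial W := Module.nontrivial_of_finrank_pos (R := F) (by omega)
    obtain ⟨w, hw⟩ := exists_ne (0 : W)
    apply hw
    apply (rs M hl hW).injective
    have h3 := hc' w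
    rw [zero_smul] at h3
    rw [map_zero]
    exact h3
  · exact congrArg Subtype.val (hc' ⟨v, hv⟩)

end lag

section sl

variable {F W : Type} [Field F] [AddCommGroup W] [Module F W] [FiniteDimensional F W]

theorem exists_slE {n : ℕ} (hn : finrank F W = n) :
    Nonempty (Matrix.SpecialLinearGroup (Fin n) F ≃* SpecialLinearGroup F W) :=
  ⟨Matrix.SpecialLinearGroup.toLin_equiv (finBasisOfFinrankEq F W hn)⟩

omit [FiniteDimensional F W] in
theorem exists_diag {n : ℕ} (b : Basis (Fin n) F W) (d : Fin n → F) (hd : ∏ i, d i = 1) :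
    ∃ g : SpecialLinearGroup F W, ∀ i, g.1 (b i) = d i • b i := by
  refine ⟨Matrix.SpecialLinearGroup.toLin_equiv b ⟨Matrix.diagonal d, by rw [Matrix.det_diagonal, hd]⟩, fun i => ?_⟩
  have h1 := congrArg (fun f : W →ₗ[F] W => f (b i)) (Matrix.SpecialLinearGroup.toLin_equiv.toLinearMap_eq b
    ⟨Matrix.diagonal d, by rw [Matrix.det_diagonal, hd]⟩)
  refine h1.trans ?_
  show Matrix.toLin b b (Matrix.diagonal d) (b i) = _
  rw [Matrix.toLin_self, Finset.sum_eq_single i]
  · rw [Matrix.diagonal_apply_eq]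
  · intro j _ hj
    rw [Matrix.diagonal_apply_ne _ hj, zero_smul]
  · intro h
    exact absurd (Finset.mem_univ i) h

variable [Finite F]

theorem perfect_SL (h : (2 ≤ finrank F W ∧ 3 < Nat.card F) ∨ 3 ≤ finrank F W) :
    commutator (SpecialLinearGroup F W) = ⊤ := by
  have : Fintype F := Fintype.ofFinite F
  obtain ⟨e⟩ := exists_slE (F := F) (W := W) rfl
  have h1 : commutator (Matrix.SpecialLinearGroup (Fin (finrank F W)) F) = ⊤ := by
    by_cases h3 : 3 ≤ finrank F W
    · exact Cfsg.Agent.LieClassical.SLGen.commutator_eq_top (by rwa [Fintype.card_fin])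
    · have h2 : finrank F W = 2 := by omega
      rw [h2]
      apply Cfsg.Agent.TwoFusion.SLTwoFacts.commutator_eq_top
      rw [← Nat.card_eq_fintype_card]
      omega
  have h2 := Subgroup.map_commutator (⊤ : Subgroup (Matrix.SpecialLinearGroup (Fin (finrank F W)) F)) ⊤
    e.toMonoidHom
  rw [← commutator_def, h1, ← MonoidHom.range_eq_map, MonoidHom.range_eq_top.2 e.surjective] at h2
  exact h2.symm

theorem simple_SL (h : (2 ≤ finrank F W ∧ 3 < Nat.card F) ∨ 3 ≤ finrank F W) :
    IsSimpleGroup (SpecialLinearGroup F W ⧸ Subgroup.center (SpecialLinearGroup F W)) := by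
  have : Fintype F := Fintype.ofFinite F
  obtain ⟨e⟩ := exists_slE (F := F) (W := W) rfl
  have e2 := Cfsg.Agent.LieClassical.FieldTransfer.centralQuotientCongr e
  apply isSimple_cgr0 e2
  show IsSimpleGroup (Matrix.ProjectiveSpecialLinearGroup (Fin (finrank F W)) F)
  by_cases h3 : 3 ≤ finrank F W
  · exact S0249.result _ h3
  · have h2 : finrank F W = 2 := by omega
    rw [h2]
    apply Matrix.ProjectiveSpecialLinearGroup.rank_two_simple
    omega

theorem ncomm_SL (h : (2 ≤ finrank F W ∧ 3 < Nat.card F) ∨ 3 ≤ finrank F W) :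
    ¬ IsMulCommutative (SpecialLinearGroup F W ⧸ Subgroup.center (SpecialLinearGroup F W)) := by
  intro hc
  have hs := simple_SL h
  have hp := perfect_SL h
  have : Nontrivial (SpecialLinearGroup F W ⧸ Subgroup.center (SpecialLinearGroup F W)) := hs.toNontrivial
  have h1 : commutator (SpecialLinearGroup F W) ≤ Subgroup.center (SpecialLinearGroup F W) := by
    rw [commutator_def, Subgroup.commutator_le]
    intro a _ b _
    rw [← QuotientGroup.eq_one_iff]
    have h2 : (QuotientGroup.mk a : SpecialLinearGroup F W ⧸ Subgroup.center (SpecialLinearGroup F W)) *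
        QuotientGroup.mk b = QuotientGroup.mk b * QuotientGroup.mk a := hc.is_comm.comm _ _
    rw [commutatorElement_def, QuotientGroup.mk_mul, QuotientGroup.mk_mul, QuotientGroup.mk_mul, h2]
    simp only [_root_.QuotientGroup.mk_inv, _root_.mul_inv_cancel_right, _root_.mul_inv_cancel]
  rw [hp] at h1
  have h3 : (Subgroup.center (SpecialLinearGroup F W)) = ⊤ := top_le_iff.1 h1
  have h4 : Subsingleton (SpecialLinearGroup F W ⧸ Subgroup.center (SpecialLinearGroup F W)) := by
    rw [h3]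
    exact QuotientGroup.subsingleton_quotient_top
  exact not_subsingleton _ h4

end sl

section mrule

/-- M-rule for a homomorphism with central kernel, only one member acts nontrivially -/
theorem mrule_hom {G Ω X ι : Type*} [Group G] [MulAction G Ω] [Group X] [Finite ι] (f : X →* G)
    (hker : ∀ s, f s = 1 → s ∈ Subgroup.center X) (hperf : commutator X = ⊤)
    (h1 : IsSimpleGroup (X ⧸ Subgroup.center X)) (h2 : ¬ IsMulCommutative (X ⧸ Subgroup.center X))
    {x : ι → G} {r : ι → ℕ} (hx : PF x r) (hcov : Cov Ω x) (i₀ : ι)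
    (hnorm : ∀ s : X, ∃ s', x i₀ * f s * (x i₀)⁻¹ = f s')
    (hcen : ∀ i, i ≠ i₀ → ∀ s, x i * f s = f s * x i) (ω : Ω) :
    (∀ s, f s • ω = ω) ∨ ∃ i, (∀ s, x i * f s = f s * x i) ∧ x i • ω = ω := by
  set K : Subgroup G := f.range with hK
  have hKperf : ⁅K, K⁆ = K := by
    have h3 := Subgroup.map_commutator (⊤ : Subgroup X) ⊤ f
    rw [← commutator_def, hperf, ← MonoidHom.range_eq_map] at h3
    exact h3.symm
  have hlift : ∀ m : K, ∃ s, f s = m := fun m => m.2
  let π : K →* X ⧸ Subgroup.center X :=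
    { toFun := fun m => QuotientGroup.mk (hlift m).choose
      map_one' := by
        rw [QuotientGroup.eq_one_iff]
        exact hker _ (hlift 1).choose_spec
      map_mul' := fun m n => by
        rw [← QuotientGroup.mk_mul, QuotientGroup.eq]
        apply hker
        rw [map_mul, map_inv, map_mul, (hlift _).choose_spec, (hlift _).choose_spec, (hlift _).choose_spec]
        rw [Subgroup.coe_mul]
        group }
  have hπ : ∀ s, π ⟨f s, s, rfl⟩ = QuotientGroup.mk s := by
    intro s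
    show QuotientGroup.mk (hlift ⟨f s, s, rfl⟩).choose = _
    rw [QuotientGroup.eq]
    apply hker
    rw [map_mul, map_inv, (hlift _).choose_spec, inv_mul_cancel]
  have hπs : Function.Surjective π := by
    intro y
    obtain ⟨s, rfl⟩ := QuotientGroup.mk_surjective y
    exact ⟨_, hπ s⟩
  have hπk : π.ker ≤ Subgroup.center K := by
    rintro ⟨_, s, rfl⟩ hs
    rw [MonoidHom.mem_ker] at hs
    rw [hπ, QuotientGroup.eq_one_iff] at hs
    rw [Subgroup.mem_center_iff]
    rintro ⟨_, t, rfl⟩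
    apply Subtype.ext
    show f t * f s = f s * f t
    rw [← map_mul, ← map_mul, Subgroup.mem_center_iff.1 hs]
  have hnK : x i₀ ∈ Subgroup.normalizer (K : Set G) := by
    have h3 : ∀ m ∈ K, x i₀ * m * (x i₀)⁻¹ ∈ K := by
      rintro _ ⟨s, rfl⟩
      obtain ⟨s', hs'⟩ := hnorm s
      exact ⟨s', hs'.symm⟩
    rw [Subgroup.mem_normalizer_iff]
    intro m
    refine ⟨fun hm => h3 m hm, fun hm => ?_⟩
    have h4 : ∀ n : ℕ, x i₀ ^ n * (x i₀ * m * (x i₀)⁻¹) * (x i₀ ^ n)⁻¹ ∈ K := by
      intro n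
      induction n with
      | zero => simpa only [_root_.pow_zero, _root_.one_mul, _root_.inv_one, _root_.mul_one] using hm
      | succ n ih =>
        have h5 := h3 _ ih
        have h6 : x i₀ * (x i₀ ^ n * (x i₀ * m * (x i₀)⁻¹) * (x i₀ ^ n)⁻¹) * (x i₀)⁻¹ =
            x i₀ ^ (n + 1) * (x i₀ * m * (x i₀)⁻¹) * (x i₀ ^ (n + 1))⁻¹ := by
          rw [pow_succ']
          group
        rwa [h6] at h5
    obtain ⟨n, hn⟩ : ∃ n, r i₀ = n + 1 := ⟨r i₀ - 1, by have := (hx.prime i₀).pos; omega⟩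
    have h4 := h4 n
    have h5 : x i₀ ^ n = (x i₀)⁻¹ := by
      rw [eq_inv_iff_mul_eq_one, ← pow_succ, ← hn]
      exact hx.pow i₀
    rw [h5] at h4
    have h6 : (x i₀)⁻¹ * (x i₀ * m * (x i₀)⁻¹) * ((x i₀)⁻¹)⁻¹ = m := by group
    rwa [h6] at h4
  have h3 := mrule_one h1 h2 x r hx.prime hx.inj hx.pow hx.comm K hKperf π hπs hπk i₀ hnK
    (fun i hi m hm => by
      obtain ⟨s, rfl⟩ := hm
      exact hcen i hi s) ω (fun m _ => hcov _)
  rcases h3 with h3 | ⟨i, h3, h4⟩
  · exact Or.inl fun s => h3 ⟨s, rfl⟩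
  · exact Or.inr ⟨i, fun s => h3 _ ⟨s, rfl⟩, h4⟩

end mrule

section fin

variable {F : Type} {V : Type} [Field F] [Finite F] [AddCommGroup V] [Module F V] [FiniteDimensional F V]
  {B : LinearMap.BilinForm F V} {G : Type} [Group G] [Finite G] {Ω : Type} [Finite Ω] [Nonempty Ω] [MulAction G Ω]
  {N : Subgroup G} {ρ : ↥(Sp B) →* G} {ι : Type} [Finite ι] {x : ι → G} {r : ι → ℕ} {M : ι → SS B}

/-- the symmetric square map of two vectors -/
def sq (B : LinearMap.BilinForm F V) (w w' : V) : V →ₗ[F] V :=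
  (B.flip w).smulRight w' + (B.flip w').smulRight w

omit [Finite F] [FiniteDimensional F V] in
theorem sq_apply (w w' v : V) : sq B w w' v = B v w • w' + B v w' • w := rfl

/-- the one parameter group `1 + c • sq w w'` -/
def us (h : NAlt B) {w w' : V} (hw : B w w' = 0) (c : F) : Sp B :=
  ⟨{ toFun := fun v => v + c • sq B w w' v
     invFun := fun v => v - c • sq B w w' v
     left_inv := fun v => by
      have h0 : sq B w w' (sq B w w' v) = 0 := by
        simp only [sq_apply, map_add, map_smul, h.alt, h.swap0 hw, hw]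
        simp
      simp only [map_add, map_smul, h0]
      simp
     right_inv := fun v => by
      have h0 : sq B w w' (sq B w w' v) = 0 := by
        simp only [sq_apply, map_add, map_smul, h.alt, h.swap0 hw, hw]
        simp
      simp only [map_sub, map_smul, h0]
      simp
     map_add' := fun u v => by
      rw [map_add, smul_add]
      abel
     map_smul' := fun a v => by
      rw [map_smul, RingHom.id_apply, smul_add, smul_comm] }, by
    intro u v
    show B (u + c • sq B w w' u) (v + c • sq B w w' v) = B u v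
    simp only [sq_apply, map_add, LinearMap.add_apply, map_smul, LinearMap.smul_apply, smul_eq_mul, h.alt, hw,
      h.swap0 hw, mul_zero, add_zero]
    rw [h.swap w v, h.swap w' v]
    ring⟩

omit [Finite F] [FiniteDimensional F V] in
theorem us_apply (h : NAlt B) {w w' : V} (hw : B w w' = 0) (c : F) (v : V) :
    (us h hw c).1 v = v + c • sq B w w' v := rfl

omit [FiniteDimensional F V] [Finite Ω] in
/-- the line rule with the root group of two vectors -/
theorem dead_pair (E : SpEnv Ω N ρ) (hc : ∀ i j, x i * x j = x j * x i) (hM : ∀ i, Lf ρ (x i) (M i))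
    (hl : ∀ i, (M i).IsLin) (hcov : Cov Ω x) {w w' : V} (hw : B w w' = 0) (h0 : sq B w w' ≠ 0)
    (hs : ∀ i, ∃ a a' : F, a ≠ 0 ∧ a' ≠ 0 ∧ M i w = a • w ∧ M i w' = a' • w' ∧ a * a' ≠ (M i).l) : False := by
  have h1 := E.form.alt w
  have h2 := E.form.alt w'
  have h3 := E.form.swap0 hw
  have key : ∀ i, ∃ k : F, k ≠ 1 ∧ ∀ v, M i (sq B w w' v) = k • sq B w w' (M i v) := by
    intro i
    obtain ⟨a, a', ha, ha', hw1, hw2, hne⟩ := hs i
    refine ⟨a * a' * (M i).l⁻¹, ?_, fun v => ?_⟩
    · intro h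
      apply hne
      rw [mul_inv_eq_one₀ (M i).hl] at h
      exact h
    · have h4 := (hl i).form v w
      have h5 := (hl i).form v w'
      rw [hw1, _root_.map_smul, smul_eq_mul] at h4
      rw [hw2, _root_.map_smul, smul_eq_mul] at h5
      have h6 : B (M i v) w = a⁻¹ * ((M i).l * B v w) := by rw [← h4, inv_mul_cancel_left₀ ha]
      have h7 : B (M i v) w' = a'⁻¹ * ((M i).l * B v w') := by rw [← h5, inv_mul_cancel_left₀ ha']
      rw [sq_apply, sq_apply, (M i).map_add, (hl i).map_smul, (hl i).map_smul, hw1, hw2, h6, h7, smul_add,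
        smul_smul, smul_smul, smul_smul, smul_smul]
      have hl0 := (M i).hl
      congr 2 <;> field_simp
  choose k hk1 hk using key
  refine Cfsg.Agent.H579.RC.line_rule E.env (R := F) (a := fun c => ρ (us E.form hw c)) (ν := k) hc hcov ?_ ?_
    hk1 ?_
  · intro c d
    rw [← map_mul]
    congr 1
    apply Subtype.ext
    apply LinearEquiv.ext
    intro v
    show (us E.form hw (c + d)).1 v = (us E.form hw c).1 ((us E.form hw d).1 v)
    have h4 : sq B w w' (sq B w w' v) = 0 := by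
      simp only [sq_apply, map_add, _root_.map_smul, h1, h2, h3, hw]
      simp
    rw [us_apply, us_apply, us_apply, map_add, _root_.map_smul, h4, smul_zero, add_zero, add_smul]
    abel
  · refine ⟨1, fun h => ?_⟩
    obtain ⟨a, ha⟩ := (E.ker (us E.form hw 1)).1 h
    apply h0
    -- `v + S v = a v` for all `v`, with `v` in the kernel
    have h4 : ∀ v, sq B w w' v = (a - 1) • v := by
      intro v
      have h5 := ha v
      rw [us_apply, one_smul] at h5
      rw [sub_smul, one_smul, ← h5, add_sub_cancel_left]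
    have h5 : ∀ v : V, ((a - 1) * (a - 1)) • v = 0 := by
      intro v
      have h6 : sq B w w' (sq B w w' v) = 0 := by
        simp only [sq_apply, map_add, _root_.map_smul, h1, h2, h3, hw]
        simp
      rw [h4, h4, smul_smul] at h6
      exact h6
    apply LinearMap.ext
    intro v
    rw [h4, LinearMap.zero_apply]
    rcases smul_eq_zero.1 (h5 v) with h6 | h6
    · rw [mul_self_eq_zero.1 h6, zero_smul]
    · rw [h6, smul_zero]
  · intro i c
    show x i * ρ (us E.form hw c) * (x i)⁻¹ = ρ (us E.form hw (k i * c))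
    rw [hM i]
    congr 1
    apply SS.cj_eq
    intro v
    rw [us_apply, us_apply, (M i).map_add, (hl i).map_smul, hk, smul_smul, mul_comm]

omit [Finite F] [FiniteDimensional F V] in
theorem sq_ne (h : NAlt B) {w w' : V} (hw : w ≠ 0) (h2 : (2 : F) ≠ 0)
    (hi : w = w' ∨ ∀ a b : F, a • w + b • w' = 0 → b = 0) : sq B w w' ≠ 0 := by
  intro h0
  apply hw
  apply h.nd'
  intro v
  have h1 := congrArg (fun f : V →ₗ[F] V => f v) h0
  change sq B w w' v = 0 at h1
  rw [sq_apply] at h1
  rcases hi with rfl | hi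
  · rw [← add_smul, ← two_mul] at h1
    rcases smul_eq_zero.1 h1 with h3 | h3
    · rcases mul_eq_zero.1 h3 with h4 | h4
      · exact absurd h4 h2
      · exact h4
    · exact absurd h3 hw
  · rw [add_comm] at h1
    exact hi _ _ h1

/-- the special linear group of `W` in `Sp B` -/
noncomputable def jS {W W' : Submodule F V} (L : LP B W W') : SpecialLinearGroup F W →* Sp B where
  toFun g := jW L g.1
  map_one' := map_one (jW L)
  map_mul' g h := map_mul (jW L) g.1 h.1

omit [Finite F] in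
theorem jS_inj {W W' : Submodule F V} (L : LP B W W') : Function.Injective (jS L) := by
  intro g h hgh
  exact Subtype.ext (jW_inj L hgh)

theorem dead_D (E : SpEnv Ω N ρ) (h2 : (2 : F) ≠ 0) (hx : PF x r) (hcov : Cov Ω x) (hM : ∀ i, Lf ρ (x i) (M i))
    (hl : ∀ i, (M i).IsLin) {W W' : Submodule F V} (hW : IsCompl W W') (ht : ∀ u ∈ W, ∀ v ∈ W, B u v = 0)
    (ht' : ∀ u ∈ W', ∀ v ∈ W', B u v = 0) (hi : ∀ i, ∀ v ∈ W, M i v ∈ W) (hi' : ∀ i, ∀ v ∈ W', M i v ∈ W')
    (hs : ∀ i j, ¬ (M i).ScalOn W → ¬ (M j).ScalOn W → i = j)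
    (hex : ¬ (Nat.card F = 3 ∧ finrank F V = 4)) : False := by
  classical
  have L : LP B W W' := ⟨E.form, hW, ht, ht'⟩
  have hd := E.dim
  have hn2 := L.finrank_two
  have hn : 2 ≤ finrank F W := by omega
  have hq3 : 3 ≤ Nat.card F := by
    have : Fintype F := Fintype.ofFinite F
    rw [Nat.card_eq_fintype_card]
    have h3 : ({0, 1, -1} : Finset F).card = 3 := by
      rw [Finset.card_insert_of_notMem, Finset.card_insert_of_notMem, Finset.card_singleton]
      · rw [Finset.mem_singleton]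
        intro h
        apply h2
        linear_combination h
      · simp only [_root_.Finset.mem_insert, _root_.zero_ne_one, _root_.Finset.mem_singleton, _root_.zero_eq_neg, _root_.one_ne_zero, _root_.or_self, _root_.not_false_eq_true]
    have h4 := Finset.card_le_univ ({0, 1, -1} : Finset F)
    omega
  have hgood : (2 ≤ finrank F W ∧ 3 < Nat.card F) ∨ 3 ≤ finrank F W := by
    by_cases h3 : 3 < Nat.card F
    · exact Or.inl ⟨hn, h3⟩
    · right
      by_contra h4
      exact hex ⟨by omega, by omega⟩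
  have hns : ∀ i, ¬ (M i).IsScal := fun i h => hx.ne i ((E.eq_one_iff (hM i)).2 h)
  have hWnt : Nontrivial W := Module.nontrivial_of_finrank_pos (R := F) (by omega)
  by_cases hall : ∀ i, (M i).ScalOn W
  · obtain ⟨w, hw⟩ := exists_ne (0 : W)
    have hw' : (w : V) ≠ 0 := fun h => hw (Subtype.ext h)
    refine dead_pair E hx.comm hM hl hcov (ht w w.2 w w.2) (sq_ne E.form hw' h2 (Or.inl rfl)) ?_
    intro i
    obtain ⟨a, ha, hs⟩ := hall i
    exact ⟨a, a, ha, ha, hs w w.2, hs w w.2, ne_of_not_scal L (M i) (hl i) (hi' i) ha hs (hns i)⟩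
  -- there is a member which is not a scalar on `W`
  push Not at hall
  obtain ⟨i₀, hi₀⟩ := hall
  have hother : ∀ i, i ≠ i₀ → (M i).ScalOn W := by
    intro i hne
    by_contra hc
    exact hne (hs i i₀ hc hi₀)
  have hperf := perfect_SL (F := F) (W := W) hgood
  -- the homomorphism
  have hcent : ∀ i, i ≠ i₀ → ∀ s, x i * (ρ.comp (jS L)) s = (ρ.comp (jS L)) s * x i := by
    intro i hne s
    have h3 := hM i (jS L s)
    have h4 : SS.cj (M i) (jS L s) = jS L s := cj_of_scalOn L (M i) (hl i) (hi' i) (hother i hne) s.1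
    rw [h4] at h3
    exact mul_inv_eq_iff_eq_mul.1 h3
  have hnc : ¬ ∀ s, x i₀ * (ρ.comp (jS L)) s = (ρ.comp (jS L)) s * x i₀ := by
    intro h
    have h3 := (E.cent_iff (hM i₀) (jS L) hperf).1 h
    exact hi₀ (scalOn_of_comm L (M i₀) (hl i₀) (hi i₀) hn (fun g v => h3 g v))
  have hmr := fun ω : Ω => mrule_hom (ρ.comp (jS L)) (by
      intro s h
      rw [Subgroup.mem_center_iff]
      intro t
      apply jS_inj L
      rw [map_mul, map_mul]
      exact scal_central ((E.ker _).1 h) (jS L t)) hperf (simple_SL hgood) (ncomm_SL hgood) hx hcov i₀ (by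
      intro s
      refine ⟨⟨rs (M i₀) (hl i₀) (hi i₀) * s.1 * (rs (M i₀) (hl i₀) (hi i₀))⁻¹, ?_⟩, ?_⟩
      · rw [map_mul, map_mul, s.2, mul_one, ← map_mul, mul_inv_cancel, map_one]
      · have h3 := hM i₀ (jS L s)
        have h4 : SS.cj (M i₀) (jS L s) = _ := cj_jW L (M i₀) (hl i₀) (hi i₀) (hi' i₀) s.1
        rw [h4] at h3
        exact h3) hcent ω
  -- the element `y`
  obtain ⟨y, w, w', a, a', hw0, hww, hyw, hyw', ha, ha', hne⟩ : ∃ (y : SpecialLinearGroup F W) (w w' : W)
      (a a' : F), (w : V) ≠ 0 ∧ ((w : V) = w' ∨ ∀ a b : F, a • (w : V) + b • (w' : V) = 0 → b = 0) ∧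
      y.1 w = a • w ∧ y.1 w' = a' • w' ∧ a ≠ 0 ∧ a' ≠ 0 ∧ a * a' ≠ 1 := by
    have : Fintype F := Fintype.ofFinite F
    let b : Basis (Fin (finrank F W)) F W := finBasis F W
    let i0 : Fin (finrank F W) := ⟨0, by omega⟩
    let i1 : Fin (finrank F W) := ⟨1, by omega⟩
    have h01 : i0 ≠ i1 := by
      intro h
      have := congrArg Fin.val h
      simp [i0, i1] at this
    have hex : ∀ c : F, c ≠ 0 → ∃ y : SpecialLinearGroup F W, (y.1 (b i0) = c • b i0) ∧
        (∀ i, i ≠ i0 → i ≠ i1 → y.1 (b i) = (1 : F) • b i) := by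
      intro c hc
      have hprod : ∏ i, (fun i => (if i = i0 then c else 1) * (if i = i1 then c⁻¹ else 1) :
          Fin (finrank F W) → F) i = 1 := by
        rw [Finset.prod_mul_distrib, Finset.prod_ite_eq', Finset.prod_ite_eq']
        simp only [hc, _root_.Finset.mem_univ, ↓ _root_.reduceIte, _root_.ne_eq, _root_.not_false_eq_true, _root_.mul_inv_cancel₀]
      obtain ⟨y, hy⟩ := exists_diag b (fun i => (if i = i0 then c else 1) * (if i = i1 then c⁻¹ else 1)) hprod
      refine ⟨y, ?_, ?_⟩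
      · rw [hy]
        simp [h01]
      · intro i hi0 hi1
        rw [hy]
        simp [hi0, hi1]
    have hb0 : ((b i0 : W) : V) ≠ 0 := fun h => b.ne_zero i0 (Subtype.ext h)
    by_cases h3 : 3 ≤ finrank F W
    · obtain ⟨y, hy1, hy2⟩ := hex (-1) (by simp)
      let i2 : Fin (finrank F W) := ⟨2, by omega⟩
      have h02 : i0 ≠ i2 := by
        intro h
        have := congrArg Fin.val h
        simp [i0, i2] at this
      have h12 : i1 ≠ i2 := by
        intro h
        have := congrArg Fin.val h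
        simp [i1, i2] at this
      refine ⟨y, b i0, b i2, -1, 1, hb0, Or.inr ?_, hy1, hy2 i2 h02.symm h12.symm, by simp, one_ne_zero, ?_⟩
      · intro c d hcd
        have h4 : c • b i0 + d • b i2 = 0 := Subtype.ext hcd
        have h5 := congrArg (fun z => b.repr z i2) h4
        simpa [h02, Finsupp.single_apply] using h5
      · intro h
        apply h2
        linear_combination -h
    · obtain ⟨c, hc0, hc1⟩ : ∃ c : F, c ≠ 0 ∧ c * c ≠ 1 := by
        by_contra hno
        push Not at hno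
        have h4 : (Finset.univ : Finset F) ⊆ {0, 1, -1} := by
          intro c _
          by_cases hc : c = 0
          · simp only [hc, _root_.Finset.mem_insert, _root_.zero_ne_one, _root_.Finset.mem_singleton, _root_.zero_eq_neg, _root_.one_ne_zero, _root_.or_self, _root_.or_false]
          · have h5 := hno c hc
            have h6 : (c - 1) * (c + 1) = 0 := by linear_combination h5
            rcases mul_eq_zero.1 h6 with h7 | h7
            · simp only [sub_eq_zero.1 h7, _root_.Finset.mem_insert, _root_.one_ne_zero, _root_.Finset.mem_singleton, _root_.true_or, _root_.or_true]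
            · simp only [eq_neg_of_add_eq_zero_left h7, _root_.Finset.mem_insert, _root_.neg_eq_zero, _root_.one_ne_zero, _root_.Finset.mem_singleton, _root_.or_true]
        have h5 := Finset.card_le_card h4
        have h6 : ({0, 1, -1} : Finset F).card ≤ 3 := Finset.card_le_three
        rw [Finset.card_univ, ← Nat.card_eq_fintype_card] at h5
        omega
      obtain ⟨y, hy1, hy2⟩ := hex c hc0
      exact ⟨y, b i0, b i0, c, c, hb0, Or.inl rfl, hy1, hy1, hc0, hc0, hc1⟩
  -- the new cover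
  have hfin : Finite (Option {i : ι // i ≠ i₀}) := inferInstance
  refine dead_pair (ι := Option {i : ι // i ≠ i₀}) (x := fun o => o.elim (ρ (jS L y)) fun i => x i)
    (M := fun o => o.elim (SS.tg (jS L y)) fun i => M i) E ?_ ?_ ?_ ?_ (ht w w.2 w' w'.2)
    (sq_ne E.form hw0 h2 hww) ?_
  · rintro (_ | i) (_ | j)
    · rfl
    · exact (hcent j j.2 y).symm
    · exact hcent i i.2 y
    · exact hx.comm i j
  · rintro (_ | i)
    · exact Lf.tg _
    · exact hM i
  · rintro (_ | i)
    · exact SS.tg_lin _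
    · exact hl i
  · intro ω
    rcases hmr ω with h | ⟨i, h, h'⟩
    · exact ⟨none, h y⟩
    · have hne : i ≠ i₀ := by
        rintro rfl
        exact hnc h
      exact ⟨some ⟨i, hne⟩, h'⟩
  · rintro (_ | i)
    · refine ⟨a, a', ha, ha', ?_, ?_, hne⟩
      · show (jW L y.1).1 (w : V) = _
        rw [jW_apply, hyw]
        rfl
      · show (jW L y.1).1 (w' : V) = _
        rw [jW_apply, hyw']
        rfl
    · obtain ⟨a, ha, hsc⟩ := hother i i.2
      exact ⟨a, a, ha, ha, hsc w w.2, hsc w' w'.2, ne_of_not_scal L (M i) (hl i) (hi' i) ha hsc (hns i)⟩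

end fin

end Cfsg.Agent.H686.RC.DD
end

-- part: H8/RC/Herm
section
/-!
# S3510, row D: the hermitian form of a symplectic form with a skew field generator (helper8)

`K / F` quadratic with conjugation `σ`, `t² = δ`, `σ t = -t`; `V` a `K`-space, `B (t u) v = - B u (t v)`.
`hf B t u v = B (t u) v + t * B u v` is a nondegenerate hermitian form over `K`.
-/

set_option autoImplicit false
set_option linter.unusedSectionVars false
open Cfsg

namespace Cfsg.Agent.H8.RC

open Module Cfsg.Agent.H749 Cfsg.Agent.H520.RC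

/-- a quadratic extension with a skew generator -/
structure Quad (F K : Type*) [Field F] [Field K] [Algebra F K] (σ : K →+* K) (t : K) : Prop where
  fix : ∀ a : F, σ (algebraMap F K a) = algebraMap F K a
  neg : σ t = -t
  dec : ∀ k : K, ∃ a b : F, k = algebraMap F K a + algebraMap F K b * t
  ind : ∀ a b : F, algebraMap F K a + algebraMap F K b * t = 0 → a = 0 ∧ b = 0
  sq : ∃ δ : F, t * t = algebraMap F K δ

variable {F K V : Type*} [Field F] [Field K] [Algebra F K] [AddCommGroup V] [Module F V] [Module K V]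
  [IsScalarTower F K V] {B : LinearMap.BilinForm F V} {σ : K →+* K} {t : K}

/-- the hermitian form -/
def hf (B : LinearMap.BilinForm F V) (t : K) (u v : V) : K := algebraMap F K (B (t • u) v) + t * algebraMap F K (B u v)

namespace Quad

theorem invol (hQ : Quad F K σ t) (k : K) : σ (σ k) = k := by
  obtain ⟨a, b, rfl⟩ := hQ.dec k
  rw [map_add, map_mul, hQ.fix, hQ.fix, hQ.neg, map_add, map_mul, map_neg, hQ.fix, hQ.fix, hQ.neg, neg_neg]

theorem t_ne (hQ : Quad F K σ t) : t ≠ 0 := by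
  intro h
  have h1 := hQ.ind 0 1 (by rw [h, map_zero, mul_zero, zero_add])
  exact one_ne_zero h1.2

theorem ne_id (hQ : Quad F K σ t) (h2 : (2 : F) ≠ 0) : σ ≠ RingHom.id K := by
  intro h
  have h1 := hQ.neg
  rw [h, RingHom.id_apply] at h1
  have h3 : (algebraMap F K 2) * t = 0 := by
    rw [map_ofNat]
    linear_combination h1
  rcases mul_eq_zero.1 h3 with h4 | h4
  · exact h2 ((map_eq_zero (algebraMap F K)).1 h4)
  · exact hQ.t_ne h4

/-- the elements fixed by `σ` -/
theorem mem_of_fix (hQ : Quad F K σ t) (h2 : (2 : F) ≠ 0) {k : K} (h : σ k = k) : ∃ a : F, k = algebraMap F K a := by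
  obtain ⟨a, b, rfl⟩ := hQ.dec k
  rw [map_add, map_mul, hQ.fix, hQ.fix, hQ.neg] at h
  have h3 : algebraMap F K 0 + algebraMap F K (2 * b) * t = 0 := by
    rw [map_zero, map_mul, map_ofNat]
    linear_combination -h
  have h4 := (hQ.ind _ _ h3).2
  rcases mul_eq_zero.1 h4 with h5 | h5
  · exact absurd h5 h2
  · exact ⟨a, by rw [h5, map_zero, zero_mul, add_zero]⟩

end Quad

theorem hf_add (u u' v : V) : hf B t (u + u') v = hf B t u v + hf B t u' v := by
  unfold hf
  rw [smul_add, map_add, map_add, LinearMap.add_apply, LinearMap.add_apply, map_add, map_add]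
  ring

theorem hf_fsmul (a : F) (u v : V) : hf B t (a • u) v = algebraMap F K a * hf B t u v := by
  unfold hf
  have h1 : t • a • u = a • t • u := by
    rw [← algebraMap_smul K a u, ← algebraMap_smul K a (t • u), smul_smul, smul_smul, mul_comm]
  rw [h1, LinearMap.map_smul B a (t • u), LinearMap.map_smul B a u, LinearMap.smul_apply, LinearMap.smul_apply,
    smul_eq_mul, smul_eq_mul, map_mul, map_mul]
  ring

theorem hf_tsmul (hQ : Quad F K σ t) (u v : V) : hf B t (t • u) v = t * hf B t u v := by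
  obtain ⟨δ, hδ⟩ := hQ.sq
  unfold hf
  rw [smul_smul, hδ, algebraMap_smul, LinearMap.map_smul B δ u, LinearMap.smul_apply, smul_eq_mul, map_mul]
  linear_combination (-(algebraMap F K (B u v))) * hδ

/-- **The hermitian form.** -/
theorem hermF (hB : NAlt B) (hQ : Quad F K σ t) (hs : ∀ u v : V, B (t • u) v = - B u (t • v)) :
    HermF σ (hf B t : V → V → K) where
  add := hf_add
  smul c u v := by
    obtain ⟨a, b, rfl⟩ := hQ.dec c
    rw [add_smul, mul_smul, hf_add, algebraMap_smul, algebraMap_smul, hf_fsmul, hf_fsmul, hf_tsmul hQ]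
    ring
  symm u v := by
    unfold hf
    rw [map_add, map_mul, hQ.fix, hQ.fix, hQ.neg, hs v u, hB.swap v (t • u), hB.swap v u, neg_neg, map_neg]
    ring
  nd u h := by
    refine hB.nd u fun v => ?_
    have h1 := h v
    unfold hf at h1
    rw [mul_comm] at h1
    exact (hQ.ind _ _ h1).2

/-- the components of the form -/
theorem eq_of_hf (hQ : Quad F K σ t) {u v u' v' : V} (h : hf B t u v = hf B t u' v') : B u v = B u' v' := by
  unfold hf at h
  have h1 : algebraMap F K (B (t • u) v - B (t • u') v') + algebraMap F K (B u v - B u' v') * t = 0 := by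
    rw [map_sub, map_sub]
    linear_combination h
  exact sub_eq_zero.1 (hQ.ind _ _ h1).2

/-- a `K`-linear isometry of the hermitian form is an isometry of `B` -/
def isoSp (hQ : Quad F K σ t) : Iso (hf B t : V → V → K) →* Sp B where
  toFun g := ⟨(g : V ≃ₗ[K] V).restrictScalars F, fun u v => eq_of_hf hQ (g.2 u v)⟩
  map_one' := rfl
  map_mul' _ _ := rfl

theorem isoSp_injective (hQ : Quad F K σ t) : Function.Injective (isoSp (B := B) (V := V) hQ) := by
  intro g g' h
  apply Subtype.ext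
  apply LinearEquiv.ext
  intro v
  exact congrArg (fun s : Sp B => s.1 v) h

end Cfsg.Agent.H8.RC
end

-- part: H8/RC/HermM
section
/-!
# S3510, row D: the M-rule for `SU(V)` inside `Sp(V)` (helper8)

* `exists_SU` : the embedding `SU n K q → Sp B`;
* `klin`, `conj_klin` : lifts commuting with `t` are `K`-linear and normalise `SU`;
* `scal_of_comm` : a `K`-linear map commuting with `SU` is a `K`-scalar.
-/

set_option autoImplicit false
set_option linter.unusedSectionVars false
open Cfsg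

namespace Cfsg.Agent.H8.RC

open Module MulAction Cfsg.Agent.H749 Cfsg.Agent.H520.RC Cfsg.Agent.H106.RC
open Cfsg.Agent.ClassicalGeometry.PSUAutBasic

variable {F K V : Type*} [Field F] [Field K] [Algebra F K] [AddCommGroup V] [Module F V] [Module K V]
  [IsScalarTower F K V] {B : LinearMap.BilinForm F V} {σ : K →+* K} {t : K}

/-- the determinant -/
noncomputable abbrev dt (g : V ≃ₗ[K] V) : K := LinearMap.det g.toLinearMap

section emb

variable [Fintype K] [FiniteDimensional K V] {q n : ℕ}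

/-- **The embedding of `SU`.** -/
theorem exists_SU (hB : NAlt B) (hQ : Quad F K σ t) (h2 : (2 : F) ≠ 0) (hs : ∀ u v : V, B (t • u) v = - B u (t • v))
    (hK : Fintype.card K = q ^ 2) (hn : finrank K V = n) :
    ∃ j : SU n K q →* Sp B, Function.Injective j ∧
      (∀ s, ∃ g : V ≃ₗ[K] V, g ∈ Iso (hf B t : V → V → K) ∧ dt g = 1 ∧ ∀ v, (j s).1 v = g v) ∧
      ∀ g : V ≃ₗ[K] V, g ∈ Iso (hf B t : V → V → K) → dt g = 1 → ∃ s, ∀ v, (j s).1 v = g v := by
  have hσ := H450.UF.sig_eq hK (hQ.ne_id h2) hQ.invol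
  have hH := hermF hB hQ hs
  obtain ⟨j, hj⟩ := hH.exists_iso (hQ.ne_id h2) hQ.invol hσ hn
  have hS : SimF j (hermForm n K q) (hf B t : V → V → K) 1 := ⟨one_ne_zero, fun x y => by rw [one_mul]; exact hj x y⟩
  refine ⟨(isoSp hQ).comp ((detKer (hf B t : V → V → K)).subtype.comp (slEquiv hS).toMonoidHom), ?_, ?_, ?_⟩
  · intro a b h
    apply (slEquiv hS).injective
    apply Subtype.ext
    exact isoSp_injective hQ h
  · intro s
    exact ⟨_, (slEquiv hS s).1.2, mem_detKer.1 (slEquiv hS s).2, fun v => rfl⟩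
  · intro g hg hd
    obtain ⟨s, hs'⟩ := (slEquiv hS).surjective ⟨⟨g, hg⟩, mem_detKer.2 hd⟩
    refine ⟨s, fun v => ?_⟩
    show (((slEquiv hS s : detKer (hf B t : V → V → K)) : Iso (hf B t : V → V → K)) : V ≃ₗ[K] V) v = g v
    rw [hs']

end emb

section klin

/-- a linear lift commuting with `t` -/
def klin (hQ : Quad F K σ t) (M : SS B) (hl : M.IsLin) (hc : ∀ v, M (t • v) = t • M v) : V ≃ₗ[K] V :=
  { M.f with
    map_smul' := fun c v => by
      obtain ⟨a, b, rfl⟩ := hQ.dec c
      show M _ = _ • M v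
      rw [RingHom.id_apply, add_smul, mul_smul, M.map_add, algebraMap_smul, algebraMap_smul, hl.map_smul,
        hl.map_smul, hc, add_smul, mul_smul, algebraMap_smul, algebraMap_smul] }

variable (hQ : Quad F K σ t) (M : SS B) (hl : M.IsLin) (hc : ∀ v, M (t • v) = t • M v)

include hl hc in
theorem hf_lift (u v : V) : hf B t (M u) (M v) = algebraMap F K M.l * hf B t u v := by
  unfold hf
  rw [← hc, hl.form, hl.form, map_mul, map_mul]
  ring

include hQ hl hc in
/-- conjugates of isometries -/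
theorem conj_klin {g : V ≃ₗ[K] V} (hg : g ∈ Iso (hf B t : V → V → K)) (hd : dt g = 1) :
    ∃ g' : V ≃ₗ[K] V, g' ∈ Iso (hf B t : V → V → K) ∧ dt g' = 1 ∧ ∀ v, g' (M v) = M (g v) := by
  let m := klin hQ M hl hc
  refine ⟨(m.symm.trans g).trans m, ?_, ?_, ?_⟩
  · intro u v
    obtain ⟨u, rfl⟩ := m.surjective u
    obtain ⟨v, rfl⟩ := m.surjective v
    show hf B t (M (g (m.symm (m u)))) (M (g (m.symm (m v)))) = hf B t (M u) (M v)
    rw [m.symm_apply_apply, m.symm_apply_apply, hf_lift M hl hc, hf_lift M hl hc, hg u v]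
  · have h := LinearMap.det_conj g.toLinearMap m
    exact h.trans hd
  · intro v
    show M (g (m.symm (m v))) = M (g v)
    rw [m.symm_apply_apply]

end klin

end Cfsg.Agent.H8.RC
end

-- part: H8/RC/HermG
section
/-!
# Hermitian forms: transvections, torus elements, maps commuting with the special unitary group (helper8)

* `exists_tau` : the unitary transvection;
* `scal_of_comm` : a linear map commuting with `SU` is a scalar;
* `exists_hyp` : a hyperbolic pair and (dimension at least 3) a unit vector orthogonal to it;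
* `exists_y` : an element of `SU` multiplying a singular vector by `a`, `σ a = a` or (dimension `≥ 3`) `σ a = -a`.
-/

set_option autoImplicit false
set_option linter.unusedSectionVars false

namespace Cfsg.Agent.H8.RC

open Module Cfsg.Agent.H749

section geo

variable {K V : Type*} [Field K] [AddCommGroup V] [Module K V] {σ : K →+* K} {b : V → V → K}

theorem bz_right (h : HermF σ b) (u : V) : b u 0 = 0 := by
  have h1 := h.smul 0 0 u
  rw [zero_smul, zero_mul] at h1
  rw [h.symm, h1, map_zero]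

theorem b_add_right (h : HermF σ b) (u v w : V) : b u (v + w) = b u v + b u w := by
  rw [h.symm, h.add, map_add, ← h.symm, ← h.symm]

theorem b_smul_right (h : HermF σ b) (c : K) (u v : V) : b u (c • v) = σ c * b u v := by
  rw [h.symm, h.smul, map_mul, ← h.symm]

/-- the form as a linear functional of the first variable -/
def bl (h : HermF σ b) (w : V) : Dual K V where
  toFun v := b v w
  map_add' u v := h.add u v w
  map_smul' c v := h.smul c v w

variable [FiniteDimensional K V]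

/-- the map `v ↦ v + c b(v, w) w` -/
theorem exists_dil (h : HermF σ b) (w : V) (c : K) (hc : c + σ c + c * σ c * b w w = 0)
    (hu : 1 + c * b w w ≠ 0) :
    ∃ g : V ≃ₗ[K] V, g ∈ Iso b ∧ LinearMap.det g.toLinearMap = 1 + c * b w w ∧ ∀ v, g v = v + (c * b v w) • w := by
  have hU : IsUnit (1 + (c • bl h w) w) := isUnit_iff_ne_zero.2 hu
  have hg : ∀ v, LinearEquiv.dilatransvection hU v = v + (c * b v w) • w := fun v =>
    LinearEquiv.dilatransvection.apply
  refine ⟨LinearEquiv.dilatransvection hU, ?_, ?_, hg⟩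
  · intro u v
    show b (LinearEquiv.dilatransvection hU u) (LinearEquiv.dilatransvection hU v) = b u v
    rw [hg, hg, h.add, b_add_right h, b_add_right h, h.smul, h.smul, b_smul_right h, b_smul_right h, map_mul,
      ← h.symm v w]
    linear_combination (b u w * b w v) * hc
  · rw [LinearEquiv.dilatransvection.coe_toLinearMap, LinearMap.transvection.det]
    rfl

/-- unitary transvections -/
theorem exists_tau (h : HermF σ b) {e : V} (he : b e e = 0) {c : K} (hc : σ c = -c) :
    ∃ g : V ≃ₗ[K] V, g ∈ Iso b ∧ LinearMap.det g.toLinearMap = 1 ∧ ∀ v, g v = v + (c * b v e) • e := by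
  obtain ⟨g, h1, h2, h3⟩ := exists_dil h e c (by rw [hc, he]; ring) (by rw [he, mul_zero, add_zero]; exact one_ne_zero)
  exact ⟨g, h1, by rw [h2, he, mul_zero, add_zero], h3⟩

/-- reflections -/
theorem exists_refl (h : HermF σ b) {w : V} (hw : b w w = 1) :
    ∃ g : V ≃ₗ[K] V, g ∈ Iso b ∧ LinearMap.det g.toLinearMap = -1 ∧ ∀ v, g v = v + (-2 * b v w) • w := by
  have hs : σ (-2) = -2 := by rw [map_neg, map_ofNat]
  have hu : (1 : K) + -2 * b w w ≠ 0 := by
    rw [hw]
    intro h0
    exact one_ne_zero (α := K) (by linear_combination -h0)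
  obtain ⟨g, h1, h2, h3⟩ := exists_dil h w (-2) (by rw [hs, hw]; ring) hu
  exact ⟨g, h1, by rw [h2, hw]; ring, h3⟩

/-- the torus -/
theorem exists_torus (h : HermF σ b) (hσ : ∀ a, σ (σ a) = a) (hne : σ ≠ RingHom.id K) {e f : V} (he : b e e = 0)
    (hf : b f f = 0) (hef : b e f = 1) {a : K} (ha : a ≠ 0) :
    ∃ g : V ≃ₗ[K] V, g ∈ Iso b ∧ LinearMap.det g.toLinearMap = a * (σ a)⁻¹ ∧ g e = a • e := by
  have hH : H91.U.HForm h.toMap := by
    have hs : h.toMap.IsSymm := ⟨fun u v => by rw [h.toMap_apply, h.toMap_apply, h.symm, hσ]⟩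
    refine ⟨?_, hs, hσ, hne⟩
    refine ⟨fun u hu => h.nd u fun v => ?_, fun u hu => h.nd u fun v => ?_⟩
    · rw [h.symm]
      have h1 := hu v
      rw [h.toMap_apply] at h1
      rw [h1, map_zero]
    · have h1 := hu v
      rw [h.toMap_apply] at h1
      exact h1
  have hfe : h.toMap f e = 1 := by rw [h.toMap_apply]; exact hef
  have hef' : h.toMap e f = 1 := by rw [h.toMap_apply, h.symm, hef, map_one]
  obtain ⟨g, h1, h2, -, -, h3⟩ := H450.UF.exists_tor hH (e := e) (f := f) he hf hef' ha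
  exact ⟨g, fun u v => by
    have := h1 v u
    rw [h.toMap_apply, h.toMap_apply] at this
    exact this, h3, h2⟩

/-! ### maps commuting with the special unitary group -/

/-- an eigenvector -/
theorem eig_of_comm (h : HermF σ b) {t : K} (ht : σ t = -t) (ht0 : t ≠ 0) (X : V →ₗ[K] V)
    (hX : ∀ g : V ≃ₗ[K] V, g ∈ Iso b → LinearMap.det g.toLinearMap = 1 → ∀ v, X (g v) = g (X v)) {e : V}
    (he : b e e = 0) : ∃ k : K, X e = k • e := by
  by_cases he0 : e = 0
  · exact ⟨0, by rw [he0, map_zero, smul_zero]⟩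
  obtain ⟨g, h1, h2, h3⟩ := exists_tau h he ht
  obtain ⟨v, hv⟩ : ∃ v, b v e ≠ 0 := by
    by_contra hno
    push Not at hno
    exact he0 (h.nd e fun v => by rw [h.symm, hno v, map_zero])
  have h4 := hX g h1 h2 v
  rw [h3, h3, map_add, map_smul, add_right_inj] at h4
  refine ⟨(t * b v e)⁻¹ * (t * b (X v) e), ?_⟩
  rw [mul_smul, ← h4, smul_smul, inv_mul_cancel₀ (mul_ne_zero ht0 hv), one_smul]

/-- **A linear map commuting with `SU` is a scalar.** -/
theorem scal_of_comm (h : HermF σ b) (hσ : ∀ a, σ (σ a) = a) (hne : σ ≠ RingHom.id K) {t : K} (ht : σ t = -t)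
    (ht0 : t ≠ 0) (X : V →ₗ[K] V)
    (hX : ∀ g : V ≃ₗ[K] V, g ∈ Iso b → LinearMap.det g.toLinearMap = 1 → ∀ v, X (g v) = g (X v)) {e f : V}
    (he : b e e = 0) (hf : b f f = 0) (hef : b e f = 1) : ∃ k : K, ∀ v, X v = k • v := by
  have hE := fun {e : V} (he : b e e = 0) => eig_of_comm h ht ht0 X hX he
  have hfe : b f e = 1 := by rw [h.symm, hef, map_one]
  have he0 : e ≠ 0 := by
    rintro rfl
    rw [h.symm, bz_right h, map_zero] at hef
    exact zero_ne_one hef
  obtain ⟨k, hk⟩ := hE he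
  -- hyperbolic partners of `e`
  have key : ∀ f' : V, b f' f' = 0 → b e f' = 1 → X f' = k • f' := by
    intro f' hf' hef'
    have hfe' : b f' e = 1 := by rw [h.symm, hef', map_one]
    obtain ⟨k', hk'⟩ := hE hf'
    have hiso : b (e + t • f') (e + t • f') = 0 := by
      rw [h.add, b_add_right h, b_add_right h, h.smul, h.smul, b_smul_right h, b_smul_right h, he, hf', hef', hfe', ht]
      ring
    obtain ⟨k'', hk''⟩ := hE hiso
    have h1 : k • e + (t * k') • f' = k'' • e + (t * k'') • f' := by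
      rw [← smul_smul t k' f', ← hk', ← hk, ← map_smul, ← map_add, hk'', smul_add, smul_smul, mul_comm k'' t]
    have h2 := congrArg (fun v => b v f') h1
    have h3 := congrArg (fun v => b v e) h1
    simp only [h.add, h.smul, he, hf', hef', hfe', mul_one, mul_zero, add_zero, zero_add] at h2 h3
    have h4 : k' = k'' := mul_left_cancel₀ ht0 h3
    rw [hk', h4, h2]
  refine ⟨k, fun v => ?_⟩
  have hXf := key f hf hef
  -- decomposition
  set w := v - b v f • e - b v e • f with hw
  have hv : v = b v f • e + b v e • f + w := by rw [hw]; abel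
  have hwe : b w e = 0 := by
    have : b w e + b v f * b e e + b v e * b f e = b v e := by
      rw [← h.smul, ← h.smul, ← h.add, ← h.add, hw]
      congr 1
      abel
    rw [he, hfe] at this
    linear_combination this
  have hwf : b w f = 0 := by
    have : b w f + b v f * b e f + b v e * b f f = b v f := by
      rw [← h.smul, ← h.smul, ← h.add, ← h.add, hw]
      congr 1
      abel
    rw [hef, hf] at this
    linear_combination this
  have hew : b e w = 0 := by rw [h.symm, hwe, map_zero]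
  have hfw : b f w = 0 := by rw [h.symm, hwf, map_zero]
  obtain ⟨c, hc⟩ := ClassicalGeometry.HermWitt.trace_surj σ hne hσ (-b w w) (by rw [map_neg, ← h.symm])
  have h1 : b (w + f + c • e) (w + f + c • e) = 0 := by
    simp only [h.add, b_add_right h, h.smul, b_smul_right h, he, hf, hef, hfe, hwe, hwf, hew, hfw]
    linear_combination hc
  have h2 : b e (w + f + c • e) = 1 := by
    simp only [b_add_right h, b_smul_right h, he, hef, hew]
    ring
  have h3 := key _ h1 h2
  rw [map_add, map_add, map_smul, hk, hXf] at h3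
  have hXw : X w = k • w := by
    have h4 : X w = k • (w + f + c • e) - k • f - c • k • e := by
      rw [← h3]; abel
    rw [h4, smul_add, smul_add, smul_comm c k e]
    abel
  conv_lhs => rw [hv]
  rw [map_add, map_add, map_smul, map_smul, hk, hXf, hXw, smul_comm _ k e, smul_comm _ k f, ← smul_add, ← smul_add, ← hv]

/-! ### hyperbolic pairs -/

variable [Finite K]

/-- orthonormal vectors -/
theorem exists_on (h : HermF σ b) (hσ : ∀ a, σ (σ a) = a) (hne : σ ≠ RingHom.id K) {m : ℕ} (hm : m ≤ finrank K V) :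
    ∃ w : Fin m → V, ∀ i l, b (w i) (w l) = if i = l then 1 else 0 := by
  have hH : H91.U.HForm h.toMap := by
    have hs : h.toMap.IsSymm := ⟨fun u v => by rw [h.toMap_apply, h.toMap_apply, h.symm, hσ]⟩
    refine ⟨?_, hs, hσ, hne⟩
    refine ⟨fun u hu => h.nd u fun v => ?_, fun u hu => h.nd u fun v => ?_⟩
    · rw [h.symm]
      have h1 := hu v
      rw [h.toMap_apply] at h1
      rw [h1, map_zero]
    · have h1 := hu v
      rw [h.toMap_apply] at h1
      exact h1
  obtain ⟨w, hw⟩ := H450.UF.exists_orthonormal hH hm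
  refine ⟨w, fun i l => ?_⟩
  have h1 := hw l i
  rw [h.toMap_apply] at h1
  rw [h1]
  simp only [eq_comm]

theorem exists_hyp (h : HermF σ b) (hσ : ∀ a, σ (σ a) = a) (hne : σ ≠ RingHom.id K) (h2 : (2 : K) ≠ 0) {u v : V}
    (hu : b u u = 1) (hv : b v v = 1) (huv : b u v = 0) :
    ∃ e f : V, b e e = 0 ∧ b f f = 0 ∧ b e f = 1 ∧ ∀ w, b w u = 0 → b w v = 0 → b w e = 0 ∧ b w f = 0 := by
  obtain ⟨c, -, hc⟩ := ClassicalGeometry.HermWitt.norm_surj σ hne hσ (-1) (by rw [map_neg, map_one])
    (neg_ne_zero.2 one_ne_zero)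
  have hvu : b v u = 0 := by rw [h.symm, huv, map_zero]
  have hs2 : σ (2⁻¹) = 2⁻¹ := by rw [map_inv₀, map_ofNat]
  refine ⟨u + c • v, (2⁻¹ : K) • (u + (-c) • v), ?_, ?_, ?_, ?_⟩
  · simp only [h.add, b_add_right h, h.smul, b_smul_right h, hu, hv, huv, hvu]
    linear_combination hc
  · simp only [h.add, b_add_right h, h.smul, b_smul_right h, hu, hv, huv, hvu, hs2, map_neg]
    linear_combination (2⁻¹ * 2⁻¹ : K) * hc
  · simp only [h.add, b_add_right h, h.smul, b_smul_right h, hu, hv, huv, hvu, hs2, map_neg]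
    have h3 : (2⁻¹ : K) * 2 = 1 := inv_mul_cancel₀ h2
    linear_combination h3 - (2⁻¹ : K) * hc
  · intro w h3 h4
    constructor
    · rw [b_add_right h, b_smul_right h, h3, h4, mul_zero, add_zero]
    · rw [b_smul_right h, b_add_right h, b_smul_right h, h3, h4, mul_zero, add_zero, mul_zero]

/-- **The element `y`.** -/
theorem exists_y (h : HermF σ b) (hσ : ∀ a, σ (σ a) = a) (hne : σ ≠ RingHom.id K) (h2 : (2 : K) ≠ 0) {a : K}
    (ha : a ≠ 0) (hd : 2 ≤ finrank K V) (had : σ a = a ∨ (3 ≤ finrank K V ∧ σ a = -a)) :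
    ∃ (e f : V) (g : V ≃ₗ[K] V), b e e = 0 ∧ b f f = 0 ∧ b e f = 1 ∧ g ∈ Iso b ∧ LinearMap.det g.toLinearMap = 1 ∧
      g e = a • e := by
  rcases had with had | ⟨h3, had⟩
  · obtain ⟨w, hw⟩ := exists_on h hσ hne hd
    obtain ⟨e, f, he, hf, hef, -⟩ := exists_hyp h hσ hne h2 (u := w 0) (v := w 1) (by rw [hw]; simp) (by rw [hw]; simp)
      (by rw [hw]; simp)
    obtain ⟨g, hg1, hg2, hg3⟩ := exists_torus h hσ hne he hf hef ha
    exact ⟨e, f, g, he, hf, hef, hg1, by rw [hg2, had, mul_inv_cancel₀ ha], hg3⟩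
  · obtain ⟨w, hw⟩ := exists_on h hσ hne h3
    obtain ⟨e, f, he, hf, hef, hp⟩ := exists_hyp h hσ hne h2 (u := w 0) (v := w 1) (by rw [hw]; simp)
      (by rw [hw]; simp) (by rw [hw]; simp)
    obtain ⟨hwe, -⟩ := hp (w 2) (by rw [hw]; simp) (by rw [hw]; simp)
    obtain ⟨g, hg1, hg2, hg3⟩ := exists_torus h hσ hne he hf hef ha
    obtain ⟨r, hr1, hr2, hr3⟩ := exists_refl h (w := w 2) (by rw [hw]; simp)
    have hre : r e = e := by rw [hr3, h.symm (w 2) e, hwe, map_zero, mul_zero, zero_smul, add_zero]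
    refine ⟨e, f, r.trans g, he, hf, hef, ?_, ?_, ?_⟩
    · intro x y
      show b (g (r x)) (g (r y)) = b x y
      rw [hg1, hr1]
    · show LinearMap.det (g.toLinearMap ∘ₗ r.toLinearMap) = 1
      rw [LinearMap.det_comp, hg2, hr2, had, inv_neg]
      have h5 := mul_inv_cancel₀ ha
      linear_combination h5
    · show g (r e) = a • e
      rw [hre, hg3]

end geo

end Cfsg.Agent.H8.RC
end

-- part: H8/RC/DeadHer
section
/-!
# S3510, row D, box D6: `dead_her` (helper8)

`K = F[θ]`, `θ² = δ` not a square, `θ* = -θ`: the lifts commute with `θ`, at most one is not a `K`-scalar.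
M-rule with `SU(V)`, then the line rule for `c ↦ (v ↦ v + c h(e, v) e)`, `e` singular.
-/

set_option autoImplicit false
set_option linter.unusedSectionVars false
open Cfsg

namespace Cfsg.Agent.H8.RC

open Module MulAction Cfsg.Agent.H749 Cfsg.Agent.H520.RC Cfsg.Agent.H106.RC
open Cfsg.Agent.ClassicalGeometry.PSUAutBasic

section line

variable {F K V : Type*} [Field F] [Field K] [Algebra F K] [AddCommGroup V] [Module F V] [Module K V]
  [IsScalarTower F K V] {B : LinearMap.BilinForm F V} {σ : K →+* K} {t : K}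

/-- `v ↦ v + (k h(e, v)) e` -/
def ls (hB : NAlt B) (hQ : Quad F K σ t) (hs : ∀ u v : V, B (t • u) v = - B u (t • v)) {e : V}
    (he : hf B t e e = 0) (k : K) : Sp B :=
  have hH := hermF hB hQ hs
  have h0 : ∀ c : K, hf B t e (c • e) = 0 := fun c => by rw [b_smul_right hH, he, mul_zero]
  ⟨{ toFun := fun v => v + (k * hf B t e v) • e
     invFun := fun v => v - (k * hf B t e v) • e
     left_inv := fun v => by
       show (v + (k * hf B t e v) • e) - (k * hf B t e (v + (k * hf B t e v) • e)) • e = v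
       rw [b_add_right hH, h0, add_zero, add_sub_cancel_right]
     right_inv := fun v => by
       show (v - (k * hf B t e v) • e) + (k * hf B t e (v - (k * hf B t e v) • e)) • e = v
       rw [sub_eq_add_neg v, ← neg_smul, b_add_right hH, h0, add_zero, neg_smul, neg_add_cancel_right]
     map_add' := fun u v => by
       rw [b_add_right hH, mul_add, add_smul]
       abel
     map_smul' := fun a v => by
       rw [RingHom.id_apply, smul_add, ← algebraMap_smul K a v, b_smul_right hH, hQ.fix, ← algebraMap_smul K a (_ • e),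
         smul_smul]
       congr 2
       ring }, by
    intro u v
    show B (u + (k * hf B t e u) • e) (v + (k * hf B t e v) • e) = B u v
    have h1 : B ((k * hf B t e u) • e) v = B ((k * hf B t e v) • e) u := by
      refine eq_of_hf hQ ?_
      rw [hH.smul, hH.smul]
      ring
    have h2 : B ((k * hf B t e u) • e) ((k * hf B t e v) • e) = B (0 : V) 0 := by
      refine eq_of_hf hQ ?_
      rw [hH.smul, b_smul_right hH, he, bz_right hH]
      ring
    rw [map_add, map_add, LinearMap.add_apply, LinearMap.add_apply, h1, h2, map_zero, add_zero,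
      hB.swap u ((k * hf B t e v) • e)]
    ring⟩

variable (hB : NAlt B) (hQ : Quad F K σ t) (hs : ∀ u v : V, B (t • u) v = - B u (t • v)) {e : V}
    (he : hf B t e e = 0)

theorem ls_apply (k : K) (v : V) : (ls hB hQ hs he k).1 v = v + (k * hf B t e v) • e := rfl

theorem ls_add (k k' : K) : ls hB hQ hs he (k + k') = ls hB hQ hs he k * ls hB hQ hs he k' := by
  have hH := hermF hB hQ hs
  apply Subtype.ext
  apply LinearEquiv.ext
  intro v
  show (ls hB hQ hs he (k + k')).1 v = (ls hB hQ hs he k).1 ((ls hB hQ hs he k').1 v)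
  rw [ls_apply, ls_apply, ls_apply, b_add_right hH, b_smul_right hH, he, mul_zero, add_zero, add_mul, add_smul]
  abel

/-- conjugates -/
theorem cj_ls {M : SS B} (hl : M.IsLin) (hc : ∀ v, M (t • v) = t • M v) {c : K} (hce : M e = c • e)
    (k : K) : SS.cj M (ls hB hQ hs he k) = ls hB hQ hs he (c * c * (algebraMap F K M.l)⁻¹ * k) := by
  have hH := hermF hB hQ hs
  have hl0 : algebraMap F K M.l ≠ 0 := (map_ne_zero (algebraMap F K)).2 M.hl
  apply SS.cj_eq
  intro v
  rw [ls_apply, ls_apply, M.map_add]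
  congr 1
  have h1 : c * hf B t e (M v) = algebraMap F K M.l * hf B t e v := by
    rw [← hH.smul, ← hce, hf_lift M hl hc]
  have h2 : M ((k * hf B t e v) • e) = (k * hf B t e v) • M e := (klin hQ M hl hc).map_smul _ _
  rw [h2, hce, smul_smul]
  congr 1
  have h3 : hf B t e v = (algebraMap F K M.l)⁻¹ * (c * hf B t e (M v)) := by
    rw [h1, inv_mul_cancel_left₀ hl0]
  rw [h3]
  ring

end line

section main

variable {F K V : Type} [Field F] [Finite F] [Field K] [Fintype K] [Algebra F K] [AddCommGroup V] [Module F V]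
  [Module K V] [IsScalarTower F K V] [FiniteDimensional F V] [FiniteDimensional K V]
  {B : LinearMap.BilinForm F V} {σ : K →+* K} {t : K}
  {G : Type} [Group G] [Finite G] {Ω : Type} [Finite Ω] [Nonempty Ω] [MulAction G Ω]
  {N : Subgroup G} {ρ : ↥(Sp B) →* G} {ι : Type} [Finite ι] {x : ι → G} {r : ι → ℕ} {M : ι → SS B}

theorem quasi {q n : ℕ} (hK : Fintype.card K = q ^ 2) (hq : q ≠ 2) (hn : 3 ≤ n ∨ (n = 2 ∧ 4 ≤ q)) :
    IsSimpleGroup (PSU n K q) ∧ ¬ IsMulCommutative (PSU n K q) ∧ commutator (SU n K q) = ⊤ := by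
  rcases hn with hn | ⟨rfl, h4⟩
  · have h4 := LieClassical.HermPerfect.commutator_SU_eq_top hK hn (fun h => hq h.2)
    exact ⟨LieClassical.HermSimple.isSimpleGroup_of_perfect hK hn h4,
      Cfsg.Agent.H189.SN.psu_nc hK hn (fun h => hq h.2), h4⟩
  · exact ⟨H452.RC.simple_two hK h4, H452.RC.nc_two hK h4, H452.RC.comm_two hK h4⟩

/-- **`dead_her`, abstract form.** -/
theorem her_core (E : SpEnv Ω N ρ) (h2 : (2 : F) ≠ 0) (hx : PF x r) (hcov : Cov Ω x)
    (hM : ∀ i, Lf ρ (x i) (M i)) (hl : ∀ i, (M i).IsLin) (hQ : Quad F K σ t)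
    (hs : ∀ u v : V, B (t • u) v = - B u (t • v)) (hcm : ∀ i v, M i (t • v) = t • M i v)
    (hsc : ∀ i i', (¬ ∃ k : K, ∀ v, M i v = k • v) → (¬ ∃ k : K, ∀ v, M i' v = k • v) → i = i') {q : ℕ}
    (hK : Fintype.card K = q ^ 2)
    (hq : Nat.card F = q) (hq2 : q ≠ 2) (hd : 3 ≤ finrank K V ∨ (finrank K V = 2 ∧ 4 ≤ q)) : False := by
  classical
  obtain ⟨hS, hSn, hperf⟩ := quasi (K := K) hK hq2 hd
  obtain ⟨j, hj, hj1, hj2⟩ := exists_SU (n := finrank K V) E.form hQ h2 hs hK rfl
  have hH := hermF E.form hQ hs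
  have hσ2 := hQ.invol
  have hne := hQ.ne_id h2
  have h2K : (2 : K) ≠ 0 := by
    have := (map_ne_zero (algebraMap F K)).2 h2
    rwa [map_ofNat] at this
  -- conjugates
  have hconj : ∀ i s, ∃ s', SS.cj (M i) (j s) = j s' := by
    intro i s
    obtain ⟨g, hg1, hg2, hg3⟩ := hj1 s
    obtain ⟨g', hg1', hg2', hg3'⟩ := conj_klin hQ (M i) (hl i) (hcm i) hg1 hg2
    obtain ⟨s', hs'⟩ := hj2 g' hg1' hg2'
    refine ⟨s', SS.cj_eq fun v => ?_⟩
    rw [hs', hg3', hg3]
  have hcen : ∀ i, (∃ k : K, ∀ v, M i v = k • v) → ∀ s, x i * ρ (j s) = ρ (j s) * x i := by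
    rintro i ⟨k, hk⟩
    rw [E.cent_iff (hM i) j hperf]
    intro s v
    obtain ⟨g, -, -, hg3⟩ := hj1 s
    rw [hk, hk, hg3, hg3, map_smul]
  -- the M-rule
  set κ : SU (finrank K V) K q →* G := ρ.comp j with hκ
  have hrule : ∀ ω : Ω, (∀ p, κ p • ω = ω) ∨ ∃ i, (∀ p, x i * κ p = κ p * x i) ∧ x i • ω = ω := by
    intro ω
    refine H380.RC.mrule_hom_pf hS hSn κ (by rw [← commutator_def]; exact hperf) (pr (finrank K V) K q) pr_surjective
      ?_ ?_ hx ?_ (Or.inr ?_) hcov ω
    · intro s hs'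
      rw [MonoidHom.mem_ker] at hs' ⊢
      rw [pr_eq_one_iff, Subgroup.mem_center_iff]
      intro s'
      apply hj
      rw [map_mul, map_mul]
      exact scal_central ((E.ker _).1 hs') (j s')
    · intro s hs'
      rw [MonoidHom.mem_ker, pr_eq_one_iff] at hs'
      exact hs'
    · intro i s
      obtain ⟨s', hs'⟩ := hconj i s
      exact ⟨s', by rw [hκ, MonoidHom.comp_apply, MonoidHom.comp_apply, hM i, hs']⟩
    · by_cases hex : ∃ i, ¬ ∃ k : K, ∀ v, M i v = k • v
      · obtain ⟨i₀, hi₀⟩ := hex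
        refine ⟨i₀, fun i hi s => hcen i ?_ s⟩
        by_contra hco
        exact hi (hsc i i₀ hco hi₀)
      · push Not at hex
        obtain ⟨i₀, -⟩ := hcov ω
        exact ⟨i₀, fun i _ s => hcen i (hex i) s⟩
  -- the element `y`
  have ht0 := hQ.t_ne
  obtain ⟨a, ha0, ha2, had⟩ : ∃ a : K, a ≠ 0 ∧ a * a ≠ 1 ∧ (σ a = a ∨ (3 ≤ finrank K V ∧ σ a = -a)) := by
    rcases hd with h3 | ⟨-, h4⟩
    · refine ⟨t, ht0, ?_, Or.inr ⟨h3, hQ.neg⟩⟩
      intro h
      have h5 : (t - 1) * (t + 1) = 0 := by linear_combination h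
      rcases mul_eq_zero.1 h5 with h6 | h6
      · exact one_ne_zero (hQ.ind (-1) 1 (by rw [map_neg, map_one]; linear_combination h6)).2
      · exact one_ne_zero (hQ.ind 1 1 (by rw [map_one]; linear_combination h6)).2
    · have := Fintype.ofFinite F
      have h1 : ({0, 1, -1} : Finset F).card < Fintype.card F := by
        refine lt_of_le_of_lt Finset.card_le_three ?_
        rw [← Nat.card_eq_fintype_card, hq]
        omega
      obtain ⟨b, hb⟩ := Finset.exists_mem_notMem_of_card_lt_card (s := ({0, 1, -1} : Finset F)) (t := Finset.univ)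
        (by rwa [Finset.card_univ])
      have hb' := hb.2
      simp only [Finset.mem_insert, Finset.mem_singleton, not_or] at hb'
      refine ⟨algebraMap F K b, (map_ne_zero (algebraMap F K)).2 hb'.1, ?_, Or.inl (hQ.fix b)⟩
      intro h
      rw [← map_mul, map_eq_one_iff (algebraMap F K) (algebraMap F K).injective] at h
      have h5 : (b - 1) * (b + 1) = 0 := by linear_combination h
      rcases mul_eq_zero.1 h5 with h6 | h6
      · exact hb'.2.1 (sub_eq_zero.1 h6)
      · exact hb'.2.2 (eq_neg_of_add_eq_zero_left h6)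
  obtain ⟨e, f, g, he, hf', hef, hg1, hg2, hge⟩ := exists_y hH hσ2 hne h2K ha0 (by omega) had
  obtain ⟨sy, hsy⟩ := hj2 g hg1 hg2
  have he0 : e ≠ 0 := by
    rintro rfl
    rw [hH.symm, bz_right hH, map_zero] at hef
    exact zero_ne_one hef
  -- the members centralising `SU` are `K`-scalars
  have hscal : ∀ i, (∀ p, x i * κ p = κ p * x i) → ∃ c : K, c ≠ 0 ∧ (∀ v, M i v = c • v) ∧
      c * c * (algebraMap F K (M i).l)⁻¹ ≠ 1 := by
    intro i hi
    have h3 := (E.cent_iff (hM i) j hperf).1 hi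
    obtain ⟨c, hc⟩ := scal_of_comm hH hσ2 hne hQ.neg ht0 (klin hQ (M i) (hl i) (hcm i)).toLinearMap (by
      intro g hg1 hg2 v
      obtain ⟨s, hs'⟩ := hj2 g hg1 hg2
      show M i (g v) = g (M i v)
      rw [← hs', ← hs', h3]) he hf' hef
    have hc' : ∀ v, M i v = c • v := hc
    have hl1 : algebraMap F K (M i).l = c * σ c := by
      have h4 := hf_lift (M i) (hl i) (hcm i) e f
      rw [hc', hc', hH.smul, b_smul_right hH, hef] at h4
      linear_combination -h4
    have hc0 : c ≠ 0 := by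
      rintro rfl
      apply he0
      apply (M i).injective
      rw [hc', zero_smul, (M i).map_zero]
    have hsc0 : σ c ≠ 0 := (map_ne_zero σ).2 hc0
    refine ⟨c, hc0, hc', ?_⟩
    intro h4
    rw [hl1, mul_inv_eq_one₀ (mul_ne_zero hc0 hsc0)] at h4
    have h5 : c = σ c := mul_left_cancel₀ hc0 h4
    obtain ⟨b, rfl⟩ := hQ.mem_of_fix h2 h5.symm
    apply hx.ne i
    rw [E.eq_one_iff (hM i)]
    refine ⟨b, fun h6 => hc0 (by rw [h6, map_zero]), fun v => ?_⟩
    rw [hc', algebraMap_smul]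
  -- the line rule
  let I := {i : ι // ∀ p, x i * κ p = κ p * x i}
  have hI : ∀ i : I, ∃ c : K, c ≠ 0 ∧ (∀ v, M i.1 v = c • v) ∧ c * c * (algebraMap F K (M i.1).l)⁻¹ ≠ 1 :=
    fun i => hscal i.1 i.2
  choose cc hcc0 hcc hcc1 using hI
  refine H579.RC.line_rule E.env (R := K) (κ := Option I) (z := fun o => o.elim (κ sy) fun i => x i.1)
    (a := fun k => ρ (ls E.form hQ hs he k))
    (ν := fun o => o.elim (a * a) fun i => cc i * cc i * (algebraMap F K (M i.1).l)⁻¹) ?_ ?_ ?_ ?_ ?_ ?_
  · rintro (_ | i) (_ | k)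
    · rfl
    · exact (k.2 sy).symm
    · exact i.2 sy
    · exact hx.comm _ _
  · intro ω
    rcases hrule ω with h | ⟨i, hi, hω⟩
    · exact ⟨none, h sy⟩
    · exact ⟨some ⟨i, hi⟩, hω⟩
  · intro c d
    rw [ls_add, map_mul]
  · refine ⟨1, ?_⟩
    rw [Ne, E.ker]
    rintro ⟨b, hb⟩
    have h3 := hb e
    rw [ls_apply, he, mul_zero, zero_smul, add_zero] at h3
    have hb1 : b = 1 := by
      have h4 : (b - 1) • e = 0 := by rw [sub_smul, ← h3, one_smul, sub_self]
      rcases smul_eq_zero.1 h4 with h5 | h5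
      · exact sub_eq_zero.1 h5
      · exact absurd h5 he0
    have h4 := hb f
    rw [ls_apply, hef, hb1, one_smul, mul_one, one_smul, add_eq_left] at h4
    exact he0 h4
  · rintro (_ | i)
    · exact ha2
    · exact hcc1 i
  · rintro (_ | i) c
    · show ρ (j sy) * _ * (ρ (j sy))⁻¹ = ρ (ls E.form hQ hs he (a * a * c))
      rw [Lf.tg (ρ := ρ) (j sy), cj_ls E.form hQ hs he (SS.tg_lin _) (fun v => by
        rw [SS.tg_apply, SS.tg_apply, hsy, hsy, map_smul]) (c := a) (by rw [SS.tg_apply, hsy, hge])]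
      have h5 : (SS.tg (j sy)).l = 1 := rfl
      rw [h5, map_one, inv_one, mul_one]
    · show x i.1 * _ * (x i.1)⁻¹ = _
      rw [hM i.1, cj_ls E.form hQ hs he (hl i.1) (hcm i.1) (c := cc i) (hcc i e)]
      rfl

end main

section final

variable {F V : Type} [Field F] [Finite F] [AddCommGroup V] [Module F V] [FiniteDimensional F V]
  {B : LinearMap.BilinForm F V} {G : Type} [Group G] [Finite G] {Ω : Type} [Finite Ω] [Nonempty Ω] [MulAction G Ω]
  {N : Subgroup G} {ρ : ↥(Sp B) →* G} {ι : Type} [Finite ι] {x : ι → G} {r : ι → ℕ} {M : ι → SS B}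

/-- the quadratic algebra -/
theorem quad_qa (F : Type*) [Field F] (δ : F) [Fact (∀ c : F, c ^ 2 ≠ δ + 0 * c)] :
    Quad F (QuadraticAlgebra F δ 0) (starRingEnd (QuadraticAlgebra F δ 0)) QuadraticAlgebra.omega where
  fix a := by
    rw [starRingEnd_apply]
    apply QuadraticAlgebra.ext <;> simp only [_root_.QuadraticAlgebra.re_star, _root_.QuadraticAlgebra.algebraMap_re, _root_.QuadraticAlgebra.algebraMap_im, _root_.MulZeroClass.mul_zero, _root_.add_zero, _root_.QuadraticAlgebra.im_star, _root_.neg_zero]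
  neg := by
    rw [starRingEnd_apply]
    apply QuadraticAlgebra.ext <;> simp only [_root_.QuadraticAlgebra.re_star, _root_.QuadraticAlgebra.omega_re, _root_.QuadraticAlgebra.omega_im, _root_.mul_one, _root_.add_zero, _root_.QuadraticAlgebra.re_neg, _root_.neg_zero, _root_.QuadraticAlgebra.im_star, _root_.QuadraticAlgebra.im_neg]
  dec k := ⟨k.re, k.im, by
    apply QuadraticAlgebra.ext <;> simp⟩
  ind a b h := by
    have h1 := congrArg QuadraticAlgebra.re h
    have h3 := congrArg QuadraticAlgebra.im h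
    simp only [QuadraticAlgebra.re_add, QuadraticAlgebra.im_add, QuadraticAlgebra.re_mul, QuadraticAlgebra.im_mul,
      QuadraticAlgebra.omega_re, QuadraticAlgebra.omega_im, QuadraticAlgebra.re_zero, QuadraticAlgebra.im_zero] at h1 h3
    simp at h1 h3
    exact ⟨h1, h3⟩
  sq := ⟨δ, by
    apply QuadraticAlgebra.ext <;> simp⟩

/-- **Box D6, hermitian case.** -/
theorem dead_her (E : SpEnv Ω N ρ) (h2 : (2 : F) ≠ 0) (hx : PF x r) (hcov : Cov Ω x)
    (hM : ∀ i, Lf ρ (x i) (M i)) (hl : ∀ i, (M i).IsLin) (θ : Module.End F V) {δ : F} (hδ : ¬ IsSquare δ)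
    (hsq : ∀ v, θ (θ v) = δ • v) (hθs : ∀ u v, B (θ u) v = - B u (θ v)) (hcm : ∀ i v, M i (θ v) = θ (M i v))
    (hs : ∀ i j, (¬ ∃ a b : F, ∀ v, M i v = a • v + b • θ v) → (¬ ∃ a b : F, ∀ v, M j v = a • v + b • θ v) → i = j)
    (hex : ¬ (Nat.card F = 3 ∧ finrank F V = 4)) : False := by
  classical
  have hfact : Fact (∀ c : F, c ^ 2 ≠ δ + 0 * c) := ⟨fun c h => hδ ⟨c, by
    rw [zero_mul, add_zero] at h
    rw [← h, pow_two]⟩⟩
  let K := QuadraticAlgebra F δ 0
  let φ : K →ₐ[F] Module.End F V := QuadraticAlgebra.lift ⟨θ, by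
    apply LinearMap.ext
    intro v
    show θ (θ v) = δ • v + (0 : F) • θ v
    rw [hsq, zero_smul, add_zero]⟩
  have hφ : ∀ (a b : F) (v : V), φ ⟨a, b⟩ v = a • v + b • θ v := by
    intro a b v
    have h1 : (⟨a, b⟩ : K) = algebraMap F K a + b • QuadraticAlgebra.omega := by
      rw [QuadraticAlgebra.mk_eq_add_smul_omega]
    have h3 : φ QuadraticAlgebra.omega = θ := by
      show QuadraticAlgebra.lift _ _ = _
      simp
    rw [h1, map_add, AlgHom.commutes, map_smul, h3]
    rfl
  let : Module K V := Module.compHom V φ.toRingHom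
  have hsm : ∀ (k : K) (v : V), k • v = k.re • v + k.im • θ v := fun k v => hφ k.re k.im v
  have : IsScalarTower F K V := ⟨fun a k v => by
    rw [hsm, hsm, smul_add, smul_smul, smul_smul]
    rfl⟩
  let t : K := QuadraticAlgebra.omega
  have htv : ∀ v : V, t • v = θ v := fun v => by
    rw [hsm]
    show (0 : F) • v + (1 : F) • θ v = θ v
    rw [zero_smul, one_smul, zero_add]
  have hQ : Quad F K (starRingEnd K) t := quad_qa F δ
  have : Finite K := Finite.of_equiv (F × F) (QuadraticAlgebra.equivProd δ 0).symm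
  have := Fintype.ofFinite K
  have hcard : Fintype.card K = (Nat.card F) ^ 2 := by
    rw [← Nat.card_eq_fintype_card, Nat.card_congr (QuadraticAlgebra.equivProd δ 0), Nat.card_prod, pow_two]
  have : FiniteDimensional K V := Module.Finite.of_restrictScalars_finite F K V
  have hdim : 2 * finrank K V = finrank F V := by
    rw [← Module.finrank_mul_finrank F K V, QuadraticAlgebra.finrank_eq_two]
  have hq2 : Nat.card F ≠ 2 := by
    intro h
    have := Fintype.ofFinite F
    apply h2
    have h3 := FiniteField.cast_card_eq_zero F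
    rw [← Nat.card_eq_fintype_card, h] at h3
    exact_mod_cast h3
  have hq1 : 1 < Nat.card F := Finite.one_lt_card
  have h4 := E.dim
  have hsc : ∀ i, (¬ ∃ k : K, ∀ v, M i v = k • v) → ¬ ∃ a b : F, ∀ v, M i v = a • v + b • θ v := by
    rintro i hi ⟨a, b, hab⟩
    exact hi ⟨⟨a, b⟩, fun v => by rw [hab, hsm]⟩
  refine her_core (K := K) E h2 hx hcov hM hl hQ (fun u v => by rw [htv, htv, hθs]) (fun i v => by
    rw [htv, htv, hcm]) (fun i i' hi hi' => hs i i' (hsc i hi) (hsc i' hi')) hcard rfl hq2 ?_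
  by_cases h5 : finrank F V = 4
  · right
    refine ⟨by omega, ?_⟩
    have h6 : Nat.card F ≠ 3 := fun h6 => hex ⟨h6, h5⟩
    omega
  · left
    omega

end final

end Cfsg.Agent.H8.RC
end

private theorem dce_3f7c58be3885 : _root_.True := by
  try have : _root_.True := by simp only [_root_.Cfsg.Agent.H686.RC.DD.star.eq_1]
  try have : _root_.True := by simp only [_root_.Cfsg.Agent.H686.RC.DD.star.congr_simp]
  try have : _root_.True := by simp only [_root_.Cfsg.Agent.H686.RC.DD.ex.eq_1]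
  try have : _root_.True := by simp only [_root_.Cfsg.Agent.H686.RC.DD.ex.congr_simp]
  try have : _root_.True := by simp only [_root_.Cfsg.Agent.H686.RC.DD.pe.congr_simp]
  exact _root_.True.intro
end
end

-- part: H810/RC/Five
section
prune_inst 0x10000000000000
set_option linter.all false
open scoped Cfsg.Agent.FastGrp

/-!
# S3510, row D, box D9: `PSp_4(5)` with members of orders 2 and 3 (helper810)

`dead_five_of` : contradiction, with the box D4 (`dead_dec`) as the hypothesis `bDec`.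
-/

set_option autoImplicit false
open Cfsg

namespace Cfsg.Agent.H810.RC

open MulAction Module Cfsg.Agent.H106.RC Cfsg.Agent.H520.RC Cfsg.Agent.H727.GW

section gen

variable {F : Type*} {V : Type*} [Field F] [AddCommGroup V] [Module F V]
  {B : LinearMap.BilinForm F V} {G : Type*} [Group G] {Ω : Type*} [MulAction G Ω]
  {N : Subgroup G} {ρ : ↥(Sp B) →* G}

/-- an isometry lifting `x`, of the same order, when the `n`-th power map is injective on `F` -/
theorem exists_isom [Finite F] [FiniteDimensional F V] (E : SpEnv Ω N ρ) {n : ℕ} (hn : n ≠ 0)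
    (hinj : Function.Injective (fun a : F => a ^ n)) {x : G}
    {M : SS B} (hM : Lf ρ x M) (hl : M.IsLin) (hx : x ^ n = 1) :
    ∃ (t : ↥(Sp B)) (c : F), c ≠ 0 ∧ (∀ v, M v = c • t.1 v) ∧ x = ρ t ∧ ∀ v, t.1^[n] v = v := by
  obtain ⟨b, hb, h2⟩ := E.pow_scal hM hx
  obtain ⟨c, hc⟩ := (Finite.injective_iff_surjective.1 hinj) b
  change c ^ n = b at hc
  have hc0 : c ≠ 0 := by
    rintro rfl
    rw [zero_pow hn] at hc
    exact hb hc.symm
  obtain ⟨w, hw⟩ := exists_vec E
  obtain ⟨w', hw'⟩ := E.form.exists_one hw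
  have hlp : ∀ n : ℕ, ∀ u v, B (M^[n] u) (M^[n] v) = M.l ^ n * B u v := by
    intro n
    induction n with
    | zero => intro u v; rw [pow_zero, one_mul]; rfl
    | succ n ih =>
      intro u v
      rw [Function.iterate_succ_apply, Function.iterate_succ_apply, ih, hl.form, pow_succ, mul_assoc]
  have hl2 : M.l = c * c := by
    apply hinj
    show M.l ^ n = (c * c) ^ n
    have h3 := hlp n w w'
    rw [h2, h2, hw', mul_one, _root_.map_smul, LinearMap.map_smul₂, hw', smul_eq_mul, smul_eq_mul, mul_one] at h3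
    rw [← h3, mul_pow, hc]
  let t0 : V ≃ₗ[F] V := (hl.lin).trans (LinearEquiv.smulOfUnit (Units.mk0 c⁻¹ (inv_ne_zero hc0)))
  have ht0 : ∀ v, t0 v = c⁻¹ • M v := fun v => rfl
  have htm : t0 ∈ Sp B := by
    intro u v
    rw [ht0, ht0, _root_.map_smul, LinearMap.map_smul₂, hl.form, hl2, smul_eq_mul, smul_eq_mul]
    field_simp
  refine ⟨⟨t0, htm⟩, c, hc0, ?_, ?_, ?_⟩
  · intro v
    show M v = c • t0 v
    rw [ht0, smul_smul, mul_inv_cancel₀ hc0, one_smul]
  · apply E.eq_of_lf hM hc0
    intro v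
    show M v = c • t0 v
    rw [ht0, smul_smul, mul_inv_cancel₀ hc0, one_smul]
  · intro v
    have h3 : ∀ (n : ℕ) (v : V), t0^[n] v = (c⁻¹) ^ n • M^[n] v := by
      intro n
      induction n with
      | zero => intro v; rw [pow_zero, one_smul]; rfl
      | succ n ih =>
        intro v
        rw [Function.iterate_succ_apply, ih, ht0, iter_smul (fun a v => hl.map_smul a v), smul_smul,
          Function.iterate_succ_apply, pow_succ]
    show t0^[n] v = v
    rw [h3, h2, smul_smul, inv_pow, hc, inv_mul_cancel₀ hb, one_smul]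

/-- nonzero combinations over `F[θ]`, `θ² = δ` a nonsquare, are injective -/
theorem quad_inj {θ : Module.End F V} {δ : F} (hδ : ¬ IsSquare δ) (hsq : ∀ v, θ (θ v) = δ • v) {p q : F} {w : V}
    (hw : w ≠ 0) (h : p • w + q • θ w = 0) : p = 0 ∧ q = 0 := by
  have h1 : (p * p - δ * (q * q)) • w = 0 := by
    have h2 := congrArg (fun z => p • z - q • θ z) h
    simp only [map_add, _root_.map_smul, hsq, smul_add, smul_smul, map_zero, smul_zero, sub_zero] at h2
    rw [sub_smul, ← h2, mul_comm p q, mul_comm δ (q * q), mul_assoc q q δ]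
    abel
  rcases smul_eq_zero.1 h1 with h2 | h2
  · have hq : q = 0 := by
      by_contra hq
      apply hδ
      refine ⟨p / q, ?_⟩
      field_simp
      linear_combination -h2
    subst hq
    refine ⟨?_, rfl⟩
    have h3 : p * p = 0 := by linear_combination h2
    exact mul_self_eq_zero.1 h3
  · exact absurd h2 hw

/-- an invariant subspace `≠ 0` of a quadratic operator has dimension at least 2 -/
theorem two_le_of_quad [FiniteDimensional F V] {θ : V → V} {δ : F} (hδ : ¬ IsSquare δ)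
    (hlin : ∀ (a : F) v, θ (a • v) = a • θ v) (hsq : ∀ v, θ (θ v) = δ • v) {W : Submodule F V}
    (hW : W ≠ ⊥) (hi : ∀ v ∈ W, θ v ∈ W) : 2 ≤ finrank F W := by
  obtain ⟨v, hv, hv0⟩ := Submodule.exists_mem_ne_zero_of_ne_bot hW
  have hli : LinearIndependent F ![(⟨v, hv⟩ : W), ⟨θ v, hi v hv⟩] := by
    rw [LinearIndependent.pair_iff]
    intro s t hst
    have h1 : s • v + t • θ v = 0 := congrArg Subtype.val hst
    by_cases ht : t = 0
    · rw [ht, zero_smul, add_zero] at h1
      rcases smul_eq_zero.1 h1 with h2 | h2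
      · exact ⟨h2, ht⟩
      · exact absurd h2 hv0
    · exfalso
      apply hδ
      have h2 : θ v = (-(t⁻¹ * s)) • v := by
        have h3 : t • θ v = -(s • v) := by rw [eq_neg_iff_add_eq_zero, add_comm]; exact h1
        have h4 := congrArg (fun z => t⁻¹ • z) h3
        simp only [smul_smul, smul_neg, inv_mul_cancel₀ ht, one_smul] at h4
        rw [h4, neg_smul]
      have h3 := hsq v
      rw [h2, hlin, h2, smul_smul] at h3
      have h4 : (-(t⁻¹ * s) * -(t⁻¹ * s) - δ) • v = 0 := by rw [sub_smul, h3, sub_self]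
      rcases smul_eq_zero.1 h4 with h5 | h5
      · exact ⟨-(t⁻¹ * s), by linear_combination -h5⟩
      · exact absurd h5 hv0
  have := hli.fintype_card_le_finrank
  simpa using this

end gen

variable {F : Type} {V : Type} [Field F] [Finite F] [AddCommGroup V] [Module F V] [FiniteDimensional F V]
  {B : LinearMap.BilinForm F V} {G : Type} [Group G] {Ω : Type} [MulAction G Ω]
  {N : Subgroup G} {ρ : ↥(Sp B) →* G} {ι : Type} {x : ι → G} {r : ι → ℕ} {M : ι → SS B}

/-- a nondegenerate plane, `q = 5` -/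
theorem plane_dead (E : SpEnv Ω N ρ) (hx : PF x r)
    (hM : ∀ i, Lf ρ (x i) (M i)) (hl : ∀ i, (M i).IsLin) (hF5 : Nat.card F = 5)
    (bDec : ∀ A : Submodule F V, A ≠ ⊥ → A ≠ ⊤ → (∀ a ∈ A, (∀ b ∈ A, B a b = 0) → a = 0) →
      (∀ i, ∀ v ∈ A, M i v ∈ A) → (∀ i, ¬ (r i).Coprime (Nat.card F) → ¬ (M i).ScalOn A) →
      (∀ i j, ¬ (M i).ScalOn A → ¬ (M j).ScalOn A → i = j) → False)
    {W : Submodule F V} (hW0 : W ≠ ⊥) (hW1 : W ≠ ⊤) (hW : Nd B W) (hWi : ∀ i, ∀ v ∈ W, M i v ∈ W)
    (hWd : finrank F W = 2) (hWu : ∀ i, ¬ (r i).Coprime (Nat.card F) → ¬ (M i).ScalOn W)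
    (hno : ∀ i j, r i = 2 → r j = 3 → ¬ (M i).ScalOn W → ¬ (M j).ScalOn W → False) : False := by
  have hpow : ∀ i, ∃ b : F, b ≠ 0 ∧ ∀ v, (M i)^[r i] v = b • v := fun i => E.pow_scal (hM i) (hx.pow i)
  refine bDec W hW0 hW1 hW hWi hWu ?_
  by_cases hu : ∃ i0, ¬ (r i0).Coprime (Nat.card F)
  · obtain ⟨i0, hi0⟩ := hu
    have : CharP F (r i0) := charP_of hx hi0
    obtain ⟨t, c, hc, hMt, hxt, htp⟩ := exists_unip E (hx.prime i0) (hM i0) (hl i0) (hx.pow i0)
    have hti : ∀ v ∈ W, t.1 v ∈ W := by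
      intro v hv
      have h7 := W.smul_mem c⁻¹ (hWi i0 v hv)
      rw [hMt, smul_smul, inv_mul_cancel₀ hc, one_smul] at h7
      exact h7
    have hne : ∃ v ∈ W, t.1 v ≠ v := by
      by_contra hno
      push Not at hno
      apply hWu i0 hi0
      refine ⟨c, hc, fun v hv => ?_⟩
      rw [hMt, hno v hv]
    obtain ⟨e, -, -, c', -, -, hsc⟩ := plane_unip E.form (hx.prime i0) htp hW hWd hti hne
    have key : ∀ j, j ≠ i0 → (M j).ScalOn W := by
      intro j hj
      refine hsc (M j) (r j) (hl j) (hWi j) ?_ ?_ ?_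
      · intro v
        have h7 := comm_all E hx hM hl i0 j v
        rw [hMt, hMt, (hl j).map_smul] at h7
        have h8 := congrArg (fun w => c⁻¹ • w) h7
        simp only [smul_smul, inv_mul_cancel₀ hc, one_smul] at h8
        exact h8.symm
      · have hco : (r j).Coprime (Nat.card F) := by
          by_contra hno
          have h9 := charP_of hx hno
          exact hj (hx.inj (CharP.eq F h9 this))
        exact cast_ne hco (hx.prime i0)
      · obtain ⟨b, -, hb⟩ := hpow j
        exact ⟨b, hb⟩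
    intro i j hni hnj
    have h7 : i = i0 := by
      by_contra h
      exact hni (key i h)
    have h8 : j = i0 := by
      by_contra h
      exact hnj (key j h)
    rw [h7, h8]
  · push Not at hu
    intro i j hni hnj
    have h7 := ord_five hF5 (hl i) hWd (hWi i) (hx.prime i) (hu i) (hpow i) hni
    have h8 := ord_five hF5 (hl j) hWd (hWi j) (hx.prime j) (hu j) (hpow j) hnj
    apply hx.inj
    rcases h7 with h7 | h7 <;> rcases h8 with h8 | h8
    · rw [h7, h8]
    · exact (hno i j h7 h8 hni hnj).elim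
    · exact (hno j i h8 h7 hnj hni).elim
    · rw [h7, h8]

/-- the primes of `PSp_4(5)` -/
theorem prime_five [Finite G] (E : SpEnv Ω N ρ) (hx : PF x r)
    (hM : ∀ i, Lf ρ (x i) (M i)) (hl : ∀ i, (M i).IsLin) (hF5 : Nat.card F = 5) (h4 : finrank F V = 4) {k : ι}
    (h2 : r k ≠ 2) (h3 : r k ≠ 3) (h5 : r k ≠ 5) : r k = 13 := by
  have := Fintype.ofFinite F
  have hl0 := (M k).hl
  let t0 : V ≃ₗ[F] V := ((hl k).lin.trans (hl k).lin).trans
    (LinearEquiv.smulOfUnit (Units.mk0 (M k).l⁻¹ (inv_ne_zero hl0)))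
  have ht0 : ∀ v, t0 v = (M k).l⁻¹ • M k (M k v) := fun v => rfl
  have htm : t0 ∈ Sp B := by
    intro u v
    rw [ht0, ht0, _root_.map_smul, LinearMap.map_smul₂, (hl k).form, (hl k).form, smul_eq_mul, smul_eq_mul]
    field_simp
  have h6 : x k * x k = ρ ⟨t0, htm⟩ := by
    refine E.eq_of_lf ((hM k).mul (hM k)) hl0 fun v => ?_
    show M k (M k v) = (M k).l • t0 v
    rw [ht0, smul_smul, mul_inv_cancel₀ hl0, one_smul]
  have h7 : orderOf (x k) = r k := by
    rcases (Nat.dvd_prime (hx.prime k)).1 (orderOf_dvd_of_pow_eq_one (hx.pow k)) with h | h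
    · exact absurd (orderOf_eq_one_iff.1 h) (hx.ne k)
    · exact h
  have h8 : orderOf (x k * x k) = r k := by
    rw [← pow_two, orderOf_pow' _ two_ne_zero, h7]
    have : (r k).gcd 2 = 1 := by
      have := (Nat.coprime_primes (hx.prime k) Nat.prime_two).2 h2
      exact this.gcd_eq_one
    rw [this, Nat.div_one]
  have hfin : Finite (V ≃ₗ[F] V) := by
    have : Finite V := Module.finite_of_finite F
    exact Finite.of_injective (fun f : V ≃ₗ[F] V => (f : V → V)) DFunLike.coe_injective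
  have h9 : r k ∣ Nat.card (Sp B) := by
    rw [← h8, h6]
    exact (orderOf_map_dvd ρ _).trans (orderOf_dvd_natCard _)
  have h10 : Nat.card (Sp B) = 2 ^ 7 * 3 ^ 2 * 5 ^ 4 * 13 := by
    rw [card_isomGroup B E.form.alt E.form.nd (m := 2) (by rw [h4]), ← Nat.card_eq_fintype_card, hF5]
    norm_num [Finset.prod_range_succ]
  rw [h10] at h9
  have hp := hx.prime k
  rcases (Nat.Prime.dvd_mul hp).1 h9 with h | h
  · rcases (Nat.Prime.dvd_mul hp).1 h with h | h
    · rcases (Nat.Prime.dvd_mul hp).1 h with h | h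
      · exact absurd ((Nat.prime_dvd_prime_iff_eq hp Nat.prime_two).1 (hp.dvd_of_dvd_pow h)) h2
      · exact absurd ((Nat.prime_dvd_prime_iff_eq hp Nat.prime_three).1 (hp.dvd_of_dvd_pow h)) h3
    · exact absurd ((Nat.prime_dvd_prime_iff_eq hp Nat.prime_five).1 (hp.dvd_of_dvd_pow h)) h5
  · exact (Nat.prime_dvd_prime_iff_eq hp (by norm_num)).1 h

omit [Finite F] [FiniteDimensional F V] in
/-- an isometry of order `n` acting as a scalar on `W` is `1` on `W` -/
theorem one_of_scal {n : ℕ} (hinj : Function.Injective (fun a : F => a ^ n)) {t : V ≃ₗ[F] V}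
    (ht : ∀ v, t^[n] v = v) {c a : F} (hc : c ≠ 0) {W : Submodule F V} (h : ∀ v ∈ W, c • t v = a • v) :
    ∀ v ∈ W, t v = v := by
  have h7 : ∀ v ∈ W, t v = (c⁻¹ * a) • v := by
    intro v hv
    rw [mul_smul, ← h v hv, smul_smul, inv_mul_cancel₀ hc, one_smul]
  have h8 : ∀ (n : ℕ) (v : V), v ∈ W → t^[n] v = (c⁻¹ * a) ^ n • v := by
    intro n
    induction n with
    | zero => intro v _; rw [pow_zero, one_smul]; rfl
    | succ n ih =>
      intro v hv
      rw [Function.iterate_succ_apply, h7 v hv, iter_smul (fun a v => _root_.map_smul t a v), ih v hv,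
        smul_smul, pow_succ']
  intro v hv
  by_cases hv0 : v = 0
  · rw [hv0, _root_.map_zero]
  have h9 : (c⁻¹ * a) ^ n = 1 := by
    have h10 := h8 n v hv
    rw [ht] at h10
    have h11 : ((c⁻¹ * a) ^ n - 1) • v = 0 := by rw [sub_smul, one_smul, ← h10, sub_self]
    rcases smul_eq_zero.1 h11 with h12 | h12
    · exact sub_eq_zero.1 h12
    · exact absurd h12 hv0
  have h10 : c⁻¹ * a = 1 := by
    apply hinj
    show (c⁻¹ * a) ^ n = 1 ^ n
    rw [h9, one_pow]
  rw [h7 v hv, h10, one_smul]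

omit [Finite F] in
/-- a map commuting with `θ` and a nontrivial nilpotent `D`, of finite order prime to `p` modulo scalars, in dimension 4 -/
theorem in_quad {θ D : Module.End F V} {δ : F} (hδ : ¬ IsSquare δ) (hsq : ∀ v, θ (θ v) = δ • v)
    (hD : D ≠ 0) {m : ℕ} (hDm : D ^ m = 0) (hDθ : ∀ v, D (θ v) = θ (D v)) (h4 : finrank F V = 4)
    {L : Module.End F V} (hLθ : ∀ v, L (θ v) = θ (L v)) (hLD : ∀ v, L (D v) = D (L v)) {n : ℕ} (hn : (n : F) ≠ 0)
    {β : F} (hβ : β ≠ 0) (hLn : ∀ v, L^[n] v = β • v) : ∃ a b : F, ∀ v, L v = a • v + b • θ v := by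
  classical
  -- a vector
  obtain ⟨v, hv, hv2⟩ : ∃ v, D v ≠ 0 ∧ D (D v) = 0 := by
    have hex : ∃ k, D ^ k = 0 := ⟨m, hDm⟩
    have hmin := Nat.find_spec hex
    obtain ⟨k, hk⟩ : ∃ k, Nat.find hex = k + 2 := by
      rcases h : Nat.find hex with _ | _ | k
      · exfalso
        rw [h, pow_zero] at hmin
        apply hD
        have : D = D * 1 := (mul_one D).symm
        rw [this, hmin, mul_zero]
      · exfalso
        rw [h, zero_add, pow_one] at hmin
        exact hD hmin
      · exact ⟨k, rfl⟩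
    have h1 : D ^ (k + 1) ≠ 0 := Nat.find_min hex (by omega)
    obtain ⟨w, hw⟩ : ∃ w, (D ^ (k + 1)) w ≠ 0 := by
      by_contra hno
      push Not at hno
      exact h1 (LinearMap.ext hno)
    refine ⟨(D ^ k) w, ?_, ?_⟩
    · rw [← Module.End.mul_apply, ← pow_succ']
      exact hw
    · rw [← Module.End.mul_apply D (D ^ k), ← pow_succ', ← Module.End.mul_apply D (D ^ (k + 1)), ← pow_succ']
      have h2 : D ^ (k + 1 + 1) = 0 := by rw [← hmin, hk]
      rw [h2]
      rfl
  set e := D v with he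
  have hDe : D e = 0 := hv2
  have hDθe : D (θ e) = 0 := by rw [hDθ, hDe, _root_.map_zero]
  -- independence
  have hind : ∀ a b c d : F, a • v + b • θ v + (c • e + d • θ e) = 0 → a = 0 ∧ b = 0 ∧ c = 0 ∧ d = 0 := by
    intro a b c d h
    have h1 := congrArg D h
    simp only [map_add, _root_.map_smul, hDθ, hDe, _root_.map_zero, smul_zero, add_zero] at h1
    rw [← he] at h1
    obtain ⟨ha, hb⟩ := quad_inj hδ hsq hv h1
    rw [ha, hb, zero_smul, zero_smul, zero_add, zero_add] at h
    obtain ⟨hc, hd⟩ := quad_inj hδ hsq hv h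
    exact ⟨ha, hb, hc, hd⟩
  have hli : LinearIndependent F ![v, θ v, e, θ e] := by
    rw [Fintype.linearIndependent_iff]
    intro g hg
    rw [Fin.sum_univ_four] at hg
    change g 0 • v + g 1 • θ v + g 2 • e + g 3 • θ e = 0 at hg
    rw [add_assoc] at hg
    obtain ⟨h0, h1, h2, h3⟩ := hind _ _ _ _ hg
    intro k
    fin_cases k
    · exact h0
    · exact h1
    · exact h2
    · exact h3
  have hspan : ∀ w : V, ∃ a b c d : F, w = a • v + b • θ v + (c • e + d • θ e) := by
    intro w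
    have h1 : Submodule.span F (Set.range ![v, θ v, e, θ e]) = ⊤ := by
      apply Submodule.eq_top_of_finrank_eq
      rw [finrank_span_eq_card hli, h4]
      rfl
    have h2 : w ∈ Submodule.span F (Set.range ![v, θ v, e, θ e]) := by rw [h1]; trivial
    obtain ⟨g, hg⟩ := (Submodule.mem_span_range_iff_exists_fun F).1 h2
    rw [Fin.sum_univ_four] at hg
    change g 0 • v + g 1 • θ v + g 2 • e + g 3 • θ e = w at hg
    exact ⟨g 0, g 1, g 2, g 3, by rw [← hg, add_assoc]⟩
  obtain ⟨a, b, c, d, hLv⟩ := hspan (L v)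
  have hLe : L e = a • e + b • θ e := by
    rw [he, hLD, hLv]
    simp only [map_add, _root_.map_smul, hDθ, hDe, _root_.map_zero, smul_zero, add_zero, ← he]
  let α : Module.End F V := a • 1 + b • θ
  let γ : Module.End F V := c • 1 + d • θ
  have hα : ∀ w, α w = a • w + b • θ w := fun w => rfl
  have hγ : ∀ w, γ w = c • w + d • θ w := fun w => rfl
  have hLα : ∀ w, L (α w) = α (L w) := by
    intro w
    rw [hα, hα, _root_.map_add, _root_.map_smul, _root_.map_smul, hLθ]
  have hLγ : ∀ w, L (γ w) = γ (L w) := by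
    intro w
    rw [hγ, hγ, _root_.map_add, _root_.map_smul, _root_.map_smul, hLθ]
  have hDα : ∀ w, D (α w) = α (D w) := by
    intro w
    rw [hα, hα, _root_.map_add, _root_.map_smul, _root_.map_smul, hDθ]
  have hDγ : ∀ w, D (γ w) = γ (D w) := by
    intro w
    rw [hγ, hγ, _root_.map_add, _root_.map_smul, _root_.map_smul, hDθ]
  have hαγ : ∀ w, α (γ w) = γ (α w) := by
    intro w
    simp only [hα, hγ, _root_.map_add, _root_.map_smul, hsq, smul_add, smul_smul]
    rw [mul_comm a c, mul_comm b c, mul_comm a d, mul_left_comm b d δ]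
    abel
  have hLpow : ∀ (k : ℕ) (w : V), L ((α ^ k) w) = (α ^ k) (L w) := by
    intro k
    induction k with
    | zero => intro w; rfl
    | succ k ih =>
      intro w
      rw [pow_succ', Module.End.mul_apply, Module.End.mul_apply, hLα, ih]
  have hDpow : ∀ (k : ℕ) (w : V), D ((α ^ k) w) = (α ^ k) (D w) := by
    intro k
    induction k with
    | zero => intro w; rfl
    | succ k ih =>
      intro w
      rw [pow_succ', Module.End.mul_apply, Module.End.mul_apply, hDα, ih]
  have hγpow : ∀ (k : ℕ) (w : V), γ ((α ^ k) w) = (α ^ k) (γ w) := by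
    intro k
    induction k with
    | zero => intro w; rfl
    | succ k ih =>
      intro w
      rw [pow_succ', Module.End.mul_apply, Module.End.mul_apply, ← hαγ, ih]
  have hform : ∀ k : ℕ, ∃ p q : F, ∀ w, (α ^ k) w = p • w + q • θ w := by
    intro k
    induction k with
    | zero => exact ⟨1, 0, fun w => by rw [one_smul, zero_smul, add_zero]; rfl⟩
    | succ k ih =>
      obtain ⟨p, q, hpq⟩ := ih
      refine ⟨a * p + b * q * δ, a * q + b * p, fun w => ?_⟩
      rw [pow_succ', Module.End.mul_apply, hpq, hα]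
      simp only [_root_.map_add, _root_.map_smul, hsq, smul_add, smul_smul, add_smul]
      rw [mul_assoc b q δ]
      abel
  have hiter : ∀ k : ℕ, L^[k + 1] v = (α ^ (k + 1)) v + ((k + 1 : ℕ) : F) • (α ^ k) (γ e) := by
    intro k
    induction k with
    | zero =>
      show L v = _
      rw [zero_add, pow_one, pow_zero, Nat.cast_one, one_smul, hLv]
      rfl
    | succ k ih =>
      rw [Function.iterate_succ_apply', ih, _root_.map_add, _root_.map_smul, hLpow, hLpow, hLγ, hLv, hLe]
      have e1 : a • v + b • θ v + (c • e + d • θ e) = α v + γ e := rfl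
      have e2 : a • e + b • θ e = α e := rfl
      rw [e1, e2, _root_.map_add, ← hαγ, ← Module.End.mul_apply, ← pow_succ, ← Module.End.mul_apply (α ^ k) α,
        ← pow_succ, add_assoc]
      congr 1
      have e3 : ((k + 1 + 1 : ℕ) : F) = 1 + ((k + 1 : ℕ) : F) := by
        push_cast
        ring
      rw [e3, add_smul, one_smul]
  obtain ⟨k, rfl⟩ : ∃ k, n = k + 1 := by
    rcases n with _ | k
    · rw [Nat.cast_zero] at hn
      exact absurd rfl hn
    · exact ⟨k, rfl⟩
  have h1 := hiter k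
  rw [hLn] at h1
  -- apply `D`
  have h2 := congrArg D h1
  rw [_root_.map_add, _root_.map_smul, _root_.map_smul, hDpow, hDpow, hDγ, hDe, _root_.map_zero, _root_.map_zero,
    smul_zero, add_zero, ← he] at h2
  obtain ⟨p, q, hpq⟩ := hform (k + 1)
  have h3 : p = β ∧ q = 0 := by
    rw [hpq] at h2
    have h4 : (p - β) • e + q • θ e = 0 := by
      rw [sub_smul, h2]
      abel
    obtain ⟨h5, h6⟩ := quad_inj hδ hsq hv h4
    exact ⟨sub_eq_zero.1 h5, h6⟩
  obtain ⟨rfl, rfl⟩ := h3
  have h5 : ∀ w, (α ^ (k + 1)) w = p • w := fun w => by rw [hpq, zero_smul, add_zero]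
  rw [h5] at h1
  have h6 : (α ^ k) (γ e) = 0 := by
    have h7 : ((k + 1 : ℕ) : F) • (α ^ k) (γ e) = 0 := by
      have h8 := h1
      rw [eq_comm, add_eq_left] at h8
      exact h8
    rcases smul_eq_zero.1 h7 with h8 | h8
    · exact absurd h8 hn
    · exact h8
  have h7 : γ e = 0 := by
    have h8 := h5 (γ e)
    rw [pow_succ', Module.End.mul_apply, h6, _root_.map_zero] at h8
    rcases smul_eq_zero.1 h8.symm with h9 | h9
    · exact absurd h9 hβ
    · exact h9
  obtain ⟨hc0, hd0⟩ := quad_inj hδ hsq hv h7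
  refine ⟨a, b, fun w => ?_⟩
  have hLv' : L v = α v := by
    rw [hLv, hc0, hd0, zero_smul, zero_smul, add_zero, add_zero]
    rfl
  obtain ⟨a', b', c', d', rfl⟩ := hspan w
  have hLe' : L e = α e := hLe
  have hθα : ∀ w, α (θ w) = θ (α w) := by
    intro w
    rw [hα, hα, _root_.map_add, _root_.map_smul, _root_.map_smul]
  have e4 : ∀ x, α x = a • x + b • θ x := fun x => rfl
  rw [← e4]
  simp only [_root_.map_add, _root_.map_smul, hLθ, hLv', hLe', hθα]

/-- the case: no member of order 5, `X_2² = s²` -/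
theorem sq_case [Finite G] [Finite Ω] [Nonempty Ω] [Finite ι] (E : SpEnv Ω N ρ) (h2 : (2 : F) ≠ 0) (hx : PF x r)
    (hcov : Cov Ω x)
    (hM : ∀ i, Lf ρ (x i) (M i)) (hl : ∀ i, (M i).IsLin) (hF5 : Nat.card F = 5) (h4 : finrank F V = 4)
    (bDec : ∀ A : Submodule F V, A ≠ ⊥ → A ≠ ⊤ → (∀ a ∈ A, (∀ b ∈ A, B a b = 0) → a = 0) →
      (∀ i, ∀ v ∈ A, M i v ∈ A) → (∀ i, ¬ (r i).Coprime (Nat.card F) → ¬ (M i).ScalOn A) →
      (∀ i j, ¬ (M i).ScalOn A → ¬ (M j).ScalOn A → i = j) → False)
    (hall : ∀ k, (r k).Coprime (Nat.card F)) {i : ι} (hi : r i = 2) {s : F} (hs0 : s ≠ 0)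
    (hs : ∀ v, M i (M i v) = (s * s) • v) : False := by
  have hpow : ∀ i, ∃ b : F, b ≠ 0 ∧ ∀ v, (M i)^[r i] v = b • v := fun i => E.pow_scal (hM i) (hx.pow i)
  have hns : ¬ (M i).IsScal := fun h => hx.ne i ((E.eq_one_iff (hM i)).2 h)
  -- the eigenspaces
  let W : F → Submodule F V := fun c => LinearMap.eqLocus ((hl i).lin : V →ₗ[F] V) (c • LinearMap.id)
  have hW : ∀ c v, v ∈ W c ↔ M i v = c • v := fun c v => Iff.rfl
  have hWi : ∀ c k, ∀ v ∈ W c, M k v ∈ W c := by
    intro c k v hv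
    rw [hW] at hv ⊢
    rw [comm_all E hx hM hl i k v, hv, (hl k).map_smul]
  have hss : s ≠ -s := by
    intro h
    have h1 : 2 * s = 0 := by linear_combination h
    rcases mul_eq_zero.1 h1 with h | h
    · exact h2 h
    · exact hs0 h
  have hdis : Disjoint (W s) (W (-s)) := by
    rw [Submodule.disjoint_def]
    intro v h1 h3
    rw [hW] at h1 h3
    rw [h1] at h3
    have h5 : (s - -s) • v = 0 := by rw [sub_smul, h3, sub_self]
    rcases smul_eq_zero.1 h5 with h6 | h6
    · exact absurd (sub_eq_zero.1 h6) hss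
    · exact h6
  have hcod : ∀ v, ∃ a ∈ W s, ∃ b ∈ W (-s), v = a + b := by
    intro v
    refine ⟨(2 * s)⁻¹ • (s • v + M i v), ?_, (2 * s)⁻¹ • (s • v - M i v), ?_, ?_⟩
    · rw [hW, (hl i).map_smul, (M i).map_add, (hl i).map_smul, hs, smul_comm s (2 * s)⁻¹, smul_add s, smul_smul s s,
        add_comm]
    · rw [hW, (hl i).map_smul, (M i).map_sub, (hl i).map_smul, hs, smul_comm (-s) (2 * s)⁻¹, smul_sub (-s), smul_smul (-s) s]
      congr 1
      rw [neg_smul, neg_mul, neg_smul]
      abel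
    · rw [← smul_add]
      have e1 : s • v + M i v + (s • v - M i v) = (2 * s) • v := by
        rw [mul_smul, two_smul]
        abel
      rw [e1, smul_smul, inv_mul_cancel₀ (mul_ne_zero h2 hs0), one_smul]
  have hcompl : IsCompl (W s) (W (-s)) := by
    refine ⟨hdis, ?_⟩
    rw [codisjoint_iff, eq_top_iff]
    intro v _
    obtain ⟨a, ha, b, hb, e⟩ := hcod v
    rw [e]
    exact Submodule.add_mem_sup ha hb
  have hWtop : ∀ c, c ≠ 0 → W c ≠ ⊤ := by
    intro c hc h
    apply hns
    refine ⟨c, hc, fun v => ?_⟩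
    rw [← hW, h]
    trivial
  have hWbot : W s ≠ ⊥ := by
    intro h
    apply hWtop (-s) (neg_ne_zero.2 hs0)
    have h1 := hcompl.sup_eq_top
    rw [h, bot_sup_eq] at h1
    exact h1
  have hscal : (M i).ScalOn (W s) := ⟨s, hs0, fun v hv => hv⟩
  -- the multiplier
  have hl2 : (M i).l = s * s ∨ (M i).l = -(s * s) := by
    obtain ⟨w, hw⟩ := exists_vec E
    obtain ⟨w', hw'⟩ := E.form.exists_one hw
    have h1 : B (M i (M i w)) (M i (M i w')) = (M i).l * (M i).l := by
      rw [(hl i).form, (hl i).form, hw', mul_one]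
    rw [hs, hs, _root_.map_smul, LinearMap.map_smul₂, hw', smul_eq_mul, smul_eq_mul, mul_one] at h1
    have h3 : ((M i).l - s * s) * ((M i).l + s * s) = 0 := by linear_combination -h1
    rcases mul_eq_zero.1 h3 with h5 | h5
    · exact Or.inl (sub_eq_zero.1 h5)
    · exact Or.inr (eq_neg_of_add_eq_zero_left h5)
  -- at most one member is not scalar on a plane `W s`
  have hone : finrank F (W s) = 2 → ∀ k l, ¬ (M k).ScalOn (W s) → ¬ (M l).ScalOn (W s) → k = l := by
    intro hd k l hk hl'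
    have h7 := ord_five hF5 (hl k) hd (hWi s k) (hx.prime k) (hall k) (hpow k) hk
    have h8 := ord_five hF5 (hl l) hd (hWi s l) (hx.prime l) (hall l) (hpow l) hl'
    have h9 : ∀ m, r m = 2 → ¬ (M m).ScalOn (W s) → False := by
      intro m hm hmn
      have : m = i := hx.inj (by rw [hm, hi])
      rw [this] at hmn
      exact hmn hscal
    apply hx.inj
    rcases h7 with h7 | h7
    · exact (h9 k h7 hk).elim
    · rcases h8 with h8 | h8
      · exact (h9 l h8 hl').elim
      · rw [h7, h8]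
  rcases hl2 with hmu | hmu
  · -- nondegenerate eigenspaces
    have horth : ∀ a ∈ W s, ∀ b ∈ W (-s), B a b = 0 := by
      intro a ha b hb
      rw [hW] at ha hb
      have h1 := (hl i).form a b
      rw [ha, hb, hmu, _root_.map_smul, LinearMap.map_smul₂, smul_eq_mul, smul_eq_mul] at h1
      have h3 : (2 * (s * s)) * B a b = 0 := by linear_combination -h1
      rcases mul_eq_zero.1 h3 with h5 | h5
      · exact absurd h5 (mul_ne_zero h2 (mul_ne_zero hs0 hs0))
      · exact h5
    have hNd : Nd B (W s) := by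
      intro a ha h
      apply E.form.nd
      intro y
      obtain ⟨y1, hy1, y2, hy2, rfl⟩ := hcod y
      rw [map_add, h y1 hy1, horth a ha y2 hy2, add_zero]
    have hd : finrank F (W s) = 2 := by
      obtain ⟨k, hk⟩ := even_nd E.form hNd
      have h1 : 0 < finrank F (W s) := by
        rw [Nat.pos_iff_ne_zero]
        intro h0
        exact hWbot (Submodule.finrank_eq_zero.1 h0)
      have h3 : finrank F (W s) < finrank F V := Submodule.finrank_lt (hWtop s hs0)
      omega
    exact bDec (W s) hWbot (hWtop s hs0) hNd (hWi s) (fun k hk => absurd (hall k) hk) (hone hd)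
  · have htis : ∀ c, c * c = s * s → ∀ a ∈ W c, ∀ b ∈ W c, B a b = 0 := by
      intro c hc a ha b hb
      rw [hW] at ha hb
      have h1 := (hl i).form a b
      rw [ha, hb, hmu, _root_.map_smul, LinearMap.map_smul₂, smul_eq_mul, smul_eq_mul] at h1
      have h3 : (2 * (s * s)) * B a b = 0 := by linear_combination h1 - hc * B a b
      rcases mul_eq_zero.1 h3 with h5 | h5
      · exact absurd h5 (mul_ne_zero h2 (mul_ne_zero hs0 hs0))
      · exact h5
    have L : Cfsg.Agent.H686.RC.DD.LP B (W s) (W (-s)) :=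
      ⟨E.form, hcompl, htis s rfl, htis (-s) (by ring)⟩
    have hd := L.finrank_two
    exact Cfsg.Agent.H686.RC.DD.dead_D E h2 hx hcov hM hl hcompl (htis s rfl) (htis (-s) (by ring)) (hWi s) (hWi (-s))
      (hone (by omega)) (by omega)

/-- **D9**: `PSp_4(5)`, members of orders 2 and 3 present -/
theorem dead_five_of [Finite G] [Finite Ω] [Nonempty Ω] [Finite ι] (E : SpEnv Ω N ρ) (hIH : IH (Nat.card N))
    (hx : PF x r) (hcov : Cov Ω x)
    (hM : ∀ i, Lf ρ (x i) (M i)) (hl : ∀ i, (M i).IsLin) (hF5 : Nat.card F = 5) (h4 : finrank F V = 4)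
    (bDec : ∀ A : Submodule F V, A ≠ ⊥ → A ≠ ⊤ → (∀ a ∈ A, (∀ b ∈ A, B a b = 0) → a = 0) →
      (∀ i, ∀ v ∈ A, M i v ∈ A) → (∀ i, ¬ (r i).Coprime (Nat.card F) → ¬ (M i).ScalOn A) →
      (∀ i j, ¬ (M i).ScalOn A → ¬ (M j).ScalOn A → i = j) → False)
    (i j : ι) (hi : r i = 2) (hj : r j = 3) : False := by
  classical
  have := Fintype.ofFinite F
  have hcard : Fintype.card F = 5 := by rw [← Nat.card_eq_fintype_card, hF5]
  have hc5 : (5 : F) = 0 := by
    have h := FiniteField.cast_card_eq_zero F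
    rw [hcard] at h
    exact_mod_cast h
  have h2 : (2 : F) ≠ 0 := by
    intro h
    have h1 : (1 : F) = 0 := by linear_combination hc5 - 2 * h
    exact one_ne_zero h1
  have h3 : (3 : F) ≠ 0 := by
    intro h
    have h1 : (1 : F) = 0 := by linear_combination 2 * h - hc5
    exact one_ne_zero h1
  have hpow4 : ∀ a : F, a ≠ 0 → a * a ^ 3 = 1 := by
    intro a ha
    have h1 := FiniteField.pow_card_sub_one_eq_one a ha
    rw [hcard] at h1
    rw [← pow_succ']
    exact h1
  have hinj : Function.Injective (fun a : F => a ^ 3) := by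
    intro a b hab
    change a ^ 3 = b ^ 3 at hab
    by_cases ha : a = 0
    · rw [ha, zero_pow three_ne_zero] at hab
      rw [ha]
      exact (pow_eq_zero_iff three_ne_zero).1 hab.symm |>.symm
    · have hb : b ≠ 0 := by
        rintro rfl
        rw [zero_pow three_ne_zero] at hab
        exact ha ((pow_eq_zero_iff three_ne_zero).1 hab)
      have h5 := hpow4 a ha
      have h6 := hpow4 b hb
      rw [← h6, hab] at h5
      exact mul_right_cancel₀ (pow_ne_zero 3 hb) h5
  have hex : ¬ (Nat.card F = 3 ∧ finrank F V = 4) := by omega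
  have hcomm := comm_all E hx hM hl
  have hpow : ∀ i, ∃ b : F, b ≠ 0 ∧ ∀ v, (M i)^[r i] v = b • v := fun i => E.pow_scal (hM i) (hx.pow i)
  have hns : ∀ k, ¬ (M k).IsScal := fun k h => hx.ne k ((E.eq_one_iff (hM k)).2 h)
  obtain ⟨t, c, hc, hMt, hxt, htp⟩ := exists_isom E three_ne_zero hinj (hM j) (hl j) (by rw [← hj]; exact hx.pow j)
  have ht3 : ∀ v, t.1 (t.1 (t.1 v)) = v := htp
  have htc : ∀ k v, M k (t.1 v) = t.1 (M k v) := by
    intro k v
    have h7 := hcomm j k v
    rw [hMt, hMt, (hl k).map_smul] at h7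
    have h8 := congrArg (fun w => c⁻¹ • w) h7
    simp only [smul_smul, inv_mul_cancel₀ hc, one_smul] at h8
    exact h8.symm
  have ht1 : ¬ ∀ v, t.1 v = v := by
    intro h
    apply hns j
    exact ⟨c, hc, fun v => by rw [hMt, h]⟩
  -- the fixed space of `X_3`
  let V1 : Submodule F V := LinearMap.eqLocus (t.1 : V →ₗ[F] V) LinearMap.id
  have hV1 : ∀ v, v ∈ V1 ↔ t.1 v = v := fun v => Iff.rfl
  have hV1i : ∀ k, ∀ v ∈ V1, M k v ∈ V1 := by
    intro k v hv
    rw [hV1] at hv ⊢
    rw [← htc, hv]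
  have hsum : ∀ v, v + t.1 v + t.1 (t.1 v) ∈ V1 := by
    intro v
    rw [hV1, _root_.map_add, _root_.map_add, ht3]
    abel
  have hNd : Nd B V1 := by
    intro v hv h
    apply E.form.nd
    intro y
    have h5 := h _ (hsum y)
    have h6 : ∀ z, B v (t.1 z) = B v z := by
      intro z
      conv_lhs => rw [← (hV1 v).1 hv]
      exact t.2 v z
    rw [map_add, map_add, h6, h6, h6] at h5
    have h7 : 3 * B v y = 0 := by linear_combination h5
    rcases mul_eq_zero.1 h7 with h8 | h8
    · exact absurd h8 h3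
    · exact h8
  have hV1top : V1 ≠ ⊤ := by
    intro h
    apply ht1
    intro v
    rw [← hV1, h]
    trivial
  by_cases hV : V1 = ⊥
  swap
  · -- case (a)
    have hd : finrank F V1 = 2 := by
      obtain ⟨k, hk⟩ := even_nd E.form hNd
      have h1 : 0 < finrank F V1 := by
        rw [Nat.pos_iff_ne_zero]
        intro h0
        exact hV (Submodule.finrank_eq_zero.1 h0)
      have h3 : finrank F V1 < finrank F V := Submodule.finrank_lt hV1top
      omega
    have hjs : (M j).ScalOn V1 := ⟨c, hc, fun v hv => by rw [hMt, (hV1 v).1 hv]⟩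
    refine plane_dead E hx hM hl hF5 bDec hV hV1top hNd hV1i hd ?_ ?_
    · intro i0 hi0 hs0
      have hcp : CharP F (r i0) := charP_of hx hi0
      obtain ⟨u, d, hd0, hMu, hxu, hup⟩ := exists_unip E (hx.prime i0) (hM i0) (hl i0) (hx.pow i0)
      have : Fact (r i0).Prime := ⟨hx.prime i0⟩
      have hinj0 : Function.Injective (fun a : F => a ^ (r i0)) := frobenius_inj F (r i0)
      have hu1 : ∀ W : Submodule F V, (M i0).ScalOn W → ∀ v ∈ W, u.1 v = v := by
        rintro W ⟨a, -, ha⟩
        exact one_of_scal hinj0 hup hd0 (fun v hv => by rw [← hMu, ha v hv])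
      have hOn := nd_orth E.form hNd
      have hOi : ∀ k, ∀ v ∈ B.orthogonal V1, M k v ∈ B.orthogonal V1 := fun k => inv_orth E.form (hl k) (hV1i k)
      have hOd : finrank F (B.orthogonal V1) = 2 := by
        have := finrank_orth E.form hNd
        omega
      by_cases hs1 : (M i0).ScalOn (B.orthogonal V1)
      · apply hns i0
        refine ⟨d, hd0, fun v => ?_⟩
        obtain ⟨a, ha, b, hb, rfl⟩ := decomp E.form hNd v
        rw [hMu, _root_.map_add, hu1 V1 hs0 a ha, hu1 _ hs1 b hb]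
      · have hui : ∀ v ∈ B.orthogonal V1, u.1 v ∈ B.orthogonal V1 := by
          intro v hv
          have h7 := (B.orthogonal V1).smul_mem d⁻¹ (hOi i0 v hv)
          rw [hMu, smul_smul, inv_mul_cancel₀ hd0, one_smul] at h7
          exact h7
        have hne : ∃ v ∈ B.orthogonal V1, u.1 v ≠ v := by
          by_contra hno
          push Not at hno
          apply hs1
          refine ⟨d, hd0, fun v hv => ?_⟩
          rw [hMu, hno v hv]
        obtain ⟨e, -, -, c', -, -, hsc⟩ := plane_unip E.form (hx.prime i0) hup hOn hOd hui hne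
        have hji : (M j).ScalOn (B.orthogonal V1) := by
          refine hsc (M j) (r j) (hl j) (hOi j) ?_ ?_ ?_
          · intro v
            have h7 := hcomm i0 j v
            rw [hMu, hMu, (hl j).map_smul] at h7
            have h8 := congrArg (fun w => d⁻¹ • w) h7
            simp only [smul_smul, inv_mul_cancel₀ hd0, one_smul] at h8
            exact h8.symm
          · rw [hj]
            exact_mod_cast h3
          · obtain ⟨b, -, hb⟩ := hpow j
            exact ⟨b, hb⟩
        obtain ⟨a, -, ha⟩ := hji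
        have h9 := one_of_scal hinj htp hc (W := B.orthogonal V1) (fun v hv => by rw [← hMt, ha v hv])
        apply ht1
        intro v
        obtain ⟨a, ha, b, hb, rfl⟩ := decomp E.form hNd v
        rw [_root_.map_add, (hV1 a).1 ha, h9 b hb]
    · intro i' j' _ hj' _ hn
      have h5 : j' = j := hx.inj (by rw [hj', hj])
      rw [h5] at hn
      exact hn hjs
  -- case (b)
  have hq : ∀ v, v + t.1 v + t.1 (t.1 v) = 0 := by
    intro v
    have h5 := hsum v
    rw [hV, Submodule.mem_bot] at h5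
    exact h5
  have htt : ∀ v, t.1 (t.1 v) = -v - t.1 v := by
    intro v
    have h5 := hq v
    rw [← sub_eq_zero, ← h5]
    abel
  let θ : Module.End F V := (2 : F) • (t.1 : V →ₗ[F] V) + 1
  have hθ : ∀ v, θ v = (2 : F) • t.1 v + v := fun v => rfl
  have hsq : ∀ v, θ (θ v) = (-3 : F) • v := by
    intro v
    rw [hθ, hθ, _root_.map_add, _root_.map_smul, htt]
    have e1 : (2 : F) • ((2 : F) • (-v - t.1 v) + t.1 v) + ((2 : F) • t.1 v + v) =
      ((-3 : F) • v) := by
      simp only [smul_add, smul_sub, smul_neg, smul_smul]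
      module
    exact e1
  have hδ : ¬ IsSquare (-3 : F) := by
    rintro ⟨a, ha⟩
    have ha0 : a ≠ 0 := by
      rintro rfl
      apply h3
      linear_combination -ha
    have h5 := hpow4 a ha0
    have h6 : (1 : F) = 9 := by
      rw [← h5]
      linear_combination (-a * a + 3) * ha
    apply h3
    linear_combination -h6 - hc5
  have hθs : ∀ u v, B (θ u) v = - B u (θ v) := by
    intro u v
    rw [hθ, hθ, map_add, LinearMap.add_apply, LinearMap.map_smul₂, map_add, _root_.map_smul, smul_eq_mul, smul_eq_mul]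
    have h5 : B (t.1 u) v = - B u v - B u (t.1 v) := by
      have h6 := t.2 (t.1 u) v
      rw [htt, map_sub, map_neg, LinearMap.sub_apply, LinearMap.neg_apply] at h6
      have h7 := t.2 u v
      rw [← h6, h7]
      ring
    rw [h5]
    ring
  have hθc : ∀ k v, M k (θ v) = θ (M k v) := by
    intro k v
    rw [hθ, hθ, (M k).map_add, (hl k).map_smul, htc]
  have hjθ : ∃ a b : F, ∀ v, M j v = a • v + b • θ v := by
    refine ⟨-(c * 2⁻¹), c * 2⁻¹, fun v => ?_⟩
    rw [hMt, hθ, smul_add, smul_smul, mul_assoc, inv_mul_cancel₀ h2, mul_one, neg_smul]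
    abel
  by_cases hu : ∃ i0, ¬ (r i0).Coprime (Nat.card F)
  · -- a member of order 5
    obtain ⟨i0, hi0⟩ := hu
    have hcp : CharP F (r i0) := charP_of hx hi0
    obtain ⟨u, d, hd0, hMu, hxu, hup⟩ := exists_unip E (hx.prime i0) (hM i0) (hl i0) (hx.pow i0)
    have : Fact (r i0).Prime := ⟨hx.prime i0⟩
    obtain ⟨w0, hw0⟩ := exists_vec E
    have : Nontrivial V := ⟨⟨w0, 0, hw0⟩⟩
    have : CharP (Module.End F V) (r i0) :=
      charP_of_injective_algebraMap (algebraMap F (Module.End F V)).injective (r i0)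
    let D : Module.End F V := (u.1 : V →ₗ[F] V) - 1
    have hD : ∀ v, D v = u.1 v - v := fun v => rfl
    have hDp : D ^ (r i0) = 0 := by
      have h1 : D ^ (r i0) = (u.1 : V →ₗ[F] V) ^ (r i0) - 1 ^ (r i0) :=
        sub_pow_char_of_commute (r i0) (Commute.one_right _)
      rw [h1, one_pow, sub_eq_zero]
      apply LinearMap.ext
      intro v
      rw [Module.End.pow_apply]
      exact hup v
    have huc : ∀ k v, M k (u.1 v) = u.1 (M k v) := by
      intro k v
      have h7 := hcomm i0 k v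
      rw [hMu, hMu, (hl k).map_smul] at h7
      have h8 := congrArg (fun w => d⁻¹ • w) h7
      simp only [smul_smul, inv_mul_cancel₀ hd0, one_smul] at h8
      exact h8.symm
    have hut : ∀ v, u.1 (t.1 v) = t.1 (u.1 v) := by
      intro v
      have h7 := huc j v
      rw [hMt, hMt, _root_.map_smul] at h7
      have h8 := congrArg (fun w => c⁻¹ • w) h7
      simp only [smul_smul, inv_mul_cancel₀ hc, one_smul] at h8
      exact h8.symm
    have hD0 : D ≠ 0 := by
      intro h
      apply hns i0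
      refine ⟨d, hd0, fun v => ?_⟩
      have h7 := LinearMap.congr_fun h v
      rw [hD, LinearMap.zero_apply, sub_eq_zero] at h7
      rw [hMu, h7]
    have hDθ : ∀ v, D (θ v) = θ (D v) := by
      intro v
      rw [hD, hD, hθ, hθ, _root_.map_add, _root_.map_smul, hut, _root_.map_sub, smul_sub]
      abel
    refine Cfsg.Agent.H8.RC.dead_her E h2 hx hcov hM hl θ hδ hsq hθs hθc ?_ hex
    have key : ∀ k, k ≠ i0 → ∃ a b : F, ∀ v, M k v = a • v + b • θ v := by
      intro k hk
      obtain ⟨β, hβ, hβk⟩ := hpow k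
      have hco : (r k).Coprime (Nat.card F) := by
        by_contra hno
        have h9 := charP_of hx hno
        exact hk (hx.inj (CharP.eq F h9 hcp))
      exact in_quad (θ := θ) (D := D) (L := ((hl k).lin : V →ₗ[F] V)) hδ hsq hD0 hDp hDθ h4 (fun v => hθc k v)
        (fun v => by
          show M k (D v) = D (M k v)
          rw [hD, hD, (M k).map_sub, huc]) (cast_ne hco (hx.prime i0)) hβ hβk
    intro k l hk hl'
    have h7 : k = i0 := by
      by_contra h
      exact hk (key k h)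
    have h8 : l = i0 := by
      by_contra h
      exact hl' (key l h)
    rw [h7, h8]
  push Not at hu
  obtain ⟨lam, hlam0, hlam⟩ := hpow i
  rw [hi] at hlam
  have hlam' : ∀ v, M i (M i v) = lam • v := hlam
  -- other primes
  have hother : ∀ k, k ≠ i → k ≠ j → r k = 13 := by
    intro k hki hkj
    refine prime_five E hx hM hl hF5 h4 ?_ ?_ ?_
    · intro h
      exact hki (hx.inj (by rw [h, hi]))
    · intro h
      exact hkj (hx.inj (by rw [h, hj]))
    · intro h
      have := hu k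
      rw [h, hF5] at this
      norm_num at this
  by_cases hsqr : IsSquare lam
  · obtain ⟨s, hs⟩ := hsqr
    have hs0 : s ≠ 0 := by
      rintro rfl
      rw [mul_zero] at hs
      exact hlam0 hs
    exact sq_case E h2 hx hcov hM hl hF5 h4 bDec hu hi hs0 (fun v => by rw [hlam', hs])
  -- the multiplier
  have hl2 : (M i).l = lam ∨ (M i).l = -lam := by
    obtain ⟨w, hw⟩ := exists_vec E
    obtain ⟨w', hw'⟩ := E.form.exists_one hw
    have h1 : B (M i (M i w)) (M i (M i w')) = (M i).l * (M i).l := by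
      rw [(hl i).form, (hl i).form, hw', mul_one]
    rw [hlam', hlam', _root_.map_smul, LinearMap.map_smul₂, hw', smul_eq_mul, smul_eq_mul, mul_one] at h1
    have h3 : ((M i).l - lam) * ((M i).l + lam) = 0 := by linear_combination -h1
    rcases mul_eq_zero.1 h3 with h5 | h5
    · exact Or.inl (sub_eq_zero.1 h5)
    · exact Or.inr (eq_neg_of_add_eq_zero_left h5)
  rcases hl2 with hmu | hmu
  · exact Cfsg.Agent.H579.RC.dead_sym E hIH h2 hx hcov hM hl i hsqr hlam' hmu (fun h => by omega)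
  -- `mu = -lam`
  obtain ⟨s, hs0, hs⟩ : ∃ s : F, s ≠ 0 ∧ s * s * lam = -3 := by
    have h30 : (-3 : F) ≠ 0 := neg_ne_zero.2 h3
    have hchar : ringChar F ≠ 2 := by
      intro h
      apply h2
      have h5 := (ringChar.spec F 2).2 (by rw [h])
      exact_mod_cast h5
    have hdi : ∀ a : F, a ≠ 0 → ¬ IsSquare a → a ^ 2 = -1 := by
      intro a ha hn
      have h5 := FiniteField.pow_dichotomy hchar ha
      rw [hcard] at h5
      rcases h5 with h5 | h5
      · exfalso
        apply hn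
        rw [FiniteField.isSquare_iff hchar ha, hcard]
        exact h5
      · exact h5
    have h5 : IsSquare (-3 * lam) := by
      rw [FiniteField.isSquare_iff hchar (mul_ne_zero h30 hlam0), hcard]
      show (-3 * lam) ^ 2 = 1
      rw [mul_pow, hdi _ h30 hδ, hdi _ hlam0 hsqr]
      ring
    obtain ⟨w, hw⟩ := h5
    refine ⟨w * lam⁻¹, ?_, ?_⟩
    · refine mul_ne_zero ?_ (inv_ne_zero hlam0)
      rintro rfl
      rw [mul_zero] at hw
      exact mul_ne_zero h30 hlam0 hw
    · have e1 : w * lam⁻¹ * (w * lam⁻¹) * lam = (w * w) * lam⁻¹ * (lam⁻¹ * lam) := by ring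
      rw [e1, inv_mul_cancel₀ hlam0, mul_one, ← hw, mul_assoc, mul_inv_cancel₀ hlam0, mul_one]
  have hbad : ∀ s : F, s ≠ 0 → (∀ v, θ v = s • M i v) → False := by
    intro s hs0 h
    have hiθ : ∃ a b : F, ∀ v, M i v = a • v + b • θ v :=
      ⟨0, s⁻¹, fun v => by rw [zero_smul, zero_add, h, smul_smul, inv_mul_cancel₀ hs0, one_smul]⟩
    refine Cfsg.Agent.H8.RC.dead_her E h2 hx hcov hM hl θ hδ hsq hθs hθc ?_ hex
    intro k l hk hl'
    have h5 : ∀ m, (¬ ∃ a b : F, ∀ v, M m v = a • v + b • θ v) → r m = 13 := by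
      intro m hm
      refine hother m ?_ ?_
      · rintro rfl
        exact hm hiθ
      · rintro rfl
        exact hm hjθ
    exact hx.inj (by rw [h5 k hk, h5 l hl'])
  let W : F → Submodule F V := fun c => LinearMap.eqLocus θ (c • ((hl i).lin : V →ₗ[F] V))
  have hW : ∀ c v, v ∈ W c ↔ θ v = c • M i v := fun c v => Iff.rfl
  have hWi : ∀ c k, ∀ v ∈ W c, M k v ∈ W c := by
    intro c k v hv
    rw [hW] at hv ⊢
    rw [← hθc, hv, (hl k).map_smul, hcomm]
  have h6 : (-6 : F) ≠ 0 := by
    have : (-6 : F) = -(2 * 3) := by norm_num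
    rw [this]
    exact neg_ne_zero.2 (mul_ne_zero h2 h3)
  have hcod1 : ∀ (c : F), c * c * lam = -3 → ∀ v, (-6 : F)⁻¹ • ((-3 : F) • v + c • M i (θ v)) ∈ W c := by
    intro c hc v
    rw [hW, (hl i).map_smul, (M i).map_add, (hl i).map_smul, (hl i).map_smul, hlam', _root_.map_smul, _root_.map_add,
      _root_.map_smul, _root_.map_smul, ← hθc, hsq, (hl i).map_smul, smul_comm c (-6 : F)⁻¹, smul_add c,
      smul_smul c c, smul_smul (c * c) lam, hc, smul_comm c (-3 : F) (M i v)]
    congr 1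
    abel
  have hcod : ∀ v, ∃ a ∈ W s, ∃ b ∈ W (-s), v = a + b := by
    intro v
    refine ⟨_, hcod1 s hs v, _, hcod1 (-s) (by rw [neg_mul_neg, hs]) v, ?_⟩
    rw [← smul_add]
    have e1 : (-3 : F) • v + s • M i (θ v) + ((-3 : F) • v + (-s) • M i (θ v)) = (-6 : F) • v := by
      rw [neg_smul s]
      have e2 : (-6 : F) • v = (-3 : F) • v + (-3 : F) • v := by
        rw [← add_smul]
        norm_num
      rw [e2]
      abel
    rw [e1, smul_smul, inv_mul_cancel₀ h6, one_smul]
  have hiscal0 : ∀ v, M i v = 0 → v = 0 := fun v hv => (M i).injective (by rw [hv, (M i).map_zero])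
  have hdis : Disjoint (W s) (W (-s)) := by
    rw [Submodule.disjoint_def]
    intro v h1 h5
    rw [hW] at h1 h5
    rw [h1] at h5
    have h7 : (2 * s) • M i v = 0 := by
      rw [two_mul, add_smul]
      nth_rewrite 2 [h5]
      rw [neg_smul, add_neg_cancel]
    rcases smul_eq_zero.1 h7 with h8 | h8
    · exact absurd h8 (mul_ne_zero h2 hs0)
    · exact hiscal0 v h8
  have hcompl : IsCompl (W s) (W (-s)) := by
    refine ⟨hdis, ?_⟩
    rw [codisjoint_iff, eq_top_iff]
    intro v _
    obtain ⟨a, ha, b, hb, e⟩ := hcod v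
    rw [e]
    exact Submodule.add_mem_sup ha hb
  have hWtop : ∀ c, c ≠ 0 → W c ≠ ⊤ := by
    intro c hc h
    refine hbad c hc fun v => ?_
    rw [← hW, h]
    trivial
  have hWbot : W s ≠ ⊥ := by
    intro h
    apply hWtop (-s) (neg_ne_zero.2 hs0)
    have h1 := hcompl.sup_eq_top
    rw [h, bot_sup_eq] at h1
    exact h1
  have hWbot' : W (-s) ≠ ⊥ := by
    intro h
    apply hWtop s hs0
    have h1 := hcompl.sup_eq_top
    rw [h, sup_bot_eq] at h1
    exact h1
  have hd1 : 2 ≤ finrank F (W s) := two_le_of_quad hsqr (fun a v => (hl i).map_smul a v) hlam' hWbot (hWi s i)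
  have hd2 : 2 ≤ finrank F (W (-s)) := two_le_of_quad hsqr (fun a v => (hl i).map_smul a v) hlam' hWbot' (hWi (-s) i)
  have hd3 := Submodule.finrank_add_eq_of_isCompl hcompl
  -- no other members
  have hno : ∀ k, k ≠ i → k ≠ j → False := by
    intro k hki hkj
    have h13 := hother k hki hkj
    obtain ⟨β, hβ, hβk⟩ := hpow k
    have hsc : ∀ U : Submodule F V, finrank F U = 2 → (∀ v ∈ U, M k v ∈ U) → (M k).ScalOn U := by
      intro U hU hUi
      by_contra hn
      rcases ord_five hF5 (hl k) hU hUi (hx.prime k) (hu k) (hpow k) hn with h | h <;> omega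
    obtain ⟨a, ha, hak⟩ := hsc (W s) (by omega) (hWi s k)
    obtain ⟨b, hb, hbk⟩ := hsc (W (-s)) (by omega) (hWi (-s) k)
    have hval : ∀ (U : Submodule F V) (a : F), U ≠ ⊥ → a ≠ 0 → (∀ v ∈ U, M k v = a • v) → a = β := by
      intro U a hU ha h
      obtain ⟨v, hv, hv0⟩ := Submodule.exists_mem_ne_zero_of_ne_bot hU
      have h7 : ∀ n : ℕ, (M k)^[n] v = a ^ n • v := by
        intro n
        induction n with
        | zero => rw [pow_zero, one_smul]; rfl
        | succ n ih =>
          rw [Function.iterate_succ_apply', ih, (hl k).map_smul, h v hv, smul_smul, pow_succ]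
      have h8 := h7 (r k)
      rw [hβk, h13] at h8
      have h9 : (β - a ^ 13) • v = 0 := by rw [sub_smul, h8, sub_self]
      rcases smul_eq_zero.1 h9 with h10 | h10
      · have h11 := hpow4 a ha
        have h12 : a ^ 13 = (a * a ^ 3) ^ 3 * a := by ring
        rw [h12, h11, one_pow, one_mul] at h10
        exact (sub_eq_zero.1 h10).symm
      · exact absurd h10 hv0
    have ha' := hval _ a hWbot ha hak
    have hb' := hval _ b hWbot' hb hbk
    apply hns k
    refine ⟨β, hβ, fun v => ?_⟩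
    obtain ⟨y1, hy1, y2, hy2, rfl⟩ := hcod v
    rw [(M k).map_add, hak y1 hy1, hbk y2 hy2, ha', hb', smul_add]
  refine Cfsg.Agent.H8.RC.dead_her E h2 hx hcov hM hl ((hl i).lin : V →ₗ[F] V) hsqr hlam' ?_ ?_ ?_ hex
  · intro u v
    show B (M i u) v = - B u (M i v)
    have h7 : v = lam⁻¹ • M i (M i v) := by rw [hlam', smul_smul, inv_mul_cancel₀ hlam0, one_smul]
    conv_lhs => rw [h7]
    rw [_root_.map_smul, (hl i).form, hmu, smul_eq_mul, neg_mul, mul_neg, ← mul_assoc, inv_mul_cancel₀ hlam0, one_mul]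
  · intro k v
    exact hcomm k i v
  · intro k l hk hl'
    have h7 : ∀ m, (¬ ∃ a b : F, ∀ v, M m v = a • v + b • ((hl i).lin : V →ₗ[F] V) v) → m = j := by
      intro m hm
      by_contra hmj
      by_cases hmi : m = i
      · apply hm
        refine ⟨0, 1, fun v => ?_⟩
        rw [zero_smul, zero_add, one_smul, hmi]
        rfl
      · exact hno m hmi hmj
    rw [h7 k hk, h7 l hl']

end Cfsg.Agent.H810.RC
end

section
prune_inst 0xffeefffffc2ffedfff7e7fa7d8cffc3bd19fffe6dff94bffe4ebff1bff839a2be5fbad09e090fe4ef6e03418b87843fb7eeeffe36fdc7ffffdfff45ffbee0ff5f7bd0951d78c340f3c0ff703f0778e7f000000000000000000000000000010000200000000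

-- part: H510/Tri3/SUTwo
section
prune_inst 0xd0010000018000060001c42a2000002004800000040040004c00c4020010821b03001101030084440300048110000000208000000000000011800800001000280080008000000000000000000000000000000000000000000000000000000000
set_option linter.all false
open scoped Cfsg.Agent.FastGrp

/-!
# S3510, triality type iii: the M-rule for `SU₂(K)` on a 4-dimensional summand (helper510)

`W` a nondegenerate 4-dimensional subspace of `V` with a hermitian structure over the quadratic extension `K` of `F`,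
the lifts of all members of a cover preserve `W` and act `K`-linearly on it; the orders of the members which are not
`K`-scalar on `W` are pairwise different, no member has order `p`: contradiction.
-/

set_option autoImplicit false
set_option linter.unusedSectionVars false
open Cfsg

namespace Cfsg.Agent.H510.Tri3

open QuadraticMap Module MulAction
open Cfsg.Agent.LieClassical.OrthCore Cfsg.Agent.LieClassical.HermBasic Cfsg.Agent.LieClassical.HermSiegel
open Cfsg.Agent.LieClassical.OrthTrans Cfsg.Agent.ClassicalGeometry.OrthSemi Cfsg.Agent.ClassicalGeometry.OrthAut1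
open Cfsg.Agent.H106.RC Cfsg.Agent.H93.RC Cfsg.Agent.H188.RC Cfsg.Agent.GenOrth Cfsg.Agent.H338.RC

section gen

variable {F V : Type} [Field F] [AddCommGroup V] [Module F V] {Q : QuadraticForm F V} {V' : Type}
  [AddCommGroup V'] [Module F V'] {Q' : QuadraticForm F V'}

theorem ext_mem_O (e : Emb Q Q') {g : V' ≃ₗ[F] V'} (hg : g ∈ O Q') : e.ext g ∈ O Q := by
  intro v
  rw [Emb.ext_apply]
  have h1 : Q (v + e.j (g (e.π v) - e.π v)) = Q v + Q (e.j (g (e.π v) - e.π v)) +
      polar Q v (e.j (g (e.π v) - e.π v)) := by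
    rw [polar]; ring
  have h2 : Q' (g (e.π v)) = Q' (g (e.π v) - e.π v) + Q' (e.π v) + polar Q' (g (e.π v) - e.π v) (e.π v) := by
    have : g (e.π v) = (g (e.π v) - e.π v) + e.π v := by abel
    conv_lhs => rw [this]
    rw [polar]; ring
  rw [h1, e.hQ, QuadraticMap.polar_comm Q v, e.adj]
  have h3 : Q' (g (e.π v)) = Q' (e.π v) := hg _
  rw [h3] at h2
  linear_combination (-e.c) * h2

end gen

section herm

variable {F K V : Type} [Field F] [Finite F] [Field K] [Fintype K] [Algebra F K] [AddCommGroup V] [Module F V]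
  [FiniteDimensional F V] {Q : QuadraticForm F V} {W : Submodule F V} [Module K W] [IsScalarTower F K W] {q : ℕ}
  {G Ω : Type} [Group G] [MulAction G Ω] {N : Subgroup G} {ρ : ↥(E Q) →* G} {m : ℕ}

theorem suW_mem (h : HK (Q.comp W.subtype) K q) (hG : Good Q) {φ : W ≃ₗ[K] (Fin m → K)}
    (hφ : ∀ v w, h.hm v w = hermForm m K q (φ v) (φ w)) (hperf : commutator (SU m K q) = ⊤) (g : SU m K q) :
    (embW h.nondeg).ext (HK.su (F := F) φ g) ∈ E Q := by
  rw [← hG.commutator_eq_E]
  have h1 : g ∈ commutator (SU m K q) := by rw [hperf]; trivial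
  have h2 : (embW h.nondeg).ext (HK.su (F := F) φ g) ∈
      (commutator (SU m K q)).map ((embW h.nondeg).ext.comp (HK.su φ)) := ⟨g, h1, rfl⟩
  rw [commutator_def, Subgroup.map_commutator] at h2
  have h3 : (⊤ : Subgroup (SU m K q)).map ((embW h.nondeg).ext.comp (HK.su (F := F) φ)) ≤ O Q := by
    rintro _ ⟨g, -, rfl⟩
    exact ext_mem_O _ (h.su_mem_O hφ g)
  exact Subgroup.commutator_mono h3 h3 h2

/-- the special unitary group of `W` in `E Q` -/
noncomputable def suW (h : HK (Q.comp W.subtype) K q) (hG : Good Q) {φ : W ≃ₗ[K] (Fin m → K)}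
    (hφ : ∀ v w, h.hm v w = hermForm m K q (φ v) (φ w)) (hperf : commutator (SU m K q) = ⊤) : SU m K q →* ↥(E Q) :=
  ((embW h.nondeg).ext.comp (HK.su φ)).codRestrict (E Q) (suW_mem h hG hφ hperf)

variable (h : HK (Q.comp W.subtype) K q) (hG : Good Q) {φ : W ≃ₗ[K] (Fin m → K)}
  (hφ : ∀ v w, h.hm v w = hermForm m K q (φ v) (φ w)) (hperf : commutator (SU m K q) = ⊤)

theorem suW_coe (g : SU m K q) : ((suW h hG hφ hperf g : ↥(E Q)) : V ≃ₗ[F] V) = (embW h.nondeg).ext (HK.su φ g) := rfl

theorem suW_inj : Function.Injective (suW h hG hφ hperf) := by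
  intro g g' hg
  exact HK.su_inj (F := F) φ ((embW h.nondeg).ext_injective (congrArg Subtype.val hg))

/-- the homomorphism `SU → G` -/
noncomputable def muW (ρ : ↥(E Q) →* G) : SU m K q →* G := ρ.comp (suW h hG hφ hperf)

theorem muW_inj (hρ : _root_.Cfsg.Agent.H93.RC.Rep Q N ρ) (hWt : W ≠ ⊤) : Function.Injective (muW h hG hφ hperf ρ) := by
  rw [injective_iff_map_eq_one]
  intro s hs
  have h1 : suW h hG hφ hperf s ∈ Subgroup.center ↥(E Q) := by
    rw [← hρ.ker, MonoidHom.mem_ker]
    exact hs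
  obtain ⟨a, ha⟩ := center_scalar hG h1
  obtain ⟨v, hv0, hv⟩ := exists_perp h.nondeg hWt
  have h2 : ((suW h hG hφ hperf s : ↥(E Q)) : V ≃ₗ[F] V) v = v := by
    rw [suW_coe, Emb.ext_of_π_eq_zero _ _ hv]
  have h3 := ha v
  rw [h2] at h3
  have ha1 : a = 1 := by
    have h2 : (a - 1) • v = 0 := by rw [sub_smul, one_smul, ← h3, sub_self]
    rcases smul_eq_zero.mp h2 with h3 | h3
    · exact (sub_eq_zero.mp h3)
    · exact (hv0 h3).elim
  apply suW_inj h hG hφ hperf
  rw [map_one]
  apply Subtype.ext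
  apply LinearEquiv.ext
  intro w
  rw [ha w, ha1, one_smul]
  rfl

theorem muW_le (hρ : _root_.Cfsg.Agent.H93.RC.Rep Q N ρ) : (muW h hG hφ hperf ρ).range ≤ N := by
  rw [← hρ.range]
  rintro _ ⟨s, rfl⟩
  exact ⟨_, rfl⟩

/-- conjugation in `E Q` -/
theorem conj_suW [FiniteDimensional K W] {M : Gam Q} {L : Gam (Q.comp W.subtype)}
    (hL : ∀ w : W, ((L.1 w : W) : V) = M.1 w) (hlin : ∀ (a : K) (v : W), L.1 (a • v) = a • L.1 v) (s : SU m K q) :
    ∃ s' : SU m K q, (∀ v : W, L.1 ((HK.su (F := F) φ s) v) = (HK.su (F := F) φ s') (L.1 v)) ∧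
      conjE Q M (suW h hG hφ hperf s) = suW h hG hφ hperf s' := by
  have hVf : Finite V := Module.finite_of_finite F
  obtain ⟨σ, c, hM⟩ := M.2
  by_cases hW0 : ∀ w : W, w = 0
  · refine ⟨s, fun v => by rw [hW0 (L.1 _), hW0 ((HK.su (F := F) φ s) (L.1 v))], ?_⟩
    apply Subtype.ext
    rw [coe_conjE]
    ext v
    obtain ⟨v, rfl⟩ := M.1.surjective v
    rw [conjLin_apply', suW_coe, Emb.ext_apply, Emb.ext_apply, hW0 (HK.su φ s _ - _), hW0 (HK.su φ s _ - _), map_zero,
      add_zero, add_zero]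
  push Not at hW0
  obtain ⟨w₀, hw₀⟩ := hW0
  have : Nontrivial W := ⟨⟨w₀, 0, hw₀⟩⟩
  -- the data of `L`
  have hLs : IsSS (Q.comp W.subtype) σ c L.1 := by
    obtain ⟨L', hL', hLM⟩ := exists_restr (W := W) hM (fun v hv => by rw [← hL ⟨v, hv⟩]; exact (L.1 _).2)
    have : L.1 = L' := by
      ext w
      rw [hL, hLM]
    rw [this]
    exact hL'
  have hσ : σ = RingEquiv.refl F := by
    ext a
    have h1 := hlin (algebraMap F K a) w₀
    rw [algebraMap_smul, hLs.smul, algebraMap_smul] at h1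
    have h2 : L.1 w₀ ≠ 0 := by
      intro h0
      rw [← hLs.map_zero] at h0
      exact hw₀ (L.1.injective h0)
    have h3 : (σ a - a) • L.1 w₀ = 0 := by rw [sub_smul, h1, sub_self]
    rcases smul_eq_zero.1 h3 with h4 | h4
    · exact sub_eq_zero.1 h4
    · exact (h2 h4).elim
  subst hσ
  obtain ⟨s', hs'⟩ := h.exists_conj hφ hLs hlin s
  refine ⟨s', hs', ?_⟩
  apply Subtype.ext
  rw [coe_conjE, suW_coe, suW_coe]
  ext v
  obtain ⟨v, rfl⟩ := M.1.surjective v
  rw [conjLin_apply', Emb.ext_apply, Emb.ext_apply, π_restr h.nondeg hM hLs hL, add_of_mem M.2]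
  congr 1
  rw [embW_j, embW_j, ← hL, hLs.sub, hs']

/-- conjugation in `G` -/
theorem conj_muW [FiniteDimensional K W] {x : G} {M : Gam Q} {L : Gam (Q.comp W.subtype)} (hl : Lf ρ x M)
    (hL : ∀ w : W, ((L.1 w : W) : V) = M.1 w) (hlin : ∀ (a : K) (v : W), L.1 (a • v) = a • L.1 v) (s : SU m K q) :
    ∃ s' : SU m K q, (∀ v : W, L.1 ((HK.su (F := F) φ s) v) = (HK.su (F := F) φ s') (L.1 v)) ∧
      x * muW h hG hφ hperf ρ s * x⁻¹ = muW h hG hφ hperf ρ s' := by
  obtain ⟨s', h1, h2⟩ := conj_suW h hG hφ hperf hL hlin s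
  refine ⟨s', h1, ?_⟩
  change x * ρ _ * x⁻¹ = ρ _
  rw [hl, h2]

/-- `K`-scalar members centralise `M` -/
theorem cent_of_scal [FiniteDimensional K W] {x : G} {M : Gam Q} {L : Gam (Q.comp W.subtype)} (hl : Lf ρ x M)
    (hL : ∀ w : W, ((L.1 w : W) : V) = M.1 w) {a : K} (ha : ∀ v : W, L.1 v = a • v) (m' : G)
    (hm : m' ∈ (muW h hG hφ hperf ρ).range) : x * m' = m' * x := by
  obtain ⟨s, rfl⟩ := hm
  obtain ⟨s', h1, h2⟩ := conj_muW (ρ := ρ) h hG hφ hperf hl hL (fun b v => by rw [ha, ha, smul_comm]) s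
  have h3 : s = s' := by
    apply HK.su_inj (F := F) φ
    ext w
    obtain ⟨v, rfl⟩ := L.1.surjective w
    rw [← h1, ha, ha, HK.su_smul]
  rw [← h3, mul_inv_eq_iff_eq_mul] at h2
  exact h2

/-! ### transvections -/

theorem singW {e : W} (he : Q.comp W.subtype e = 0) : Q.comp W.subtype (h.th • e) = 0 := by
  apply (algebraMap F K).injective
  rw [h.form, he, map_zero, mul_zero]

theorem polarW {e : W} (he : Q.comp W.subtype e = 0) : polar (Q.comp W.subtype) e (h.th • e) = 0 := by
  apply (algebraMap F K).injective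
  rw [← h.hm_trace, h.hm_smul_right, h.hm_self, he, map_zero, mul_zero, zero_pow h.q_ne, add_zero]

/-- the unitary transvection with centre `e` -/
theorem exists_tvW {e : W} (he : Q.comp W.subtype e = 0) : ∃ s : SU m K q,
    (∀ v, (HK.su (F := F) φ s) v = v + ((h.th - h.th ^ q) * h.hm v e) • e) ∧
      suW h hG hφ hperf s = AutOrth.SemiSim.sg Q (e : V) ((h.th • e : W) : V) he (polarW h he) := by
  have hs : IsSiegel q (φ e) 0 (h.th - h.th ^ q) := by
    refine ⟨?_, ?_, ?_⟩
    · rw [← hφ, h.hm_self, he, map_zero]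
    · rw [herm_zero_left]
    · rw [herm_zero_left, sub_pow_q h.card, pow_q_pow_q h.card]
      ring
  have h1 : ∀ v, (HK.su (F := F) φ (Cfsg.Agent.LieClassical.HermSiegel.siegel h.card (φ e) 0 (h.th - h.th ^ q) hs)) v =
      v + ((h.th - h.th ^ q) * h.hm v e) • e := by
    intro v
    apply φ.injective
    rw [HK.phi_su, act_siegel, ← hφ, smul_zero, add_zero, herm_zero_right h.card, sub_zero, map_add, map_smul]
  refine ⟨_, h1, ?_⟩
  have h2 : HK.su (F := F) φ (Cfsg.Agent.LieClassical.HermSiegel.siegel h.card (φ e) 0 (h.th - h.th ^ q) hs) =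
      LieClassical.OrthCore.siegel (Q.comp W.subtype) e (h.th • e) he (polarW h he) := by
    ext v
    rw [h1, siegel_apply, singW h he, zero_mul, zero_smul, sub_zero, add_sub_assoc]
    congr 2
    have h2 : algebraMap F K (polar (Q.comp W.subtype) e v) = h.hm v e + (h.hm v e) ^ q := by
      rw [QuadraticMap.polar_comm, h.hm_trace]
    have h3 : algebraMap F K (polar (Q.comp W.subtype) (h.th • e) v) = h.th * (h.hm v e) ^ q + h.th ^ q * h.hm v e := by
      rw [← h.hm_trace, h.hm_smul_left, h.hm_symm v e, mul_pow, pow_q_pow_q h.card]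
    rw [← algebraMap_smul K (polar (Q.comp W.subtype) e v), ← algebraMap_smul K (polar (Q.comp W.subtype) (h.th • e) v),
      h2, h3, smul_smul, ← sub_smul]
    congr 1
    ring
  apply Subtype.ext
  rw [suW_coe, h2]
  have h4 : polar Q ((embW h.nondeg).j e) ((embW h.nondeg).c⁻¹ • (embW h.nondeg).j (h.th • e)) = 0 := by
    rw [embW_c, inv_one, one_smul]; exact polarW h he
  have he' : Q (e : V) = 0 := he
  have hp' : polar Q (e : V) ((h.th • e : W) : V) = 0 := polarW h he
  refine ((embW h.nondeg).ext_siegel he (polarW h he) he h4).trans ?_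
  exact LieClassical.OrthSimple.siegel_congr (Q := Q) he' h4 he' hp' rfl (by rw [embW_c, inv_one, one_smul]; rfl)

/-- a lift of an element centralising the image of `SU` fixes the `K`-lines of the singular vectors of `W` -/
theorem eigW [FiniteDimensional K W] {x : G} {M : Gam Q} {L : Gam (Q.comp W.subtype)} (hρ : _root_.Cfsg.Agent.H93.RC.Rep Q N ρ) (hWt : W ≠ ⊤)
    (hl : Lf ρ x M) (hL : ∀ w : W, ((L.1 w : W) : V) = M.1 w) (hlin : ∀ (a : K) (v : W), L.1 (a • v) = a • L.1 v)
    (hcen : ∀ y ∈ (muW h hG hφ hperf ρ).range, x * y = y * x) {e : W} (he : Q.comp W.subtype e = 0) (he0 : e ≠ 0) :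
    ∃ a : K, L.1 e = a • e := by
  obtain ⟨s, hs, -⟩ := exists_tvW h hG hφ hperf he
  have hth : h.th - h.th ^ q ≠ 0 := h.sub_ne
  obtain ⟨s', h1, h2⟩ := conj_muW (ρ := ρ) h hG hφ hperf hl hL hlin s
  have h3 := hcen _ ⟨s, rfl⟩
  rw [h3, mul_inv_cancel_right] at h2
  have h4 : s = s' := muW_inj h hG hφ hperf hρ hWt h2
  rw [← h4] at h1
  obtain ⟨w, hw⟩ : ∃ w, h.hm w e ≠ 0 := by
    by_contra hcon
    push Not at hcon
    apply he0
    apply h.nondeg
    intro w
    apply (algebraMap F K).injective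
    rw [QuadraticMap.polar_comm, ← h.hm_trace, hcon, zero_pow h.q_ne, add_zero, map_zero]
  have h5 := h1 w
  have hadd : L.1 (w + ((h.th - h.th ^ q) * h.hm w e) • e) = L.1 w + ((h.th - h.th ^ q) * h.hm w e) • L.1 e := by
    rw [add_of_mem L.2, hlin]
  rw [hs, hs, hadd, add_right_inj] at h5
  refine ⟨((h.th - h.th ^ q) * h.hm w e)⁻¹ * ((h.th - h.th ^ q) * h.hm (L.1 w) e), ?_⟩
  rw [mul_smul, ← h5, inv_smul_smul₀ (mul_ne_zero hth hw)]

end herm

section box

variable {F K V : Type} [Field F] [Finite F] [Field K] [Fintype K] [Algebra F K] [AddCommGroup V] [Module F V]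
  [FiniteDimensional F V] {Q : QuadraticForm F V} {W : Submodule F V} [Module K W] [IsScalarTower F K W] {q : ℕ}
  {G Ω : Type} [Group G] [Finite G] [MulAction G Ω] [Nonempty Ω] {N : Subgroup G} {ρ : ↥(E Q) →* G}

theorem exc_congr {S S' : Type*} [Group S] [Group S'] (e : S ≃* S') (h : Exc S) : Exc S' := by
  rcases h with h | h | h <;> obtain ⟨f⟩ := h
  · exact Or.inl ⟨e.symm.trans f⟩
  · exact Or.inr (Or.inl ⟨e.symm.trans f⟩)
  · exact Or.inr (Or.inr ⟨e.symm.trans f⟩)

theorem psu_two_not_exc {K : Type} [Field K] [Fintype K] {q : ℕ} (hK : Fintype.card K = q ^ 2) (h7 : 7 ≤ q) (h9 : q ≠ 9) :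
    ¬ Exc (PSU 2 K q) ∧ Cl (PSU 2 K q) := by
  obtain ⟨K', _, _, hK'⟩ := H452.RC.exists_field hK
  obtain ⟨e⟩ := H452.RC.psu_psl hK hK'
  refine ⟨fun h => ?_, Or.inl ⟨K', inferInstance, inferInstance, 2, le_rfl, fun _ => by omega, ⟨e⟩⟩⟩
  rcases psl_exc (F := K') le_rfl (exc_congr e h) with ⟨-, h1⟩ | ⟨h1, -⟩ <;> omega

/-- the image of `SU` is not everything -/
theorem muW_ne (h : HK (Q.comp W.subtype) K q) (hG : Good Q) {m : ℕ} {φ : W ≃ₗ[K] (Fin m → K)}
    (hφ : ∀ v w, h.hm v w = hermForm m K q (φ v) (φ w)) (hperf : commutator (SU m K q) = ⊤) (hρ : _root_.Cfsg.Agent.H93.RC.Rep Q N ρ)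
    (hWt : W ≠ ⊤) (hW0 : ∃ w : W, w ≠ 0) : (muW h hG hφ hperf ρ).range ≠ N := by
  intro hN
  have hth0 : h.th ≠ 0 := by
    intro h0
    apply h.th_ne
    rw [h0, zero_pow h.q_ne]
  have hthq : h.th ^ q ≠ 0 := pow_ne_zero _ hth0
  set ζ : K := h.th / h.th ^ q with hζ
  have hζ0 : ζ ≠ 0 := div_ne_zero hth0 hthq
  have hζn : ζ * ζ ^ q = 1 := by
    rw [hζ, div_pow, pow_q_pow_q h.card]
    field_simp
  have hζ1 : ζ ≠ 1 := by
    intro h1
    apply h.th_ne
    rw [hζ, div_eq_one_iff_eq hthq] at h1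
    exact h1.symm
  let z : W ≃ₗ[F] W := (LinearEquiv.smulOfNeZero K W ζ hζ0).restrictScalars F
  have hz : ∀ w, z w = ζ • w := fun w => rfl
  have hzO : z ∈ O (Q.comp W.subtype) := by
    intro w
    apply (algebraMap F K).injective
    rw [hz, h.form, hζn, one_mul]
  have hTO := ext_mem_O (embW h.nondeg) hzO
  set T : Gam Q := H198.Classes.gamO Q ⟨(embW h.nondeg).ext z, hTO⟩ with hT
  have hTa : ∀ v, T.1 v = (embW h.nondeg).ext z v := fun v => rfl
  have h1 : conjE Q T = 1 := by
    ext t : 1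
    rw [MulAut.one_apply]
    have h2 : ρ t ∈ (muW h hG hφ hperf ρ).range := by
      rw [hN, ← hρ.range]
      exact ⟨t, rfl⟩
    obtain ⟨s, hs⟩ := h2
    change ρ (suW h hG hφ hperf s) = ρ t at hs
    have h3 : t * (suW h hG hφ hperf s)⁻¹ ∈ Subgroup.center ↥(E Q) := by
      rw [← hρ.ker, MonoidHom.mem_ker, map_mul, map_inv, hs, mul_inv_cancel]
    obtain ⟨a, ha⟩ := center_scalar hG h3
    have h4 : ∀ v, (t : V ≃ₗ[F] V) v = a • ((suW h hG hφ hperf s : ↥(E Q)) : V ≃ₗ[F] V) v := by
      intro v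
      have h5 := ha (((suW h hG hφ hperf s : ↥(E Q)) : V ≃ₗ[F] V) v)
      rw [← h5]
      have h6 : (t * (suW h hG hφ hperf s)⁻¹ : ↥(E Q)) * suW h hG hφ hperf s = t := by group
      conv_lhs => rw [← h6]
      rfl
    apply Subtype.ext
    rw [coe_conjE]
    ext v
    obtain ⟨v, rfl⟩ := T.1.surjective v
    rw [conjLin_apply', h4, h4, suW_coe, hTa, hTa, map_smul]
    congr 1
    have h7 : HK.su (F := F) φ s * z = z * HK.su (F := F) φ s := by
      apply LinearEquiv.ext
      intro w
      change (HK.su (F := F) φ s) (ζ • w) = ζ • (HK.su (F := F) φ s) w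
      rw [HK.su_smul]
    have h8 : (embW h.nondeg).ext (HK.su (F := F) φ s) * (embW h.nondeg).ext z =
        (embW h.nondeg).ext z * (embW h.nondeg).ext (HK.su (F := F) φ s) := by rw [← map_mul, h7, map_mul]
    exact (congrArg (fun f : V ≃ₗ[F] V => f v) h8).symm
  obtain ⟨a, -, ha⟩ := exists_scalar_of_conjE hG T h1
  obtain ⟨v, hv0, hv⟩ := exists_perp h.nondeg hWt
  have h2 := ha v
  rw [hTa, Emb.ext_of_π_eq_zero _ _ hv] at h2
  have ha1 : a = 1 := by
    have h2 : (a - 1) • v = 0 := by rw [sub_smul, one_smul, ← h2, sub_self]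
    rcases smul_eq_zero.mp h2 with h3 | h3
    · exact (sub_eq_zero.mp h3)
    · exact (hv0 h3).elim
  obtain ⟨w, hw0⟩ := hW0
  have h3 := ha ((embW h.nondeg).j w)
  rw [hTa, Emb.ext_j, ha1, one_smul] at h3
  have h4 := (embW h.nondeg).j_injective h3
  rw [hz] at h4
  have h5 : (ζ - 1) • w = 0 := by rw [sub_smul, one_smul, h4, sub_self]
  rcases smul_eq_zero.1 h5 with h6 | h6
  · exact hζ1 (sub_eq_zero.1 h6)
  · exact hw0 h6

/-- **The M-rule for `SU₂(K)`** on a 4-dimensional summand `W`, with the end game. -/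
theorem box_SU2 (h : HK (Q.comp W.subtype) K q) (hG : Good Q) (hE : Env G Ω N) (hρ : _root_.Cfsg.Agent.H93.RC.Rep Q N ρ)
    (hIH : IH (Nat.card N)) {p : ℕ} [CharP F p] {ι : Type} [Finite ι] {x : ι → G} {M : ι → Gam Q} {r : ι → ℕ}
    (hl : ∀ i, Lf ρ (x i) (M i)) (hr : ∀ i, (r i).Prime) (hrp : ∀ i, r i ≠ p) (hx : ∀ i, x i ^ r i = 1)
    (hx1 : ∀ i, x i ≠ 1) (hc : ∀ i j, x i * x j = x j * x i) (hcov : Cov Ω x)
    (h7 : 7 ≤ q) (h9 : q ≠ 9) (hFK : finrank F K = 2) (h2 : finrank K W = 2) (h5 : 5 ≤ finrank F V)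
    (L : ι → Gam (Q.comp W.subtype)) (hL : ∀ i (w : W), (((L i).1 w : W) : V) = (M i).1 w)
    (hlin : ∀ i (a : K) (v : W), (L i).1 (a • v) = a • (L i).1 v)
    (hinj : ∀ i j, r i = r j → i = j ∨ (∃ a : K, ∀ v : W, (L i).1 v = a • v) ∨ ∃ a : K, ∀ v : W, (L j).1 v = a • v) :
    False := by
  classical
  have hKW : FiniteDimensional K W := Module.finite_of_finrank_pos (by omega)
  obtain ⟨φ, hφ⟩ : ∃ φ : W ≃ₗ[K] (Fin 2 → K), ∀ v w, h.hm v w = hermForm 2 K q (φ v) (φ w) := by
    have h3 := h.exists_phi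
    rw [h2] at h3
    exact h3
  have hperf : commutator (SU 2 K q) = ⊤ := H452.RC.comm_two h.card (by omega)
  have hS : IsSimpleGroup (PSU 2 K q) := H452.RC.simple_two h.card (by omega)
  have hSn : ¬ IsMulCommutative (PSU 2 K q) := H452.RC.nc_two h.card (by omega)
  have h4 : finrank F W = 4 := by
    rw [← Module.finrank_mul_finrank F K W, hFK, h2]
  obtain ⟨w₀, hw₀⟩ : ∃ w : W, w ≠ 0 := by
    have : Nontrivial W := Module.nontrivial_of_finrank_pos (R := F) (by omega)
    exact exists_ne 0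
  have hWt : W ≠ ⊤ := by
    intro ht
    rw [ht, finrank_top] at h4
    omega
  set μ := muW h hG hφ hperf ρ with hμ
  have hμi := muW_inj h hG hφ hperf hρ hWt
  obtain ⟨hMp, π, hπ, hπk⟩ := exists_pi_gen hperf μ (by rw [(MonoidHom.ker_eq_bot_iff _).2 hμi]; exact bot_le)
  have hnorm : ∀ i, x i ∈ Subgroup.normalizer (μ.range : Set G) := by
    intro i
    refine mem_norm_pow' (hr i).pos (hx i) ?_
    rintro _ ⟨s, rfl⟩
    obtain ⟨s', -, h3⟩ := conj_muW (ρ := ρ) h hG hφ hperf (hl i) (hL i) (hlin i) s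
    exact ⟨s', h3.symm⟩
  have hRC : RC (PSU 2 K q) := by
    have hex := psu_two_not_exc h.card h7 h9
    exact hIH.use (S := N) (MulEquiv.refl N) (muW_le h hG hφ hperf hρ)
      (muW_ne h hG hφ hperf hρ hWt ⟨w₀, hw₀⟩) π hπ hS hSn hex.2 hex.1
  -- the rule
  have hrule : ∀ ω : Ω, μ.range ≤ stabilizer G ω ∨ ∃ j, (∀ m ∈ μ.range, x j * m = m * x j) ∧ x j • ω = ω := by
    intro ω
    by_cases hω : ∃ j, (∀ m ∈ μ.range, x j * m = m * x j) ∧ x j • ω = ω
    · exact Or.inr hω
    left
    push Not at hω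
    let S : Set ι := {i | ¬ ∀ m ∈ μ.range, x i * m = m * x i}
    have hcovS : ∀ m ∈ μ.range, ∃ i : S, x i • m • ω = m • ω := by
      intro m hm
      obtain ⟨i, hi⟩ := hcov (m • ω)
      by_cases hs : ∀ m ∈ μ.range, x i * m = m * x i
      · exfalso
        apply hω i hs
        rw [← mul_smul, hs m hm, mul_smul] at hi
        exact smul_left_cancel m hi
      · exact ⟨⟨i, hs⟩, hi⟩
    have hinjS : Function.Injective (fun i : S => r i) := by
      intro i j hij
      rcases hinj i j hij with h3 | ⟨a, ha⟩ | ⟨a, ha⟩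
      · exact Subtype.ext h3
      · exact (i.2 fun m hm => cent_of_scal h hG hφ hperf (hl i) (hL i) ha m hm).elim
      · exact (j.2 fun m hm => cent_of_scal h hG hφ hperf (hl j) (hL j) ha m hm).elim
    rcases mrule_RC hS hSn (fun i : S => x i) (fun i : S => r i) (fun i => hr i) hinjS (fun i => hx i)
      (fun i j => hc i j) μ.range hMp π hπ hπk (fun i => hnorm i) hRC ω hcovS with h3 | ⟨j, hj, -⟩
    · exact h3
    · exact (j.2 hj).elim
  -- a singular vector
  obtain ⟨e, he, he0⟩ : ∃ e : W, Q.comp W.subtype e = 0 ∧ e ≠ 0 := by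
    obtain ⟨w, hw, hw0, hws⟩ := LieClassical.OrthFinite.exists_sing_mem (Q := Q) W (by omega)
    exact ⟨⟨w, hw⟩, hws, fun h0 => hw0 (congrArg Subtype.val h0)⟩
  obtain ⟨s, hs, hs'⟩ := exists_tvW h hG hφ hperf he
  refine H297.RC.box_LR (ι := {j : ι // ∀ m ∈ μ.range, x j * m = m * x j}) (y := fun j => x j) (M := fun j => M j)
    (r := fun j => r j) hG hE hρ (p := p) (fun j => hl j) (fun j => hr j) (fun j => hrp j) (fun j => hx j)
    (fun j => hx1 j) (fun i j => hc i j) (u := (e : V)) (w := ((h.th • e : W) : V)) he (singW h he) (polarW h he)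
    (fun h0 => he0 (Subtype.ext h0)) ?_ ?_ ?_
  · intro a ha
    have h3 : h.th • e = a • e := Subtype.ext ha
    rw [← algebraMap_smul K a, ← sub_eq_zero, ← sub_smul] at h3
    rcases smul_eq_zero.1 h3 with h4 | h4
    · apply h.th_ne
      rw [sub_eq_zero.1 h4, h.base]
    · exact he0 h4
  · rintro ⟨j, hj⟩ v hv
    have hmem : ∀ a : K, ((a • e : W) : V) ∈ Submodule.span F {(e : V), ((h.th • e : W) : V)} := by
      intro a
      obtain ⟨c, d, rfl⟩ := h.decomp a
      rw [add_smul, mul_smul, algebraMap_smul, algebraMap_smul]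
      exact Submodule.add_mem _ (Submodule.smul_mem _ _ (Submodule.subset_span (by simp only [_root_.Set.mem_insert_iff, _root_.Set.mem_singleton_iff, _root_.SetLike.coe_eq_coe, _root_.true_or])))
        (Submodule.smul_mem _ _ (Submodule.subset_span (by simp only [_root_.Set.mem_insert_iff, _root_.SetLike.coe_eq_coe, _root_.Set.mem_singleton_iff, _root_.or_true])))
    obtain ⟨a, ha⟩ := eigW h hG hφ hperf hρ hWt (hl j) (hL j) (hlin j) hj he he0
    obtain ⟨b, c, rfl⟩ := Submodule.mem_span_pair.1 hv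
    have h3 : b • (e : V) + c • ((h.th • e : W) : V) = (((algebraMap F K b + algebraMap F K c * h.th) • e : W) : V) := by
      rw [add_smul, mul_smul, algebraMap_smul, algebraMap_smul]
      rfl
    rw [h3, ← hL, hlin, ha, smul_smul]
    exact hmem _
  · intro ω
    rcases hrule ω with h3 | ⟨j, hj, h3⟩
    · left
      rw [← hs']
      exact h3 ⟨s, rfl⟩
    · exact Or.inr ⟨⟨j, hj⟩, h3⟩

end box

end Cfsg.Agent.H510.Tri3

private theorem dce_09f3966f98c8 : _root_.True := by
  try have : _root_.True := by simp only [_root_.Cfsg.Agent.H510.Tri3.suW.congr_simp]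
  exact _root_.True.intro
end

-- part: H906/RC/Small
section
prune_inst 0x11000003000020000000582130020004400019000200000a1000a400200410080002140068010000048a20010010000000000c00000000000000000000500208028020001100d0426008f801085080c00000000000000000000000000000004000000000
set_option linter.all false
open scoped Cfsg.Agent.FastGrp

/-!
# S3510, family E: the boxes E16 and E0

* `small_stmt` : `SmallStmt`, the smaller groups (orders of `PSU`, `PSL`, `PSp`: `low_psu`, `up_psu`, `up_psl`, `up_psp`,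
  `dvd_psu`, `dvd_psl`, `dvd_psp`; `rc_psu`, `rc_psl`, `rc_psl_two`, `rc_psp` : the induction hypothesis applies);
* `lift_stmt` : `LiftStmt`, commuting lifts of a commuting family.
-/

set_option autoImplicit false
set_option linter.unusedSectionVars false

open Cfsg Matrix

namespace Cfsg.Agent.H906.RC

/-! ### the order of `PSU` -/

/-- the factor -/
def fu (q i : ℕ) : ℕ := if Even i then q ^ (i + 2) - 1 else q ^ (i + 2) + 1

theorem fu_even {q i : ℕ} (h : Even i) : fu q i = q ^ (i + 2) - 1 := if_pos h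
theorem fu_odd {q i : ℕ} (h : ¬ Even i) : fu q i = q ^ (i + 2) + 1 := if_neg h

theorem card_psu {F : Type*} [Field F] [Fintype F] {q : ℕ} (hF : Fintype.card F = q ^ 2) {n : ℕ} (hn : 3 ≤ n) :
    Nat.gcd n (q + 1) * Nat.card (PSU n F q) =
      q ^ (n * (n - 1) / 2) * ∏ i ∈ Finset.range (n - 1), fu q i := by
  have h := Cfsg.Agent.S0280.result hF n (by omega)
  obtain ⟨m, rfl⟩ := Nat.exists_eq_add_of_le' hn
  rw [Finset.prod_range_succ', if_pos (by decide), zero_add, pow_one, mul_left_comm, ← mul_assoc (q ^ _),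
    mul_comm _ (q + 1)] at h
  have h' := Nat.eq_of_mul_eq_mul_left (show 0 < q + 1 by omega) h
  rw [h']
  congr 1
  refine Finset.prod_congr rfl fun i _ => ?_
  rcases Nat.even_or_odd i with hi | hi
  · rw [fu_even hi, if_neg (by rw [Nat.even_add_one, not_not]; exact hi)]
  · rw [fu_odd (Nat.not_even_iff_odd.2 hi), if_pos hi.add_one]

theorem fu_ge {q : ℕ} (hq : 2 ≤ q) (i : ℕ) : q ^ (i + 1) ≤ fu q i := by
  have h1 : q ^ (i + 1) * 2 ≤ q ^ (i + 2) := by
    rw [pow_succ q (i + 1)]
    exact Nat.mul_le_mul_left _ hq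
  have h2 : 1 ≤ q ^ (i + 1) := Nat.one_le_pow _ _ (by omega)
  unfold fu
  split_ifs <;> omega

theorem tri_even (n : ℕ) : 2 * (n * (n - 1) / 2) = n * (n - 1) := by
  rcases n with _ | n
  · rfl
  · rw [Nat.add_sub_cancel]
    have : 2 ∣ (n + 1) * n := by
      rw [mul_comm]
      exact (Nat.even_mul_succ_self n).two_dvd
    exact Nat.mul_div_cancel' this

theorem sum_add_one (n : ℕ) : ∑ i ∈ Finset.range n, (i + 1) = (n + 1) * n / 2 := by
  have h := Finset.sum_range_id_mul_two (n + 1)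
  rw [Nat.add_sub_cancel, Finset.sum_range_succ'] at h
  have h2 := tri_even (n + 1)
  rw [Nat.add_sub_cancel] at h2
  omega

theorem sum_add_two (n : ℕ) : 2 * ∑ i ∈ Finset.range n, (i + 2) = n * (n + 3) := by
  induction n with
  | zero => rfl
  | succ n ih =>
    rw [Finset.sum_range_succ, mul_add, ih]
    ring

theorem prod_fu_ge {q : ℕ} (hq : 2 ≤ q) (n : ℕ) :
    q ^ ((n + 1) * n / 2) ≤ ∏ i ∈ Finset.range n, fu q i := by
  rw [← sum_add_one, ← Finset.prod_pow_eq_pow_sum]
  exact Finset.prod_le_prod' fun i _ => fu_ge hq i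

/-- two consecutive factors -/
theorem fu_pair {q : ℕ} (hq : 2 ≤ q) {i : ℕ} (hi : Even i) : fu q i * fu q (i + 1) < q ^ (i + 2 + (i + 3)) := by
  rw [fu_even hi, fu_odd (by rw [Nat.even_add_one, not_not]; exact hi)]
  have h1 : q ^ (i + 1 + 2) = q ^ (i + 2) * q := by rw [show i + 1 + 2 = i + 2 + 1 by ring, pow_succ]
  have h2 : q ^ (i + 2 + (i + 3)) = q ^ (i + 2) * (q ^ (i + 2) * q) := by
    ring
  rw [h1, h2]
  set x := q ^ (i + 2) with hx
  have h3 : 1 ≤ x := Nat.one_le_pow _ _ (by omega)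
  obtain ⟨y, hy⟩ := Nat.exists_eq_add_of_le' h3
  rw [hy, Nat.add_sub_cancel]
  nlinarith only [hq]

theorem prod_fu_le {q : ℕ} (hq : 2 ≤ q) (j : ℕ) :
    ∏ i ∈ Finset.range (2 * j), fu q i ≤ q ^ (∑ i ∈ Finset.range (2 * j), (i + 2)) := by
  induction j with
  | zero => simp
  | succ j ih =>
    rw [show 2 * (j + 1) = 2 * j + 1 + 1 by ring, Finset.prod_range_succ, Finset.prod_range_succ,
      Finset.sum_range_succ, Finset.sum_range_succ, mul_assoc, add_assoc, pow_add]
    exact Nat.mul_le_mul ih (fu_pair hq (even_two_mul j)).le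

theorem prod_fu_lt {q : ℕ} (hq : 2 ≤ q) {k : ℕ} (hk : 1 ≤ k) :
    ∏ i ∈ Finset.range k, fu q i < q ^ (∑ i ∈ Finset.range k, (i + 2)) := by
  rcases Nat.even_or_odd' k with ⟨j, rfl | rfl⟩
  · obtain ⟨j, rfl⟩ := Nat.exists_eq_add_of_le' (show 1 ≤ j by omega)
    rw [show 2 * (j + 1) = 2 * j + 1 + 1 by ring, Finset.prod_range_succ, Finset.prod_range_succ,
      Finset.sum_range_succ, Finset.sum_range_succ, mul_assoc, add_assoc, pow_add]
    exact Nat.mul_lt_mul_of_le_of_lt (prod_fu_le hq j) (fu_pair hq (even_two_mul j))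
      (Nat.pos_of_ne_zero (pow_ne_zero _ (by omega)))
  · rw [Finset.prod_range_succ, Finset.sum_range_succ, pow_add]
    refine Nat.mul_lt_mul_of_le_of_lt (prod_fu_le hq j) ?_ (Nat.pos_of_ne_zero (pow_ne_zero _ (by omega)))
    rw [fu_even (even_two_mul j)]
    have : 1 ≤ q ^ (2 * j + 2) := Nat.one_le_pow _ _ (by omega)
    omega

theorem two_le_of_card {F : Type*} [Field F] [Fintype F] {q : ℕ} (hF : Fintype.card F = q ^ 2) : 2 ≤ q := by
  have h1 : 1 < Fintype.card F := Fintype.one_lt_card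
  rw [hF] at h1
  by_contra h
  have : q ^ 2 ≤ 1 ^ 2 := Nat.pow_le_pow_left (by omega) 2
  omega

/-- the lower bound -/
theorem low_psu {F : Type*} [Field F] [Fintype F] {q : ℕ} (hF : Fintype.card F = q ^ 2) {n : ℕ} (hn : 3 ≤ n) :
    q ^ (n * (n - 1)) ≤ q ^ 2 * Nat.card (PSU n F q) := by
  have hq := two_le_of_card hF
  have h1 := card_psu hF hn
  have h2 : Nat.gcd n (q + 1) ≤ q ^ 2 := by
    have := Nat.le_of_dvd (by omega) (Nat.gcd_dvd_right n (q + 1))
    nlinarith only [hq, this]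
  refine le_trans ?_ (Nat.mul_le_mul_right _ h2)
  have e : n * (n - 1) = n * (n - 1) / 2 + n * (n - 1) / 2 := by
    have := tri_even n
    omega
  rw [h1]
  calc q ^ (n * (n - 1)) = q ^ (n * (n - 1) / 2) * q ^ (n * (n - 1) / 2) := by rw [← pow_add, ← e]
    _ ≤ _ := by
      refine Nat.mul_le_mul_left _ ?_
      obtain ⟨m, rfl⟩ := Nat.exists_eq_add_of_le' (show 1 ≤ n by omega)
      rw [Nat.add_sub_cancel]
      exact prod_fu_ge hq m

/-- the upper bound -/
theorem up_psu {F : Type*} [Field F] [Fintype F] {q : ℕ} (hF : Fintype.card F = q ^ 2) {n : ℕ} (hn : 3 ≤ n) :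
    Nat.card (PSU n F q) < q ^ (n ^ 2 - 1) := by
  have hq := two_le_of_card hF
  have h1 := card_psu hF hn
  have h2 : 1 ≤ Nat.gcd n (q + 1) := Nat.gcd_pos_of_pos_left _ (by omega)
  have h3 : Nat.card (PSU n F q) ≤ Nat.gcd n (q + 1) * Nat.card (PSU n F q) := Nat.le_mul_of_pos_left _ h2
  refine lt_of_le_of_lt h3 ?_
  rw [h1]
  have h4 := prod_fu_lt hq (k := n - 1) (by omega)
  have h5 : n * (n - 1) / 2 + ∑ i ∈ Finset.range (n - 1), (i + 2) = n ^ 2 - 1 := by
    have e1 := tri_even n
    have e2 := sum_add_two (n - 1)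
    obtain ⟨m, rfl⟩ := Nat.exists_eq_add_of_le' (show 1 ≤ n by omega)
    rw [Nat.add_sub_cancel] at *
    have e3 : 2 * ((m + 1) ^ 2 - 1) = (m + 1) * m + m * (m + 3) := by
      have : (m + 1) ^ 2 - 1 = m * (m + 2) := by
        rw [show (m + 1) ^ 2 = m * (m + 2) + 1 by ring, Nat.add_sub_cancel]
      rw [this]
      ring
    omega
  rw [← h5, pow_add]
  exact Nat.mul_lt_mul_of_le_of_lt le_rfl h4 (Nat.pos_of_ne_zero (pow_ne_zero _ (by omega)))

/-- the power of the characteristic -/
theorem dvd_psu {F : Type*} [Field F] [Fintype F] {q : ℕ} (hF : Fintype.card F = q ^ 2) {n : ℕ} (hn : 3 ≤ n) :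
    q ^ (n * (n - 1) / 2) ∣ Nat.card (PSU n F q) := by
  have h1 := card_psu hF hn
  have h2 : Nat.Coprime (q ^ (n * (n - 1) / 2)) (Nat.gcd n (q + 1)) := by
    refine Nat.Coprime.pow_left _ ?_
    refine Nat.Coprime.coprime_dvd_right (Nat.gcd_dvd_right _ _) ?_
    exact (Nat.coprime_self_add_right.2 (Nat.coprime_one_right q))
  exact h2.dvd_of_dvd_mul_left (Dvd.intro _ h1.symm)

/-! ### the order of `PSL` and `PSp` -/

theorem prod_gl (q n : ℕ) : ∏ i : Fin n, (q ^ n - q ^ (i : ℕ)) =
    q ^ (n * (n - 1) / 2) * ∏ i ∈ Finset.range n, (q ^ (i + 1) - 1) := by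
  rw [Fin.prod_univ_eq_prod_range (fun i => q ^ n - q ^ i) n]
  have h1 : ∀ i ∈ Finset.range n, q ^ n - q ^ i = q ^ i * (q ^ (n - i) - 1) := by
    intro i hi
    rw [Finset.mem_range] at hi
    rw [Nat.mul_sub, ← pow_add, Nat.add_sub_cancel' hi.le, mul_one]
  rw [Finset.prod_congr rfl h1, Finset.prod_mul_distrib, Finset.prod_pow_eq_pow_sum, ← Finset.sum_range_id_mul_two]
  congr 1
  · rw [Nat.mul_div_cancel _ (by norm_num)]
  · rw [← Finset.prod_range_reflect]
    refine Finset.prod_congr rfl fun i hi => ?_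
    rw [Finset.mem_range] at hi
    congr 2
    omega

theorem card_psl {F : Type*} [Field F] [Fintype F] {q : ℕ} (hF : Fintype.card F = q) {n : ℕ} (hn : 2 ≤ n) :
    Nat.gcd n (q - 1) * Nat.card (ProjectiveSpecialLinearGroup (Fin n) F) =
      q ^ (n * (n - 1) / 2) * ∏ i ∈ Finset.range (n - 1), (q ^ (i + 2) - 1) := by
  have h := Cfsg.Agent.S0243.result hF n hn
  have hq : 2 ≤ q := hF ▸ Fintype.one_lt_card
  obtain ⟨m, rfl⟩ := Nat.exists_eq_add_of_le' hn
  rw [prod_gl, Finset.prod_range_succ', zero_add, pow_one, mul_left_comm, ← mul_assoc (q ^ _),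
    mul_comm _ (q - 1)] at h
  exact Nat.eq_of_mul_eq_mul_left (show 0 < q - 1 by omega) h

theorem prod_pred_lt {q : ℕ} (hq : 2 ≤ q) {k : ℕ} (hk : 1 ≤ k) :
    ∏ i ∈ Finset.range k, (q ^ (i + 2) - 1) < q ^ (∑ i ∈ Finset.range k, (i + 2)) := by
  rw [← Finset.prod_pow_eq_pow_sum]
  refine Finset.prod_lt_prod_of_nonempty ?_ ?_ ⟨0, Finset.mem_range.2 (by omega)⟩
  · intro i _
    have : 2 ≤ q ^ (i + 2) := le_trans hq (Nat.le_self_pow (by omega) q)
    omega
  · intro i _
    have : 1 ≤ q ^ (i + 2) := Nat.one_le_pow _ _ (by omega)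
    omega

theorem up_psl {F : Type*} [Field F] [Fintype F] {q : ℕ} (hF : Fintype.card F = q) {n : ℕ} (hn : 2 ≤ n) :
    Nat.card (ProjectiveSpecialLinearGroup (Fin n) F) < q ^ (n ^ 2 - 1) := by
  have hq : 2 ≤ q := hF ▸ Fintype.one_lt_card
  have h1 := card_psl hF hn
  have h2 : 1 ≤ Nat.gcd n (q - 1) := Nat.gcd_pos_of_pos_left _ (by omega)
  have h3 : Nat.card (ProjectiveSpecialLinearGroup (Fin n) F) ≤
    Nat.gcd n (q - 1) * Nat.card (ProjectiveSpecialLinearGroup (Fin n) F) := Nat.le_mul_of_pos_left _ h2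
  refine lt_of_le_of_lt h3 ?_
  rw [h1]
  have h4 := prod_pred_lt hq (k := n - 1) (by omega)
  have h5 : n * (n - 1) / 2 + ∑ i ∈ Finset.range (n - 1), (i + 2) = n ^ 2 - 1 := by
    have e1 := tri_even n
    have e2 := sum_add_two (n - 1)
    obtain ⟨m, rfl⟩ := Nat.exists_eq_add_of_le' (show 1 ≤ n by omega)
    rw [Nat.add_sub_cancel] at *
    have e3 : 2 * ((m + 1) ^ 2 - 1) = (m + 1) * m + m * (m + 3) := by
      have : (m + 1) ^ 2 - 1 = m * (m + 2) := by
        rw [show (m + 1) ^ 2 = m * (m + 2) + 1 by ring, Nat.add_sub_cancel]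
      rw [this]
      ring
    omega
  rw [← h5, pow_add]
  exact Nat.mul_lt_mul_of_le_of_lt le_rfl h4 (Nat.pos_of_ne_zero (pow_ne_zero _ (by omega)))

theorem dvd_psl {F : Type*} [Field F] [Fintype F] {q : ℕ} (hF : Fintype.card F = q) {n : ℕ} (hn : 2 ≤ n) :
    q ^ (n * (n - 1) / 2) ∣ Nat.card (ProjectiveSpecialLinearGroup (Fin n) F) := by
  have hq : 2 ≤ q := hF ▸ Fintype.one_lt_card
  have h1 := card_psl hF hn
  have h2 : Nat.Coprime (q ^ (n * (n - 1) / 2)) (Nat.gcd n (q - 1)) := by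
    refine Nat.Coprime.pow_left _ ?_
    refine Nat.Coprime.coprime_dvd_right (Nat.gcd_dvd_right _ _) ?_
    obtain ⟨j, rfl⟩ := Nat.exists_eq_add_of_le' (show 1 ≤ q by omega)
    rw [Nat.add_sub_cancel]
    simp
  exact h2.dvd_of_dvd_mul_left (Dvd.intro _ h1.symm)

theorem card_psl_two {F : Type*} [Field F] [Fintype F] {q : ℕ} (hF : Fintype.card F = q) :
    ∃ g : ℕ, (g = 1 ∨ g = 2) ∧
      g * Nat.card (ProjectiveSpecialLinearGroup (Fin 2) F) = q * (q ^ 2 - 1) := by
  refine ⟨Nat.gcd 2 (q - 1), (Nat.dvd_prime Nat.prime_two).1 (Nat.gcd_dvd_left _ _), ?_⟩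
  rw [card_psl hF le_rfl]
  simp only [_root_.Nat.add_one_sub_one, _root_.mul_one, _root_.Order.lt_two_iff, _root_.zero_le, _root_.Nat.div_self, _root_.pow_one, _root_.Finset.range_one, _root_.Finset.prod_singleton, _root_.zero_add]

theorem card_psp {F : Type*} [Field F] [Fintype F] {q : ℕ} (hF : Fintype.card F = q) {m : ℕ} (hm : 1 ≤ m) :
    Nat.gcd 2 (q - 1) * Nat.card (PSp m F) = q ^ (m ^ 2) * ∏ i ∈ Finset.range m, (q ^ (2 * (i + 1)) - 1) := by
  have h1 := Cfsg.Agent.S0245.result hF m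
  have h2 := Cfsg.Agent.S0246.result hF m hm
  have h3 := Subgroup.card_mul_index (Subgroup.center ↥(Matrix.symplecticGroup (Fin m) F))
  rw [h1, h2] at h3
  exact h3

theorem up_psp {F : Type*} [Field F] [Fintype F] {q : ℕ} (hF : Fintype.card F = q) {m : ℕ} (hm : 1 ≤ m) :
    Nat.card (PSp m F) < q ^ (2 * m ^ 2 + m) := by
  have hq : 2 ≤ q := hF ▸ Fintype.one_lt_card
  have h1 := card_psp hF hm
  have h2 : 1 ≤ Nat.gcd 2 (q - 1) := Nat.gcd_pos_of_pos_left _ (by omega)
  have h3 : Nat.card (PSp m F) ≤ Nat.gcd 2 (q - 1) * Nat.card (PSp m F) := Nat.le_mul_of_pos_left _ h2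
  refine lt_of_le_of_lt h3 ?_
  rw [h1]
  have h4 : ∏ i ∈ Finset.range m, (q ^ (2 * (i + 1)) - 1) < q ^ (∑ i ∈ Finset.range m, 2 * (i + 1)) := by
    rw [← Finset.prod_pow_eq_pow_sum]
    refine Finset.prod_lt_prod_of_nonempty ?_ ?_ ⟨0, Finset.mem_range.2 (by omega)⟩
    · intro i _
      have : 2 ≤ q ^ (2 * (i + 1)) := le_trans hq (Nat.le_self_pow (by omega) q)
      omega
    · intro i _
      have : 1 ≤ q ^ (2 * (i + 1)) := Nat.one_le_pow _ _ (by omega)
      omega
  have h5 : ∀ m : ℕ, ∑ i ∈ Finset.range m, 2 * (i + 1) = m * (m + 1) := by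
    intro m
    induction m with
    | zero => rfl
    | succ m ih =>
      rw [Finset.sum_range_succ, ih]
      ring
  rw [h5] at h4
  have h6 : 2 * m ^ 2 + m = m ^ 2 + m * (m + 1) := by ring
  rw [h6, pow_add]
  exact Nat.mul_lt_mul_of_le_of_lt le_rfl h4 (Nat.pos_of_ne_zero (pow_ne_zero _ (by omega)))

theorem dvd_psp {F : Type*} [Field F] [Fintype F] {q : ℕ} (hF : Fintype.card F = q) {m : ℕ} (hm : 1 ≤ m) :
    q ^ (m ^ 2) ∣ Nat.card (PSp m F) := by
  have hq : 2 ≤ q := hF ▸ Fintype.one_lt_card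
  have h1 := card_psp hF hm
  have h2 : Nat.Coprime (q ^ (m ^ 2)) (Nat.gcd 2 (q - 1)) := by
    refine Nat.Coprime.pow_left _ ?_
    refine Nat.Coprime.coprime_dvd_right (Nat.gcd_dvd_right _ _) ?_
    obtain ⟨j, rfl⟩ := Nat.exists_eq_add_of_le' (show 1 ≤ q by omega)
    rw [Nat.add_sub_cancel]
    simp
  exact h2.dvd_of_dvd_mul_left (Dvd.intro _ h1.symm)

/-! ### exceptional groups and commutative groups -/

theorem card_exc {S : Type*} [Group S] (h : H106.RC.Exc S) :
    Nat.card S = 60 ∨ Nat.card S = 360 ∨ Nat.card S = 20160 := by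
  have key : ∀ n : ℕ, 2 ≤ n → Nat.card (alternatingGroup (Fin n)) = n.factorial / 2 := by
    intro n hn
    have : Nontrivial (Fin n) := Fin.nontrivial_iff_two_le.2 hn
    have h1 := nat_card_alternatingGroup (α := Fin n)
    rw [h1, Nat.card_fin]
  rcases h with ⟨⟨e⟩⟩ | ⟨⟨e⟩⟩ | ⟨⟨e⟩⟩
  · left; rw [Nat.card_congr e.toEquiv, key 5 (by norm_num)]; rfl
  · right; left; rw [Nat.card_congr e.toEquiv, key 6 (by norm_num)]; rfl
  · right; right; rw [Nat.card_congr e.toEquiv, key 8 (by norm_num)]; rfl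

theorem dvd_exc {S : Type*} [Group S] (h : H106.RC.Exc S) : Nat.card S ∣ 20160 := by
  rcases card_exc h with h | h | h <;> rw [h]
  · exact ⟨336, rfl⟩
  · exact ⟨56, rfl⟩

theorem prime_of_comm {S : Type*} [Group S] [Finite S] (hs : IsSimpleGroup S) (h : IsMulCommutative S) :
    (Nat.card S).Prime := by
  let _ : CommGroup S := { (inferInstance : Group S) with mul_comm := fun a b => h.is_comm.comm a b }
  exact IsSimpleGroup.prime_card

theorem not_comm_of_cube {S : Type*} [Group S] [Finite S] (hs : IsSimpleGroup S) {s : ℕ} (h2 : 2 ≤ s)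
    (hd : s ^ 3 ∣ Nat.card S) : ¬ IsMulCommutative S := by
  intro h
  have hp := prime_of_comm hs h
  have h1 : s ∣ Nat.card S := (dvd_pow_self s (by norm_num)).trans hd
  rcases (Nat.dvd_prime hp).1 h1 with h3 | h3
  · omega
  · have h4 : s ^ 2 ∣ Nat.card S := (pow_dvd_pow s (by norm_num)).trans hd
    have h5 := Nat.le_of_dvd Nat.card_pos h4
    rw [← h3] at h5
    nlinarith

theorem rc_psu {K : Type} [Field K] [Fintype K] {m s N : ℕ} (hK : Fintype.card K = s ^ 2) (hm : 3 ≤ m)
    (h32 : ¬ (m = 3 ∧ s = 2)) (hIH : H106.RC.IH N) (hlt : Nat.card (PSU m K s) < N) : H106.RC.RC (PSU m K s) := by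
  have hs2 := two_le_of_card hK
  have hsimple : IsSimpleGroup (PSU m K s) := Cfsg.Agent.S0283.result hK m hm h32
  have htri := tri_even m
  have h3 : 3 ≤ m * (m - 1) / 2 := by
    have : 3 * 2 ≤ m * (m - 1) := Nat.mul_le_mul hm (by omega)
    omega
  have hd := dvd_psu hK hm
  have hd3 : s ^ 3 ∣ Nat.card (PSU m K s) := (pow_dvd_pow s h3).trans hd
  refine hIH _ hsimple (not_comm_of_cube hsimple hs2 hd3)
    (Or.inr (Or.inr (Or.inl ⟨K, _, _, m, s, hK, hm, h32, ⟨MulEquiv.refl _⟩⟩))) ?_ hlt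
  intro hE
  have h4 := hd.trans (dvd_exc hE)
  have h5 := hd3.trans (dvd_exc hE)
  have h6 : s = 2 ∨ s = 4 := by
    have h7 := Nat.le_of_dvd (by norm_num) h5
    have h8 : s ≤ 27 := by
      by_contra h
      have : 28 ^ 3 ≤ s ^ 3 := Nat.pow_le_pow_left (by omega) 3
      omega
    interval_cases s <;> revert h5 <;> decide
  have hcard := card_psu hK hm
  have hexc := card_exc hE
  rcases h6 with rfl | rfl
  · have hm4 : m = 4 := by
      by_contra hne
      have h7 : 10 ≤ m * (m - 1) / 2 := by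
        have : 5 * 4 ≤ m * (m - 1) := Nat.mul_le_mul (by omega) (by omega)
        omega
      have h8 := (pow_dvd_pow 2 h7).trans h4
      revert h8
      decide
    subst hm4
    have h9 : ∏ i ∈ Finset.range (4 - 1), fu 2 i = 405 := by decide
    rw [h9, show Nat.gcd 4 (2 + 1) = 1 by decide] at hcard
    omega
  · have hm4 : m = 3 := by
      by_contra hne
      have h7 : 6 ≤ m * (m - 1) / 2 := by
        have : 4 * 3 ≤ m * (m - 1) := Nat.mul_le_mul (by omega) (by omega)
        omega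
      have h8 := (pow_dvd_pow 4 h7).trans h4
      revert h8
      decide
    subst hm4
    have h9 : ∏ i ∈ Finset.range (3 - 1), fu 4 i = 975 := by decide
    rw [h9, show Nat.gcd 3 (4 + 1) = 1 by decide] at hcard
    omega

theorem not_exc_psl_three {K : Type} [Field K] [Fintype K] (hK : Fintype.card K = 4) :
    ¬ H106.RC.Exc (ProjectiveSpecialLinearGroup (Fin 3) K) := by
  have hcard := card_psl hK (n := 3) (by norm_num)
  have h9 : ∏ i ∈ Finset.range (3 - 1), (4 ^ (i + 2) - 1) = 945 := by decide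
  rw [h9, show Nat.gcd 3 (4 - 1) = 3 by decide] at hcard
  have hc : Nat.card (ProjectiveSpecialLinearGroup (Fin 3) K) = 20160 := by omega
  have h2 : Fintype.card (ZMod 2) = 2 := ZMod.card 2
  rintro (⟨⟨e⟩⟩ | ⟨⟨e⟩⟩ | ⟨⟨e⟩⟩)
  · have := card_exc (S := ProjectiveSpecialLinearGroup (Fin 3) K) (Or.inl ⟨e⟩)
    have h3 := Nat.card_congr e.toEquiv
    rw [hc, nat_card_alternatingGroup, Nat.card_fin] at h3
    revert h3
    decide
  · have h3 := Nat.card_congr e.toEquiv
    rw [hc, nat_card_alternatingGroup, Nat.card_fin] at h3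
    revert h3
    decide
  · obtain ⟨e'⟩ := Cfsg.Agent.S0256.result (F := ZMod 2) h2
    exact (Cfsg.Agent.S2550.result (F := ZMod 2) h2 hK).2 ⟨e'.trans e.symm⟩

theorem rc_psl {K : Type} [Field K] [Fintype K] {Q d N : ℕ} (hK : Fintype.card K = Q) (hd : 3 ≤ d) (hQ : 4 ≤ Q)
    (hIH : H106.RC.IH N) (hlt : Nat.card (ProjectiveSpecialLinearGroup (Fin d) K) < N) :
    H106.RC.RC (ProjectiveSpecialLinearGroup (Fin d) K) := by
  have hsimple : IsSimpleGroup (ProjectiveSpecialLinearGroup (Fin d) K) := Cfsg.Agent.S0249.result d hd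
  have hfin : Finite (ProjectiveSpecialLinearGroup (Fin d) K) := by
    unfold Matrix.ProjectiveSpecialLinearGroup
    infer_instance
  have htri := tri_even d
  have h3 : 3 ≤ d * (d - 1) / 2 := by
    have : 3 * 2 ≤ d * (d - 1) := Nat.mul_le_mul hd (by omega)
    omega
  have hdv := dvd_psl hK (n := d) (by omega)
  have hd3 := (pow_dvd_pow Q h3).trans hdv
  refine hIH _ hsimple (not_comm_of_cube hsimple (by omega) hd3)
    (Or.inl ⟨K, inferInstance, inferInstance, d, by omega, fun h => absurd h (by omega), ⟨MulEquiv.refl _⟩⟩) ?_ hlt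
  intro hE
  have h4 := hdv.trans (dvd_exc hE)
  have h5 := hd3.trans (dvd_exc hE)
  have h6 : Q = 4 := by
    have h7 := Nat.le_of_dvd (by norm_num) h5
    have h8 : Q ≤ 27 := by
      by_contra h
      have : 28 ^ 3 ≤ Q ^ 3 := Nat.pow_le_pow_left (by omega) 3
      omega
    clear hK hd3 hdv h4
    interval_cases Q <;> revert h5 <;> decide
  subst h6
  have hm4 : d = 3 := by
    by_contra hne
    have h7 : 6 ≤ d * (d - 1) / 2 := by
      have : 4 * 3 ≤ d * (d - 1) := Nat.mul_le_mul (by omega) (by omega)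
      omega
    have h8 := (pow_dvd_pow 4 h7).trans h4
    revert h8
    decide
  subst hm4
  exact not_exc_psl_three hK hE

theorem rc_psl_two {K : Type} [Field K] [Fintype K] {Q N : ℕ} (hK : Fintype.card K = Q) (hQ : 4 ≤ Q) (hQ4 : Q ≠ 4)
    (hQ5 : Q ≠ 5) (hQ9 : Q ≠ 9) (hIH : H106.RC.IH N)
    (hlt : Nat.card (ProjectiveSpecialLinearGroup (Fin 2) K) < N) :
    H106.RC.RC (ProjectiveSpecialLinearGroup (Fin 2) K) := by
  have hsimple : IsSimpleGroup (ProjectiveSpecialLinearGroup (Fin 2) K) :=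
    Cfsg.Agent.TwoFusion.SLTwoFacts.isSimpleGroup_psl (by omega)
  have hfin : Finite (ProjectiveSpecialLinearGroup (Fin 2) K) := by
    unfold Matrix.ProjectiveSpecialLinearGroup
    infer_instance
  obtain ⟨g, hg, hcard⟩ := card_psl_two hK
  have hsq : Q ^ 2 - 1 = (Q - 1) * (Q + 1) := by
    obtain ⟨j, rfl⟩ := Nat.exists_eq_add_of_le' (show 1 ≤ Q by omega)
    rw [Nat.add_sub_cancel, show (j + 1) ^ 2 = j * (j + 1 + 1) + 1 by ring, Nat.add_sub_cancel]
  refine hIH _ hsimple ?_ (Or.inl ⟨K, inferInstance, inferInstance, 2, le_rfl, fun _ => hK ▸ hQ, ⟨MulEquiv.refl _⟩⟩) ?_ hlt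
  · intro h
    have hp := prime_of_comm hsimple h
    have h1 : Nat.card (ProjectiveSpecialLinearGroup (Fin 2) K) ∣ Q * ((Q - 1) * (Q + 1)) := by
      rw [← hsq, ← hcard]
      exact Dvd.intro_left _ rfl
    have h2 : Nat.card (ProjectiveSpecialLinearGroup (Fin 2) K) ≤ Q + 1 := by
      rcases (Nat.Prime.dvd_mul hp).1 h1 with h2 | h2
      · have := Nat.le_of_dvd (by omega) h2
        omega
      · rcases (Nat.Prime.dvd_mul hp).1 h2 with h3 | h3
        · have := Nat.le_of_dvd (by omega) h3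
          omega
        · exact Nat.le_of_dvd (by omega) h3
    have h3 : g * Nat.card (ProjectiveSpecialLinearGroup (Fin 2) K) ≤ 2 * (Q + 1) :=
      Nat.mul_le_mul (by omega) h2
    rw [hcard, hsq] at h3
    have h4 : 4 * (3 * (Q + 1)) ≤ Q * ((Q - 1) * (Q + 1)) :=
      Nat.mul_le_mul hQ (Nat.mul_le_mul_right _ (by omega))
    omega
  · intro hE
    have hexc := card_exc hE
    have h5 : Q * (Q ^ 2 - 1) ≤ 40320 := by
      rw [← hcard]
      rcases hg with rfl | rfl <;> omega
    have h6 : Q ≤ 34 := by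
      by_contra h
      have h7 : 35 * (35 ^ 2 - 1) ≤ Q * (Q ^ 2 - 1) :=
        Nat.mul_le_mul (by omega) (Nat.sub_le_sub_right (Nat.pow_le_pow_left (by omega) 2) 1)
      omega
    clear hsq hlt hK hE
    interval_cases Q <;> norm_num only [] at hcard <;> rcases hg with rfl | rfl <;> (clear * - hQ4 hQ5 hQ9 hexc hcard; omega)

theorem rc_psp {K : Type} [Field K] [Fintype K] {Q m N : ℕ} (hK : Fintype.card K = Q) (hm : 2 ≤ m)
    (h22 : ¬ (m = 2 ∧ Q = 2)) (hIH : H106.RC.IH N) (hlt : Nat.card (PSp m K) < N) : H106.RC.RC (PSp m K) := by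
  have hQ : 2 ≤ Q := hK ▸ Fintype.one_lt_card
  have h3 : m = 2 → 3 ≤ Fintype.card K := by
    intro h
    rw [hK]
    by_contra h'
    exact h22 ⟨h, by omega⟩
  have hsimple : IsSimpleGroup (PSp m K) := Cfsg.Agent.S0270.result m hm h3
  have hdv := dvd_psp hK (m := m) (by omega)
  have h4 : 4 ≤ m ^ 2 := by nlinarith only [hm]
  refine hIH _ hsimple (not_comm_of_cube hsimple hQ ((pow_dvd_pow Q (by omega)).trans hdv))
    (Or.inr (Or.inl ⟨K, _, _, m, hm, h3, ⟨MulEquiv.refl _⟩⟩)) ?_ hlt
  intro hE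
  have h5 := ((pow_dvd_pow Q h4).trans hdv).trans (dvd_exc hE)
  have h6 : Q = 2 := by
    have h7 := Nat.le_of_dvd (by norm_num) h5
    have h8 : Q ≤ 11 := by
      by_contra h
      have : 12 ^ 4 ≤ Q ^ 4 := Nat.pow_le_pow_left (by omega) 4
      omega
    clear hK hdv h22
    interval_cases Q <;> revert h5 <;> decide
  subst h6
  have hm3 : 3 ≤ m := by
    by_contra h
    exact h22 ⟨by omega, rfl⟩
  have h7 : 9 ≤ m ^ 2 := by nlinarith only [hm3]
  have h8 := ((pow_dvd_pow 2 h7).trans hdv).trans (dvd_exc hE)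
  revert h8
  decide

theorem lt_psu {F : Type*} [Field F] [Fintype F] {q n : ℕ} (hF : Fintype.card F = q ^ 2) (hn : 3 ≤ n) {X e : ℕ}
    (hX : X < q ^ e) (he : e + 2 ≤ n * (n - 1)) : X < Nat.card (PSU n F q) := by
  have hq := two_le_of_card hF
  have h1 := low_psu hF hn
  have h2 : q ^ 2 * X < q ^ 2 * q ^ e := Nat.mul_lt_mul_of_pos_left hX (Nat.pos_of_ne_zero (pow_ne_zero _ (by omega)))
  have h3 : q ^ 2 * q ^ e ≤ q ^ (n * (n - 1)) := by
    rw [← pow_add]
    exact Nat.pow_le_pow_right (by omega) (by omega)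
  exact lt_of_mul_lt_mul_left (h2.trans_le (h3.trans h1)) (Nat.zero_le _)

/-- **E16** -/
theorem small_stmt : H380.RC.SmallStmt := by
  intro F _ _ n q hF hn h32 hIH
  have hq := two_le_of_card hF
  obtain ⟨n', rfl⟩ := Nat.exists_eq_add_of_le' hn
  refine ⟨?_, ?_, ?_, ?_, ?_, ?_, ?_⟩
  · intro m hm hmn h
    refine rc_psu hF hm h hIH (lt_psu hF hn (up_psu hF hm) ?_)
    have h1 : m ^ 2 ≤ (n' + 2) ^ 2 := Nat.pow_le_pow_left (by omega) 2
    have h2 : (n' + 3) * (n' + 3 - 1) = (n' + 2) ^ 2 + (n' + 2) := by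
      rw [show n' + 3 - 1 = n' + 2 by omega]
      ring
    omega
  · intro K _ _ l m hnm hl hm hK
    have hQ2 : 2 < q ^ l := by
      have : q ^ 2 ≤ q ^ l := Nat.pow_le_pow_right (by omega) (by omega)
      nlinarith only [hq, this]
    refine rc_psu hK hm (fun h => by omega) hIH (lt_psu hF hn (e := l * (m ^ 2 - 1)) ?_ ?_)
    · rw [pow_mul]
      exact up_psu hK hm
    · rw [hnm]
      obtain ⟨a, rfl⟩ := Nat.exists_eq_add_of_le' hl
      obtain ⟨b, rfl⟩ := Nat.exists_eq_add_of_le' hm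
      have h1 : (b + 3) * (a + 3) - 1 = (b + 3) * (a + 3) - 1 := rfl
      have h2 : 1 ≤ (b + 3) * (a + 3) := by linarith only [hnm]
      have h3 : 1 ≤ (b + 3) ^ 2 := Nat.one_le_pow _ _ (by omega)
      zify [h2, h3]
      nlinarith only [Nat.zero_le (a * b), Nat.zero_le (a * b * b), Nat.zero_le (a * a * b * b), Nat.zero_le (a * a * b)]
  · intro K _ _ l hnl hl hK
    have hQ8 : 2 ^ 3 ≤ q ^ l := (Nat.pow_le_pow_left hq 3).trans (Nat.pow_le_pow_right (by omega) hl)
    refine rc_psl_two hK (by omega) (by omega) (by omega) ?_ hIH (lt_psu hF hn (e := l * 3) ?_ ?_)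
    · intro h9
      have h1 : q ^ 3 ∣ 9 := by
        rw [← h9]
        exact pow_dvd_pow q hl
      have h2 := Nat.le_of_dvd (by norm_num) h1
      have h3 : q ≤ 2 := by
        by_contra h
        have : 3 ^ 3 ≤ q ^ 3 := Nat.pow_le_pow_left (by omega) 3
        omega
      have h4 : q = 2 := by omega
      subst h4
      revert h1
      decide
    · rw [pow_mul]
      exact up_psl hK le_rfl
    · rw [hnl]
      obtain ⟨a, rfl⟩ := Nat.exists_eq_add_of_le' hl
      have h2 : 2 * (a + 3) - 1 = 2 * a + 5 := by omega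
      rw [h2]
      nlinarith only []
  · intro d hnd hd
    have hd2 : 2 ≤ d := by omega
    have hlt : Nat.card (ProjectiveSpecialLinearGroup (Fin d) F) < Nat.card (PSU (n' + 3) F q) := by
      refine lt_psu hF hn (e := 2 * (d ^ 2 - 1)) ?_ ?_
      · rw [pow_mul]
        exact up_psl hF hd2
      · rw [hnd]
        have h1 : 1 ≤ d ^ 2 := Nat.one_le_pow _ _ (by omega)
        have h2 : 2 * (d ^ 2 - 1) + 2 = 2 * d ^ 2 := by omega
        rw [h2]
        obtain ⟨a, rfl⟩ := Nat.exists_eq_add_of_le' hd2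
        have h3 : 2 * (a + 2) - 1 = 2 * a + 3 := by omega
        rw [h3]
        nlinarith only []
    by_cases hd' : d = 2
    · subst hd'
      have hq4 : 4 ≤ q := by
        by_contra h
        exact hd ⟨rfl, by omega⟩
      have : 16 ≤ q ^ 2 := by nlinarith only [hq4]
      exact rc_psl_two hF (by omega) (by omega) (by omega) (by omega) hIH hlt
    · have : 4 ≤ q ^ 2 := by nlinarith only [hq]
      exact rc_psl hF (by omega) this hIH hlt
  · intro K _ _ s t hqs ht hK h
    have hs2 := two_le_of_card hK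
    refine rc_psu hK hn h hIH (lt_psu hF hn (e := (n' + 3) * (n' + 3 - 1) - 2) ?_ ?_)
    · refine (up_psu hK hn).trans_le ?_
      rw [hqs, ← pow_mul]
      refine Nat.pow_le_pow_right (by omega) ?_
      have h1 : (n' + 3) ^ 2 - 1 ≤ 2 * ((n' + 3) * (n' + 3 - 1) - 2) := by
        rw [show n' + 3 - 1 = n' + 2 by omega]
        have h2 : (n' + 3) ^ 2 - 1 = n' * n' + 6 * n' + 8 := by
          rw [show (n' + 3) ^ 2 = n' * n' + 6 * n' + 8 + 1 by ring, Nat.add_sub_cancel]
        have h3 : (n' + 3) * (n' + 2) - 2 = n' * n' + 5 * n' + 4 := by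
          rw [show (n' + 3) * (n' + 2) = n' * n' + 5 * n' + 4 + 2 by ring, Nat.add_sub_cancel]
        rw [h2, h3]
        linarith only [_root_.mul_self_nonneg (↑n' : ℤ), _root_.Nat.cast_nonneg (α := ℤ) (n')]
      exact h1.trans (Nat.mul_le_mul_right _ (by omega))
    · have : 6 ≤ (n' + 3) * (n' + 3 - 1) := by
        rw [show n' + 3 - 1 = n' + 2 by omega]
        nlinarith only []
      omega
  · intro K _ _ hK h4 hq4 hq5 hq9
    refine rc_psl_two hK h4 hq4 hq5 hq9 hIH (lt_psu hF hn (e := 3) ?_ ?_)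
    · exact up_psl hK le_rfl
    · rw [show n' + 3 - 1 = n' + 2 by omega]
      nlinarith only []
  · intro K _ _ m hK hnm h22
    have hm2 : 2 ≤ m := by omega
    refine rc_psp hK hm2 h22 hIH (lt_psu hF hn (up_psp hK (by omega)) ?_)
    rw [hnm]
    obtain ⟨a, rfl⟩ := Nat.exists_eq_add_of_le' hm2
    have h3 : 2 * (a + 2) - 1 = 2 * a + 3 := by omega
    rw [h3]
    nlinarith only []

/-! ### E0 -/

/-- all members of the family are powers of one element -/
theorem exists_gen {G ι : Type*} [Group G] [Finite ι] {x : ι → G} {r : ι → ℕ} (h : H106.RC.PF x r) :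
    ∃ g : G, ∀ i, ∃ e : ℕ, g ^ e = x i := by
  classical
  have := Fintype.ofFinite ι
  let _ : CommGroup (Subgroup.closure (Set.range x)) := Subgroup.closureCommGroupOfComm (by
    rintro _ ⟨i, rfl⟩ _ ⟨j, rfl⟩
    exact h.comm i j)
  let y : ι → Subgroup.closure (Set.range x) := fun i => ⟨x i, Subgroup.subset_closure ⟨i, rfl⟩⟩
  have hy : ∀ i, y i ^ r i = 1 := fun i => Subtype.ext (h.pow i)
  refine ⟨((∏ i, y i : Subgroup.closure (Set.range x)) : G), fun i => ?_⟩
  have hco : Nat.Coprime (∏ j ∈ Finset.univ.erase i, r j) (r i) := by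
    refine Nat.Coprime.prod_left fun j hj => ?_
    exact (Nat.coprime_primes (h.prime j) (h.prime i)).2 fun h' => Finset.ne_of_mem_erase hj (h.inj h')
  obtain ⟨d, hd⟩ := Nat.exists_mul_mod_eq_one_of_coprime hco (h.prime i).one_lt
  refine ⟨(∏ j ∈ Finset.univ.erase i, r j) * d, ?_⟩
  have key : (∏ i, y i) ^ ((∏ j ∈ Finset.univ.erase i, r j) * d) = y i := by
    rw [← Finset.prod_pow, Finset.prod_eq_single i]
    · have h1 := Nat.div_add_mod ((∏ j ∈ Finset.univ.erase i, r j) * d) (r i)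
      rw [hd.2] at h1
      rw [← h1, pow_add, pow_mul, hy, one_pow, one_mul, pow_one]
    · intro j _ hji
      obtain ⟨c, hc⟩ : r j ∣ (∏ j ∈ Finset.univ.erase i, r j) * d :=
        (Finset.dvd_prod_of_mem r (Finset.mem_erase.2 ⟨hji, Finset.mem_univ j⟩)).mul_right d
      rw [hc, pow_mul, hy, one_pow]
    · intro hi
      exact absurd (Finset.mem_univ i) hi
  exact congrArg Subtype.val key

/-- **E0** -/
theorem lift_stmt : H380.RC.LiftStmt := by
  intro G Ω _ _ _ N F _ _ n q U ι _ x r h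
  obtain ⟨g, hg⟩ := exists_gen h
  choose e he using hg
  obtain ⟨f0, hf0⟩ := U.exists_lft g
  have hbij : Function.Bijective f0 := ⟨H380.RC.Ind.injective hf0.ind, H380.RC.Ind.surjective hf0.ind⟩
  let P : Equiv.Perm (Fin n → F) := Equiv.ofBijective f0 hbij
  have hP : ∀ k : ℕ, (⇑(P ^ k)) = f0^[k] := fun k => (Equiv.Perm.iterate_eq_pow P k).symm
  set m := orderOf P with hm
  have hm0 : 0 < m := orderOf_pos P
  -- the exponents
  have hex : ∀ i, ∃ k : ℕ, g ^ k = x i ∧ ∃ a : ℕ, m ∣ k * r i ^ a := by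
    intro i
    obtain ⟨a, b, hb, hab⟩ := Nat.exists_eq_pow_mul_and_not_dvd hm0.ne' (r i) (h.prime i).one_lt.ne'
    have hco : Nat.Coprime b (r i) := ((Nat.Prime.coprime_iff_not_dvd (h.prime i)).2 hb).symm
    obtain ⟨c, hc⟩ := Nat.exists_mul_mod_eq_one_of_coprime hco (h.prime i).one_lt
    refine ⟨e i * (b * c), ?_, a, ?_⟩
    · rw [pow_mul, he]
      have h1 := Nat.div_add_mod (b * c) (r i)
      rw [hc.2] at h1
      rw [← h1, pow_add, pow_mul, h.pow, one_pow, one_mul, pow_one]
    · rw [hab]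
      exact ⟨e i * c, by ring⟩
  choose k hk a ha using hex
  refine ⟨fun i => f0^[k i], h, fun i => ?_, fun i j v => ?_, fun i => ⟨a i, fun v => ?_⟩⟩
  · have h1 := hf0.pow (k i)
    rwa [hk] at h1
  · rw [← Function.iterate_add_apply, ← Function.iterate_add_apply, add_comm]
  · rw [← Function.iterate_mul, ← hP]
    obtain ⟨c, hc⟩ := ha i
    rw [hc, pow_mul, hm, pow_orderOf_eq_one, one_pow]
    rfl

end Cfsg.Agent.H906.RC
end
end
end
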